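import Cfsg.Agent.Lib.PermComp.OutP.Ru.Data

set_option autoImplicit false
set_option maxRecDepth 100000
set_option maxHeartbeats 0
set_option Elab.async false

namespace Cfsg.Agent.Lib.PermComp.OutP.Ru

open Cfsg Cfsg.Agent.Lib.PermComp.OutP
open Cfsg.Agent.Lib.PermComp.Core (force)
open Cfsg.Agent.Lib.PermComp.Kron (rangeAll rangeAll_spec)

theorem r2_c0_0 : rangeAll (fun i => relAny (powA (F 0) 2) (DD.v F i) (R2.getD 0 (0, [])).2) 0 10000 = true := by decide +kernel
theorem r2_c0_1 : rangeAll (fun i => relAny (powA (F 0) 2) (DD.v F i) (R2.getD 0 (0, [])).2) 10000 10000 = true := by decide +kernel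
theorem r2_c0_2 : rangeAll (fun i => relAny (powA (F 0) 2) (DD.v F i) (R2.getD 0 (0, [])).2) 20000 10000 = true := by decide +kernel
theorem r2_c0_3 : rangeAll (fun i => relAny (powA (F 0) 2) (DD.v F i) (R2.getD 0 (0, [])).2) 30000 10000 = true := by decide +kernel
theorem r2_c0_4 : rangeAll (fun i => relAny (powA (F 0) 2) (DD.v F i) (R2.getD 0 (0, [])).2) 40000 10000 = true := by decide +kernel
theorem r2_c0_5 : rangeAll (fun i => relAny (powA (F 0) 2) (DD.v F i) (R2.getD 0 (0, [])).2) 50000 10000 = true := by decide +kernel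
theorem r2_c0_6 : rangeAll (fun i => relAny (powA (F 0) 2) (DD.v F i) (R2.getD 0 (0, [])).2) 60000 10000 = true := by decide +kernel
theorem r2_c0_7 : rangeAll (fun i => relAny (powA (F 0) 2) (DD.v F i) (R2.getD 0 (0, [])).2) 70000 10000 = true := by decide +kernel
theorem r2_c0_8 : rangeAll (fun i => relAny (powA (F 0) 2) (DD.v F i) (R2.getD 0 (0, [])).2) 80000 10000 = true := by decide +kernel
theorem r2_c0_9 : rangeAll (fun i => relAny (powA (F 0) 2) (DD.v F i) (R2.getD 0 (0, [])).2) 90000 10000 = true := by decide +kernel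
theorem r2_c0_10 : rangeAll (fun i => relAny (powA (F 0) 2) (DD.v F i) (R2.getD 0 (0, [])).2) 100000 10000 = true := by decide +kernel
theorem r2_c0_11 : rangeAll (fun i => relAny (powA (F 0) 2) (DD.v F i) (R2.getD 0 (0, [])).2) 110000 10000 = true := by decide +kernel
theorem r2_c0_12 : rangeAll (fun i => relAny (powA (F 0) 2) (DD.v F i) (R2.getD 0 (0, [])).2) 120000 10000 = true := by decide +kernel
theorem r2_c0_13 : rangeAll (fun i => relAny (powA (F 0) 2) (DD.v F i) (R2.getD 0 (0, [])).2) 130000 10000 = true := by decide +kernel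
theorem r2_c0_14 : rangeAll (fun i => relAny (powA (F 0) 2) (DD.v F i) (R2.getD 0 (0, [])).2) 140000 10000 = true := by decide +kernel
end Cfsg.Agent.Lib.PermComp.OutP.Ru
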