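import Cfsg.Agent.Lib.PermComp.OutP.Ru.Data

set_option autoImplicit false
set_option maxRecDepth 100000
set_option maxHeartbeats 0
set_option Elab.async false

namespace Cfsg.Agent.Lib.PermComp.OutP.Ru

open Cfsg Cfsg.Agent.Lib.PermComp.OutP
open Cfsg.Agent.Lib.PermComp.Core (force)
open Cfsg.Agent.Lib.PermComp.Kron (rangeAll rangeAll_spec)

theorem r2_c0_15 : rangeAll (fun i => relAny (powA (F 0) 2) (DD.v F i) (R2.getD 0 (0, [])).2) 150000 10000 = true := by decide +kernel
theorem r2_c0_16 : rangeAll (fun i => relAny (powA (F 0) 2) (DD.v F i) (R2.getD 0 (0, [])).2) 160000 10000 = true := by decide +kernel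
theorem r2_c0_17 : rangeAll (fun i => relAny (powA (F 0) 2) (DD.v F i) (R2.getD 0 (0, [])).2) 170000 10000 = true := by decide +kernel
theorem r2_c0_18 : rangeAll (fun i => relAny (powA (F 0) 2) (DD.v F i) (R2.getD 0 (0, [])).2) 180000 10000 = true := by decide +kernel
theorem r2_c0_19 : rangeAll (fun i => relAny (powA (F 0) 2) (DD.v F i) (R2.getD 0 (0, [])).2) 190000 10000 = true := by decide +kernel
theorem r2_c0_20 : rangeAll (fun i => relAny (powA (F 0) 2) (DD.v F i) (R2.getD 0 (0, [])).2) 200000 10000 = true := by decide +kernel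
theorem r2_c0_21 : rangeAll (fun i => relAny (powA (F 0) 2) (DD.v F i) (R2.getD 0 (0, [])).2) 210000 10000 = true := by decide +kernel
theorem r2_c0_22 : rangeAll (fun i => relAny (powA (F 0) 2) (DD.v F i) (R2.getD 0 (0, [])).2) 220000 10000 = true := by decide +kernel
theorem r2_c0_23 : rangeAll (fun i => relAny (powA (F 0) 2) (DD.v F i) (R2.getD 0 (0, [])).2) 230000 10000 = true := by decide +kernel
theorem r2_c0_24 : rangeAll (fun i => relAny (powA (F 0) 2) (DD.v F i) (R2.getD 0 (0, [])).2) 240000 10000 = true := by decide +kernel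
theorem r2_c0_25 : rangeAll (fun i => relAny (powA (F 0) 2) (DD.v F i) (R2.getD 0 (0, [])).2) 250000 10000 = true := by decide +kernel
theorem r2_c0_26 : rangeAll (fun i => relAny (powA (F 0) 2) (DD.v F i) (R2.getD 0 (0, [])).2) 260000 10000 = true := by decide +kernel
theorem r2_c0_27 : rangeAll (fun i => relAny (powA (F 0) 2) (DD.v F i) (R2.getD 0 (0, [])).2) 270000 10000 = true := by decide +kernel
theorem r2_c0_28 : rangeAll (fun i => relAny (powA (F 0) 2) (DD.v F i) (R2.getD 0 (0, [])).2) 280000 10000 = true := by decide +kernel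
theorem r2_c0_29 : rangeAll (fun i => relAny (powA (F 0) 2) (DD.v F i) (R2.getD 0 (0, [])).2) 290000 10000 = true := by decide +kernel
end Cfsg.Agent.Lib.PermComp.OutP.Ru
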