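import Cfsg.Agent.Lib.PermComp.OutP.Ru.Data

set_option autoImplicit false
set_option maxRecDepth 100000
set_option maxHeartbeats 0
set_option Elab.async false

namespace Cfsg.Agent.Lib.PermComp.OutP.Ru

open Cfsg Cfsg.Agent.Lib.PermComp.OutP
open Cfsg.Agent.Lib.PermComp.Core (force)
open Cfsg.Agent.Lib.PermComp.Kron (rangeAll rangeAll_spec)

theorem r2_c0_30 : rangeAll (fun i => relAny (powA (F 0) 2) (DD.v F i) (R2.getD 0 (0, [])).2) 300000 10000 = true := by decide +kernel
theorem r2_c0_31 : rangeAll (fun i => relAny (powA (F 0) 2) (DD.v F i) (R2.getD 0 (0, [])).2) 310000 10000 = true := by decide +kernel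
theorem r2_c0_32 : rangeAll (fun i => relAny (powA (F 0) 2) (DD.v F i) (R2.getD 0 (0, [])).2) 320000 10000 = true := by decide +kernel
theorem r2_c0_33 : rangeAll (fun i => relAny (powA (F 0) 2) (DD.v F i) (R2.getD 0 (0, [])).2) 330000 10000 = true := by decide +kernel
theorem r2_c0_34 : rangeAll (fun i => relAny (powA (F 0) 2) (DD.v F i) (R2.getD 0 (0, [])).2) 340000 10000 = true := by decide +kernel
theorem r2_c0_35 : rangeAll (fun i => relAny (powA (F 0) 2) (DD.v F i) (R2.getD 0 (0, [])).2) 350000 10000 = true := by decide +kernel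
theorem r2_c0_36 : rangeAll (fun i => relAny (powA (F 0) 2) (DD.v F i) (R2.getD 0 (0, [])).2) 360000 10000 = true := by decide +kernel
theorem r2_c0_37 : rangeAll (fun i => relAny (powA (F 0) 2) (DD.v F i) (R2.getD 0 (0, [])).2) 370000 10000 = true := by decide +kernel
theorem r2_c0_38 : rangeAll (fun i => relAny (powA (F 0) 2) (DD.v F i) (R2.getD 0 (0, [])).2) 380000 10000 = true := by decide +kernel
theorem r2_c0_39 : rangeAll (fun i => relAny (powA (F 0) 2) (DD.v F i) (R2.getD 0 (0, [])).2) 390000 10000 = true := by decide +kernel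
theorem r2_c0_40 : rangeAll (fun i => relAny (powA (F 0) 2) (DD.v F i) (R2.getD 0 (0, [])).2) 400000 10000 = true := by decide +kernel
theorem r2_c0_41 : rangeAll (fun i => relAny (powA (F 0) 2) (DD.v F i) (R2.getD 0 (0, [])).2) 410000 10000 = true := by decide +kernel
theorem r2_c0_42 : rangeAll (fun i => relAny (powA (F 0) 2) (DD.v F i) (R2.getD 0 (0, [])).2) 420000 10000 = true := by decide +kernel
theorem r2_c0_43 : rangeAll (fun i => relAny (powA (F 0) 2) (DD.v F i) (R2.getD 0 (0, [])).2) 430000 10000 = true := by decide +kernel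
theorem r2_c0_44 : rangeAll (fun i => relAny (powA (F 0) 2) (DD.v F i) (R2.getD 0 (0, [])).2) 440000 10000 = true := by decide +kernel
end Cfsg.Agent.Lib.PermComp.OutP.Ru
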