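import Cfsg.Agent.Lib.PermComp.OutP.Ru.Data

set_option autoImplicit false
set_option maxRecDepth 100000
set_option maxHeartbeats 0
set_option Elab.async false

namespace Cfsg.Agent.Lib.PermComp.OutP.Ru

open Cfsg Cfsg.Agent.Lib.PermComp.OutP
open Cfsg.Agent.Lib.PermComp.Core (force)
open Cfsg.Agent.Lib.PermComp.Kron (rangeAll rangeAll_spec)

theorem r2_c0_45 : rangeAll (fun i => relAny (powA (F 0) 2) (DD.v F i) (R2.getD 0 (0, [])).2) 450000 10000 = true := by decide +kernel
theorem r2_c0_46 : rangeAll (fun i => relAny (powA (F 0) 2) (DD.v F i) (R2.getD 0 (0, [])).2) 460000 10000 = true := by decide +kernel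
theorem r2_c0_47 : rangeAll (fun i => relAny (powA (F 0) 2) (DD.v F i) (R2.getD 0 (0, [])).2) 470000 10000 = true := by decide +kernel
theorem r2_c0_48 : rangeAll (fun i => relAny (powA (F 0) 2) (DD.v F i) (R2.getD 0 (0, [])).2) 480000 10000 = true := by decide +kernel
theorem r2_c0_49 : rangeAll (fun i => relAny (powA (F 0) 2) (DD.v F i) (R2.getD 0 (0, [])).2) 490000 10000 = true := by decide +kernel
theorem r2_c0_50 : rangeAll (fun i => relAny (powA (F 0) 2) (DD.v F i) (R2.getD 0 (0, [])).2) 500000 10000 = true := by decide +kernel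
theorem r2_c0_51 : rangeAll (fun i => relAny (powA (F 0) 2) (DD.v F i) (R2.getD 0 (0, [])).2) 510000 10000 = true := by decide +kernel
theorem r2_c0_52 : rangeAll (fun i => relAny (powA (F 0) 2) (DD.v F i) (R2.getD 0 (0, [])).2) 520000 10000 = true := by decide +kernel
theorem r2_c0_53 : rangeAll (fun i => relAny (powA (F 0) 2) (DD.v F i) (R2.getD 0 (0, [])).2) 530000 10000 = true := by decide +kernel
theorem r2_c0_54 : rangeAll (fun i => relAny (powA (F 0) 2) (DD.v F i) (R2.getD 0 (0, [])).2) 540000 10000 = true := by decide +kernel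
theorem r2_c0_55 : rangeAll (fun i => relAny (powA (F 0) 2) (DD.v F i) (R2.getD 0 (0, [])).2) 550000 10000 = true := by decide +kernel
theorem r2_c0_56 : rangeAll (fun i => relAny (powA (F 0) 2) (DD.v F i) (R2.getD 0 (0, [])).2) 560000 10000 = true := by decide +kernel
theorem r2_c0_57 : rangeAll (fun i => relAny (powA (F 0) 2) (DD.v F i) (R2.getD 0 (0, [])).2) 570000 10000 = true := by decide +kernel
theorem r2_c0_58 : rangeAll (fun i => relAny (powA (F 0) 2) (DD.v F i) (R2.getD 0 (0, [])).2) 580000 10000 = true := by decide +kernel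
theorem r2_c0_59 : rangeAll (fun i => relAny (powA (F 0) 2) (DD.v F i) (R2.getD 0 (0, [])).2) 590000 3775 = true := by decide +kernel

end Cfsg.Agent.Lib.PermComp.OutP.Ru
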