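import Cfsg.Agent.Lib.PermComp.OutP.Ru.Data

set_option autoImplicit false
set_option maxRecDepth 100000
set_option maxHeartbeats 0
set_option Elab.async false

namespace Cfsg.Agent.Lib.PermComp.OutP.Ru

open Cfsg Cfsg.Agent.Lib.PermComp.OutP
open Cfsg.Agent.Lib.PermComp.Core (force)
open Cfsg.Agent.Lib.PermComp.Kron (rangeAll rangeAll_spec)

theorem prel_0 : pcRel F SS Bs 0 = true := by decide +kernel
theorem pW_0 : pcW n F SS 0 = true := by decide +kernel
theorem prel_1 : pcRel F SS Bs 1 = true := by decide +kernel
theorem pW_1 : pcW n F SS 1 = true := by decide +kernel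
theorem prel_2 : pcRel F SS Bs 2 = true := by decide +kernel
theorem pW_2 : pcW n F SS 2 = true := by decide +kernel
theorem prel_3 : pcRel F SS Bs 3 = true := by decide +kernel
theorem pW_3 : pcW n F SS 3 = true := by decide +kernel
theorem prel_4 : pcRel F SS Bs 4 = true := by decide +kernel
theorem pW_4 : pcW n F SS 4 = true := by decide +kernel
theorem prel_5 : pcRel F SS Bs 5 = true := by decide +kernel
theorem pW_5 : pcW n F SS 5 = true := by decide +kernel
theorem prel_6 : pcRel F SS Bs 6 = true := by decide +kernel
theorem pW_6 : pcW n F SS 6 = true := by decide +kernel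
theorem prel_7 : pcRel F SS Bs 7 = true := by decide +kernel
theorem pW_7 : pcW n F SS 7 = true := by decide +kernel
theorem prel_8 : pcRel F SS Bs 8 = true := by decide +kernel
theorem pW_8 : pcW n F SS 8 = true := by decide +kernel
theorem prel_9 : pcRel F SS Bs 9 = true := by decide +kernel
theorem pW_9 : pcW n F SS 9 = true := by decide +kernel
theorem prel_10 : pcRel F SS Bs 10 = true := by decide +kernel
theorem pW_10 : pcW n F SS 10 = true := by decide +kernel
theorem prel_11 : pcRel F SS Bs 11 = true := by decide +kernel
theorem pW_11 : pcW n F SS 11 = true := by decide +kernel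
theorem prel_12 : pcRel F SS Bs 12 = true := by decide +kernel
theorem pW_12 : pcW n F SS 12 = true := by decide +kernel
theorem prel_13 : pcRel F SS Bs 13 = true := by decide +kernel
theorem pW_13 : pcW n F SS 13 = true := by decide +kernel
theorem pC_0 : rangeAll (pcC SS 0) 0 4060 = true := by decide +kernel
theorem pC_1 : rangeAll (pcC SS 1) 0 4060 = true := by decide +kernel
theorem pC_2 : rangeAll (pcC SS 2) 0 4060 = true := by decide +kernel

end Cfsg.Agent.Lib.PermComp.OutP.Ru
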