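import Cfsg.Agent.Lib.PermComp.OutP.Ru.Data

set_option autoImplicit false
set_option maxRecDepth 100000
set_option maxHeartbeats 0
set_option Elab.async false

namespace Cfsg.Agent.Lib.PermComp.OutP.Ru

open Cfsg Cfsg.Agent.Lib.PermComp.OutP
open Cfsg.Agent.Lib.PermComp.Core (force)
open Cfsg.Agent.Lib.PermComp.Kron (rangeAll rangeAll_spec)

theorem rc_c8 : rangeAll (rchk F 0 DD rs goodIdx) 80000 10000 = true := by decide +kernel
theorem rc_c9 : rangeAll (rchk F 0 DD rs goodIdx) 90000 10000 = true := by decide +kernel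
theorem rc_c10 : rangeAll (rchk F 0 DD rs goodIdx) 100000 10000 = true := by decide +kernel
theorem rc_c11 : rangeAll (rchk F 0 DD rs goodIdx) 110000 10000 = true := by decide +kernel
theorem rc_c12 : rangeAll (rchk F 0 DD rs goodIdx) 120000 10000 = true := by decide +kernel
theorem rc_c13 : rangeAll (rchk F 0 DD rs goodIdx) 130000 10000 = true := by decide +kernel
theorem rc_c14 : rangeAll (rchk F 0 DD rs goodIdx) 140000 10000 = true := by decide +kernel
theorem rc_c15 : rangeAll (rchk F 0 DD rs goodIdx) 150000 10000 = true := by decide +kernel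

end Cfsg.Agent.Lib.PermComp.OutP.Ru
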