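import Cfsg.Agent.Lib.PermComp.OutP.Ru.Data

set_option autoImplicit false
set_option maxRecDepth 100000
set_option maxHeartbeats 0
set_option Elab.async false

namespace Cfsg.Agent.Lib.PermComp.OutP.Ru

open Cfsg Cfsg.Agent.Lib.PermComp.OutP
open Cfsg.Agent.Lib.PermComp.Core (force)
open Cfsg.Agent.Lib.PermComp.Kron (rangeAll rangeAll_spec)

theorem rc_c16 : rangeAll (rchk F 0 DD rs goodIdx) 160000 10000 = true := by decide +kernel
theorem rc_c17 : rangeAll (rchk F 0 DD rs goodIdx) 170000 10000 = true := by decide +kernel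
theorem rc_c18 : rangeAll (rchk F 0 DD rs goodIdx) 180000 10000 = true := by decide +kernel
theorem rc_c19 : rangeAll (rchk F 0 DD rs goodIdx) 190000 10000 = true := by decide +kernel
theorem rc_c20 : rangeAll (rchk F 0 DD rs goodIdx) 200000 10000 = true := by decide +kernel
theorem rc_c21 : rangeAll (rchk F 0 DD rs goodIdx) 210000 10000 = true := by decide +kernel
theorem rc_c22 : rangeAll (rchk F 0 DD rs goodIdx) 220000 10000 = true := by decide +kernel
theorem rc_c23 : rangeAll (rchk F 0 DD rs goodIdx) 230000 10000 = true := by decide +kernel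

end Cfsg.Agent.Lib.PermComp.OutP.Ru
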