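import Cfsg.Agent.Lib.PermComp.OutP.Ru.Data

set_option autoImplicit false
set_option maxRecDepth 100000
set_option maxHeartbeats 0
set_option Elab.async false

namespace Cfsg.Agent.Lib.PermComp.OutP.Ru

open Cfsg Cfsg.Agent.Lib.PermComp.OutP
open Cfsg.Agent.Lib.PermComp.Core (force)
open Cfsg.Agent.Lib.PermComp.Kron (rangeAll rangeAll_spec)

theorem srt_c0 : sortR (fun i => DD.key n F i) 0 10000 = true := by decide +kernel
theorem srt_c1 : sortR (fun i => DD.key n F i) 10000 10000 = true := by decide +kernel
theorem srt_c2 : sortR (fun i => DD.key n F i) 20000 10000 = true := by decide +kernel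
theorem srt_c3 : sortR (fun i => DD.key n F i) 30000 10000 = true := by decide +kernel
theorem srt_c4 : sortR (fun i => DD.key n F i) 40000 10000 = true := by decide +kernel
theorem srt_c5 : sortR (fun i => DD.key n F i) 50000 10000 = true := by decide +kernel
theorem srt_c6 : sortR (fun i => DD.key n F i) 60000 10000 = true := by decide +kernel
theorem srt_c7 : sortR (fun i => DD.key n F i) 70000 10000 = true := by decide +kernel

end Cfsg.Agent.Lib.PermComp.OutP.Ru
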