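import Cfsg.Agent.Lib.PermComp.OutP.Ru.Data

set_option autoImplicit false
set_option maxRecDepth 100000
set_option maxHeartbeats 0
set_option Elab.async false

namespace Cfsg.Agent.Lib.PermComp.OutP.Ru

open Cfsg Cfsg.Agent.Lib.PermComp.OutP
open Cfsg.Agent.Lib.PermComp.Core (force)
open Cfsg.Agent.Lib.PermComp.Kron (rangeAll rangeAll_spec)

theorem srt_c8 : sortR (fun i => DD.key n F i) 80000 10000 = true := by decide +kernel
theorem srt_c9 : sortR (fun i => DD.key n F i) 90000 10000 = true := by decide +kernel
theorem srt_c10 : sortR (fun i => DD.key n F i) 100000 10000 = true := by decide +kernel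
theorem srt_c11 : sortR (fun i => DD.key n F i) 110000 10000 = true := by decide +kernel
theorem srt_c12 : sortR (fun i => DD.key n F i) 120000 10000 = true := by decide +kernel
theorem srt_c13 : sortR (fun i => DD.key n F i) 130000 10000 = true := by decide +kernel
theorem srt_c14 : sortR (fun i => DD.key n F i) 140000 10000 = true := by decide +kernel
theorem srt_c15 : sortR (fun i => DD.key n F i) 150000 10000 = true := by decide +kernel

end Cfsg.Agent.Lib.PermComp.OutP.Ru
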