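import Cfsg.Agent.Lib.PermComp.OutP.Ru.Data

set_option autoImplicit false
set_option maxRecDepth 100000
set_option maxHeartbeats 0
set_option Elab.async false

namespace Cfsg.Agent.Lib.PermComp.OutP.Ru

open Cfsg Cfsg.Agent.Lib.PermComp.OutP
open Cfsg.Agent.Lib.PermComp.Core (force)
open Cfsg.Agent.Lib.PermComp.Kron (rangeAll rangeAll_spec)

theorem srtO0_c28 : sortR (fun i => OO0.key n F i) 280000 10000 = true := by decide +kernel
theorem srtO0_c29 : sortR (fun i => OO0.key n F i) 290000 10000 = true := by decide +kernel
theorem srtO0_c30 : sortR (fun i => OO0.key n F i) 300000 10000 = true := by decide +kernel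
theorem srtO0_c31 : sortR (fun i => OO0.key n F i) 310000 10000 = true := by decide +kernel
theorem srtO0_c32 : sortR (fun i => OO0.key n F i) 320000 10000 = true := by decide +kernel
theorem srtO0_c33 : sortR (fun i => OO0.key n F i) 330000 10000 = true := by decide +kernel
theorem srtO0_c34 : sortR (fun i => OO0.key n F i) 340000 10000 = true := by decide +kernel
theorem srtO0_c35 : sortR (fun i => OO0.key n F i) 350000 10000 = true := by decide +kernel

end Cfsg.Agent.Lib.PermComp.OutP.Ru
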