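import Cfsg.Agent.Lib.PermComp.OutP.Ru.Data

set_option autoImplicit false
set_option maxRecDepth 100000
set_option maxHeartbeats 0
set_option Elab.async false

namespace Cfsg.Agent.Lib.PermComp.OutP.Ru

open Cfsg Cfsg.Agent.Lib.PermComp.OutP
open Cfsg.Agent.Lib.PermComp.Core (force)
open Cfsg.Agent.Lib.PermComp.Kron (rangeAll rangeAll_spec)

theorem srtO0_c44 : sortR (fun i => OO0.key n F i) 440000 10000 = true := by decide +kernel
theorem srtO0_c45 : sortR (fun i => OO0.key n F i) 450000 10000 = true := by decide +kernel
theorem srtO0_c46 : sortR (fun i => OO0.key n F i) 460000 10000 = true := by decide +kernel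
theorem srtO0_c47 : sortR (fun i => OO0.key n F i) 470000 10000 = true := by decide +kernel
theorem srtO0_c48 : sortR (fun i => OO0.key n F i) 480000 10000 = true := by decide +kernel
theorem srtO0_c49 : sortR (fun i => OO0.key n F i) 490000 10000 = true := by decide +kernel
theorem srtO0_c50 : sortR (fun i => OO0.key n F i) 500000 10000 = true := by decide +kernel
theorem srtO0_c51 : sortR (fun i => OO0.key n F i) 510000 10000 = true := by decide +kernel

end Cfsg.Agent.Lib.PermComp.OutP.Ru
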