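import Cfsg.Agent.Lib.PermComp.OutP.Ru.Data

set_option autoImplicit false
set_option maxRecDepth 100000
set_option maxHeartbeats 0
set_option Elab.async false

namespace Cfsg.Agent.Lib.PermComp.OutP.Ru

open Cfsg Cfsg.Agent.Lib.PermComp.OutP
open Cfsg.Agent.Lib.PermComp.Core (force)
open Cfsg.Agent.Lib.PermComp.Kron (rangeAll rangeAll_spec)

theorem srt_c40 : sortR (fun i => DD.key n F i) 400000 10000 = true := by decide +kernel
theorem srt_c41 : sortR (fun i => DD.key n F i) 410000 10000 = true := by decide +kernel
theorem srt_c42 : sortR (fun i => DD.key n F i) 420000 10000 = true := by decide +kernel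
theorem srt_c43 : sortR (fun i => DD.key n F i) 430000 10000 = true := by decide +kernel
theorem srt_c44 : sortR (fun i => DD.key n F i) 440000 10000 = true := by decide +kernel
theorem srt_c45 : sortR (fun i => DD.key n F i) 450000 10000 = true := by decide +kernel
theorem srt_c46 : sortR (fun i => DD.key n F i) 460000 10000 = true := by decide +kernel
theorem srt_c47 : sortR (fun i => DD.key n F i) 470000 10000 = true := by decide +kernel

end Cfsg.Agent.Lib.PermComp.OutP.Ru
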