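import Cfsg.Agent.Lib.PermComp.OutP.Ru.Data

set_option autoImplicit false
set_option maxRecDepth 100000
set_option maxHeartbeats 0
set_option Elab.async false

namespace Cfsg.Agent.Lib.PermComp.OutP.Ru

open Cfsg Cfsg.Agent.Lib.PermComp.OutP
open Cfsg.Agent.Lib.PermComp.Core (force)
open Cfsg.Agent.Lib.PermComp.Kron (rangeAll rangeAll_spec)

theorem srt_c48 : sortR (fun i => DD.key n F i) 480000 10000 = true := by decide +kernel
theorem srt_c49 : sortR (fun i => DD.key n F i) 490000 10000 = true := by decide +kernel
theorem srt_c50 : sortR (fun i => DD.key n F i) 500000 10000 = true := by decide +kernel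
theorem srt_c51 : sortR (fun i => DD.key n F i) 510000 10000 = true := by decide +kernel
theorem srt_c52 : sortR (fun i => DD.key n F i) 520000 10000 = true := by decide +kernel
theorem srt_c53 : sortR (fun i => DD.key n F i) 530000 10000 = true := by decide +kernel
theorem srt_c54 : sortR (fun i => DD.key n F i) 540000 10000 = true := by decide +kernel
theorem srt_c55 : sortR (fun i => DD.key n F i) 550000 10000 = true := by decide +kernel

end Cfsg.Agent.Lib.PermComp.OutP.Ru
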