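import Cfsg.Agent.Lib.PermComp.OutP.Ru.Data

set_option autoImplicit false
set_option maxRecDepth 100000
set_option maxHeartbeats 0
set_option Elab.async false

namespace Cfsg.Agent.Lib.PermComp.OutP.Ru

open Cfsg Cfsg.Agent.Lib.PermComp.OutP
open Cfsg.Agent.Lib.PermComp.Core (force)
open Cfsg.Agent.Lib.PermComp.Kron (rangeAll rangeAll_spec)

theorem hp_35 : progR F 35 (prog 35) 0 4060 = true := by decide +kernel
theorem hp_36 : progR F 36 (prog 36) 0 4060 = true := by decide +kernel
theorem hp_37 : progR F 37 (prog 37) 0 4060 = true := by decide +kernel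
theorem hp_38 : progR F 38 (prog 38) 0 4060 = true := by decide +kernel
theorem hp_39 : progR F 39 (prog 39) 0 4060 = true := by decide +kernel
theorem hp_40 : progR F 40 (prog 40) 0 4060 = true := by decide +kernel
theorem hp_41 : progR F 41 (prog 41) 0 4060 = true := by decide +kernel
theorem hp_42 : progR F 42 (prog 42) 0 4060 = true := by decide +kernel
theorem hp_43 : progR F 43 (prog 43) 0 4060 = true := by decide +kernel
theorem hp_44 : progR F 44 (prog 44) 0 4060 = true := by decide +kernel
theorem hp_45 : progR F 45 (prog 45) 0 4060 = true := by decide +kernel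
theorem hp_46 : progR F 46 (prog 46) 0 4060 = true := by decide +kernel
theorem hp_47 : progR F 47 (prog 47) 0 4060 = true := by decide +kernel
theorem hp_48 : progR F 48 (prog 48) 0 4060 = true := by decide +kernel
theorem hp_49 : progR F 49 (prog 49) 0 4060 = true := by decide +kernel
theorem hp_50 : progR F 50 (prog 50) 0 4060 = true := by decide +kernel
theorem hp_51 : progR F 51 (prog 51) 0 4060 = true := by decide +kernel
theorem hp_52 : progR F 52 (prog 52) 0 4060 = true := by decide +kernel
theorem hp_53 : progR F 53 (prog 53) 0 4060 = true := by decide +kernel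
theorem hp_54 : progR F 54 (prog 54) 0 4060 = true := by decide +kernel
theorem hp_55 : progR F 55 (prog 55) 0 4060 = true := by decide +kernel
theorem hp_56 : progR F 56 (prog 56) 0 4060 = true := by decide +kernel
theorem hp_57 : progR F 57 (prog 57) 0 4060 = true := by decide +kernel
theorem hp_58 : progR F 58 (prog 58) 0 4060 = true := by decide +kernel
theorem hp_59 : progR F 59 (prog 59) 0 4060 = true := by decide +kernel
theorem hp_60 : progR F 60 (prog 60) 0 4060 = true := by decide +kernel
theorem hp_61 : progR F 61 (prog 61) 0 4060 = true := by decide +kernel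
theorem hp_62 : progR F 62 (prog 62) 0 4060 = true := by decide +kernel
theorem hp_63 : progR F 63 (prog 63) 0 4060 = true := by decide +kernel
theorem hp_64 : progR F 64 (prog 64) 0 4060 = true := by decide +kernel
theorem hp_65 : progR F 65 (prog 65) 0 4060 = true := by decide +kernel
theorem hp_66 : progR F 66 (prog 66) 0 4060 = true := by decide +kernel
theorem hp_67 : progR F 67 (prog 67) 0 4060 = true := by decide +kernel
theorem hp_68 : progR F 68 (prog 68) 0 4060 = true := by decide +kernel
theorem hp_69 : progR F 69 (prog 69) 0 4060 = true := by decide +kernel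

end Cfsg.Agent.Lib.PermComp.OutP.Ru
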