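import Cfsg.Agent.Lib.PermComp.OutP.Ru.Data

set_option autoImplicit false
set_option maxRecDepth 100000
set_option maxHeartbeats 0
set_option Elab.async false

namespace Cfsg.Agent.Lib.PermComp.OutP.Ru

open Cfsg Cfsg.Agent.Lib.PermComp.OutP
open Cfsg.Agent.Lib.PermComp.Core (force)
open Cfsg.Agent.Lib.PermComp.Kron (rangeAll rangeAll_spec)

theorem hp_70 : progR F 70 (prog 70) 0 4060 = true := by decide +kernel
theorem hp_71 : progR F 71 (prog 71) 0 4060 = true := by decide +kernel
theorem hp_72 : progR F 72 (prog 72) 0 4060 = true := by decide +kernel
theorem hp_73 : progR F 73 (prog 73) 0 4060 = true := by decide +kernel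
theorem hp_74 : progR F 74 (prog 74) 0 4060 = true := by decide +kernel
theorem hp_75 : progR F 75 (prog 75) 0 4060 = true := by decide +kernel
theorem hp_76 : progR F 76 (prog 76) 0 4060 = true := by decide +kernel
theorem hp_77 : progR F 77 (prog 77) 0 4060 = true := by decide +kernel
theorem hp_78 : progR F 78 (prog 78) 0 4060 = true := by decide +kernel
theorem hp_79 : progR F 79 (prog 79) 0 4060 = true := by decide +kernel
theorem hp_80 : progR F 80 (prog 80) 0 4060 = true := by decide +kernel
theorem hp_81 : progR F 81 (prog 81) 0 4060 = true := by decide +kernel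
theorem hp_82 : progR F 82 (prog 82) 0 4060 = true := by decide +kernel
theorem hp_83 : progR F 83 (prog 83) 0 4060 = true := by decide +kernel
theorem hp_84 : progR F 84 (prog 84) 0 4060 = true := by decide +kernel
theorem hp_85 : progR F 85 (prog 85) 0 4060 = true := by decide +kernel
theorem hp_86 : progR F 86 (prog 86) 0 4060 = true := by decide +kernel
theorem hp_87 : progR F 87 (prog 87) 0 4060 = true := by decide +kernel
theorem hp_88 : progR F 88 (prog 88) 0 4060 = true := by decide +kernel
theorem hp_89 : progR F 89 (prog 89) 0 4060 = true := by decide +kernel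
theorem hp_90 : progR F 90 (prog 90) 0 4060 = true := by decide +kernel
theorem hp_91 : progR F 91 (prog 91) 0 4060 = true := by decide +kernel
theorem hp_92 : progR F 92 (prog 92) 0 4060 = true := by decide +kernel
theorem hp_93 : progR F 93 (prog 93) 0 4060 = true := by decide +kernel
theorem hp_94 : progR F 94 (prog 94) 0 4060 = true := by decide +kernel
theorem hp_95 : progR F 95 (prog 95) 0 4060 = true := by decide +kernel
theorem hp_96 : progR F 96 (prog 96) 0 4060 = true := by decide +kernel
theorem hp_97 : progR F 97 (prog 97) 0 4060 = true := by decide +kernel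
theorem hp_98 : progR F 98 (prog 98) 0 4060 = true := by decide +kernel
theorem hp_99 : progR F 99 (prog 99) 0 4060 = true := by decide +kernel
theorem hp_100 : progR F 100 (prog 100) 0 4060 = true := by decide +kernel
theorem hp_101 : progR F 101 (prog 101) 0 4060 = true := by decide +kernel
theorem hp_102 : progR F 102 (prog 102) 0 4060 = true := by decide +kernel
theorem hp_103 : progR F 103 (prog 103) 0 4060 = true := by decide +kernel
theorem hp_104 : progR F 104 (prog 104) 0 4060 = true := by decide +kernel
theorem hp_105 : progR F 105 (prog 105) 0 4060 = true := by decide +kernel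
theorem hp_106 : progR F 106 (prog 106) 0 4060 = true := by decide +kernel
theorem hp_107 : progR F 107 (prog 107) 0 4060 = true := by decide +kernel
theorem hp_108 : progR F 108 (prog 108) 0 4060 = true := by decide +kernel
theorem hp_109 : progR F 109 (prog 109) 0 4060 = true := by decide +kernel
theorem hp_110 : progR F 110 (prog 110) 0 4060 = true := by decide +kernel
theorem hp_111 : progR F 111 (prog 111) 0 4060 = true := by decide +kernel
theorem hp2_116 : progR F 116 (prog2 116) 0 4060 = true := by decide +kernel
theorem hp2_117 : progR F 117 (prog2 117) 0 4060 = true := by decide +kernel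
theorem hp2_118 : progR F 118 (prog2 118) 0 4060 = true := by decide +kernel
theorem hp2_119 : progR F 119 (prog2 119) 0 4060 = true := by decide +kernel
theorem hp2_120 : progR F 120 (prog2 120) 0 4060 = true := by decide +kernel
theorem hp2_121 : progR F 121 (prog2 121) 0 4060 = true := by decide +kernel
theorem hp2_122 : progR F 122 (prog2 122) 0 4060 = true := by decide +kernel
theorem hp2_123 : progR F 123 (prog2 123) 0 4060 = true := by decide +kernel
theorem hp2_124 : progR F 124 (prog2 124) 0 4060 = true := by decide +kernel

end Cfsg.Agent.Lib.PermComp.OutP.Ru
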