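import Cfsg.Agent.Lib.PermComp.OutP.Master3
import Cfsg.Agent.Lib.PermComp.OutP.Ru.DataP0
import Cfsg.Agent.Lib.PermComp.OutP.Ru.DataP1
import Cfsg.Agent.Lib.PermComp.OutP.Ru.DataP2

set_option autoImplicit false
set_option maxRecDepth 100000
set_option maxHeartbeats 0
set_option Elab.async false

namespace Cfsg.Agent.Lib.PermComp.OutP.Ru

open Cfsg Cfsg.Agent.Lib.PermComp.OutP
open Cfsg.Agent.Lib.PermComp.Core (force)
open Cfsg.Agent.Lib.PermComp.Kron (rangeAll rangeAll_spec)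

def n : Nat := 4060
def mF : Nat := 112
noncomputable def TT_s6_0 (i : Nat) : Nat := Bool.rec (motive := fun _ => Nat) TT_p64 TT_p0 (Nat.beq (Nat.land (Nat.shiftRight i 6) 1) 0)
noncomputable def TT_s6_1 (i : Nat) : Nat := Bool.rec (motive := fun _ => Nat) TT_p65 TT_p1 (Nat.beq (Nat.land (Nat.shiftRight i 6) 1) 0)
noncomputable def TT_s6_2 (i : Nat) : Nat := Bool.rec (motive := fun _ => Nat) TT_p66 TT_p2 (Nat.beq (Nat.land (Nat.shiftRight i 6) 1) 0)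
noncomputable def TT_s6_3 (i : Nat) : Nat := Bool.rec (motive := fun _ => Nat) TT_p67 TT_p3 (Nat.beq (Nat.land (Nat.shiftRight i 6) 1) 0)
noncomputable def TT_s6_4 (i : Nat) : Nat := Bool.rec (motive := fun _ => Nat) TT_p68 TT_p4 (Nat.beq (Nat.land (Nat.shiftRight i 6) 1) 0)
noncomputable def TT_s6_5 (i : Nat) : Nat := Bool.rec (motive := fun _ => Nat) TT_p69 TT_p5 (Nat.beq (Nat.land (Nat.shiftRight i 6) 1) 0)
noncomputable def TT_s6_6 (i : Nat) : Nat := Bool.rec (motive := fun _ => Nat) TT_p70 TT_p6 (Nat.beq (Nat.land (Nat.shiftRight i 6) 1) 0)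
noncomputable def TT_s6_7 (i : Nat) : Nat := Bool.rec (motive := fun _ => Nat) TT_p71 TT_p7 (Nat.beq (Nat.land (Nat.shiftRight i 6) 1) 0)
noncomputable def TT_s6_8 (i : Nat) : Nat := Bool.rec (motive := fun _ => Nat) TT_p72 TT_p8 (Nat.beq (Nat.land (Nat.shiftRight i 6) 1) 0)
noncomputable def TT_s6_9 (i : Nat) : Nat := Bool.rec (motive := fun _ => Nat) TT_p73 TT_p9 (Nat.beq (Nat.land (Nat.shiftRight i 6) 1) 0)
noncomputable def TT_s6_10 (i : Nat) : Nat := Bool.rec (motive := fun _ => Nat) TT_p74 TT_p10 (Nat.beq (Nat.land (Nat.shiftRight i 6) 1) 0)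
noncomputable def TT_s6_11 (i : Nat) : Nat := Bool.rec (motive := fun _ => Nat) TT_p75 TT_p11 (Nat.beq (Nat.land (Nat.shiftRight i 6) 1) 0)
noncomputable def TT_s6_12 (i : Nat) : Nat := Bool.rec (motive := fun _ => Nat) TT_p76 TT_p12 (Nat.beq (Nat.land (Nat.shiftRight i 6) 1) 0)
noncomputable def TT_s6_13 (i : Nat) : Nat := Bool.rec (motive := fun _ => Nat) TT_p77 TT_p13 (Nat.beq (Nat.land (Nat.shiftRight i 6) 1) 0)
noncomputable def TT_s6_14 (i : Nat) : Nat := Bool.rec (motive := fun _ => Nat) TT_p78 TT_p14 (Nat.beq (Nat.land (Nat.shiftRight i 6) 1) 0)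
noncomputable def TT_s6_15 (i : Nat) : Nat := Bool.rec (motive := fun _ => Nat) TT_p79 TT_p15 (Nat.beq (Nat.land (Nat.shiftRight i 6) 1) 0)
noncomputable def TT_s6_16 (i : Nat) : Nat := Bool.rec (motive := fun _ => Nat) TT_p80 TT_p16 (Nat.beq (Nat.land (Nat.shiftRight i 6) 1) 0)
noncomputable def TT_s6_17 (i : Nat) : Nat := Bool.rec (motive := fun _ => Nat) TT_p81 TT_p17 (Nat.beq (Nat.land (Nat.shiftRight i 6) 1) 0)
noncomputable def TT_s6_18 (i : Nat) : Nat := Bool.rec (motive := fun _ => Nat) TT_p82 TT_p18 (Nat.beq (Nat.land (Nat.shiftRight i 6) 1) 0)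
noncomputable def TT_s6_19 (i : Nat) : Nat := Bool.rec (motive := fun _ => Nat) TT_p83 TT_p19 (Nat.beq (Nat.land (Nat.shiftRight i 6) 1) 0)
noncomputable def TT_s6_20 (i : Nat) : Nat := Bool.rec (motive := fun _ => Nat) TT_p84 TT_p20 (Nat.beq (Nat.land (Nat.shiftRight i 6) 1) 0)
noncomputable def TT_s6_21 (i : Nat) : Nat := Bool.rec (motive := fun _ => Nat) TT_p85 TT_p21 (Nat.beq (Nat.land (Nat.shiftRight i 6) 1) 0)
noncomputable def TT_s6_22 (i : Nat) : Nat := Bool.rec (motive := fun _ => Nat) TT_p86 TT_p22 (Nat.beq (Nat.land (Nat.shiftRight i 6) 1) 0)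
noncomputable def TT_s6_23 (i : Nat) : Nat := Bool.rec (motive := fun _ => Nat) TT_p87 TT_p23 (Nat.beq (Nat.land (Nat.shiftRight i 6) 1) 0)
noncomputable def TT_s6_24 (i : Nat) : Nat := Bool.rec (motive := fun _ => Nat) TT_p88 TT_p24 (Nat.beq (Nat.land (Nat.shiftRight i 6) 1) 0)
noncomputable def TT_s6_25 (i : Nat) : Nat := Bool.rec (motive := fun _ => Nat) TT_p89 TT_p25 (Nat.beq (Nat.land (Nat.shiftRight i 6) 1) 0)
noncomputable def TT_s6_26 (i : Nat) : Nat := Bool.rec (motive := fun _ => Nat) TT_p90 TT_p26 (Nat.beq (Nat.land (Nat.shiftRight i 6) 1) 0)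
noncomputable def TT_s6_27 (i : Nat) : Nat := Bool.rec (motive := fun _ => Nat) TT_p91 TT_p27 (Nat.beq (Nat.land (Nat.shiftRight i 6) 1) 0)
noncomputable def TT_s6_28 (i : Nat) : Nat := Bool.rec (motive := fun _ => Nat) TT_p92 TT_p28 (Nat.beq (Nat.land (Nat.shiftRight i 6) 1) 0)
noncomputable def TT_s6_29 (i : Nat) : Nat := Bool.rec (motive := fun _ => Nat) TT_p93 TT_p29 (Nat.beq (Nat.land (Nat.shiftRight i 6) 1) 0)
noncomputable def TT_s6_30 (i : Nat) : Nat := Bool.rec (motive := fun _ => Nat) TT_p94 TT_p30 (Nat.beq (Nat.land (Nat.shiftRight i 6) 1) 0)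
noncomputable def TT_s6_31 (i : Nat) : Nat := Bool.rec (motive := fun _ => Nat) TT_p95 TT_p31 (Nat.beq (Nat.land (Nat.shiftRight i 6) 1) 0)
noncomputable def TT_s6_32 (i : Nat) : Nat := Bool.rec (motive := fun _ => Nat) TT_p96 TT_p32 (Nat.beq (Nat.land (Nat.shiftRight i 6) 1) 0)
noncomputable def TT_s6_33 (i : Nat) : Nat := Bool.rec (motive := fun _ => Nat) TT_p97 TT_p33 (Nat.beq (Nat.land (Nat.shiftRight i 6) 1) 0)
noncomputable def TT_s6_34 (i : Nat) : Nat := Bool.rec (motive := fun _ => Nat) TT_p98 TT_p34 (Nat.beq (Nat.land (Nat.shiftRight i 6) 1) 0)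
noncomputable def TT_s6_35 (i : Nat) : Nat := Bool.rec (motive := fun _ => Nat) TT_p99 TT_p35 (Nat.beq (Nat.land (Nat.shiftRight i 6) 1) 0)
noncomputable def TT_s6_36 (i : Nat) : Nat := Bool.rec (motive := fun _ => Nat) TT_p100 TT_p36 (Nat.beq (Nat.land (Nat.shiftRight i 6) 1) 0)
noncomputable def TT_s6_37 (i : Nat) : Nat := Bool.rec (motive := fun _ => Nat) TT_p101 TT_p37 (Nat.beq (Nat.land (Nat.shiftRight i 6) 1) 0)
noncomputable def TT_s6_38 (i : Nat) : Nat := Bool.rec (motive := fun _ => Nat) TT_p102 TT_p38 (Nat.beq (Nat.land (Nat.shiftRight i 6) 1) 0)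
noncomputable def TT_s6_39 (i : Nat) : Nat := Bool.rec (motive := fun _ => Nat) TT_p103 TT_p39 (Nat.beq (Nat.land (Nat.shiftRight i 6) 1) 0)
noncomputable def TT_s6_40 (i : Nat) : Nat := Bool.rec (motive := fun _ => Nat) TT_p104 TT_p40 (Nat.beq (Nat.land (Nat.shiftRight i 6) 1) 0)
noncomputable def TT_s6_41 (i : Nat) : Nat := Bool.rec (motive := fun _ => Nat) TT_p105 TT_p41 (Nat.beq (Nat.land (Nat.shiftRight i 6) 1) 0)
noncomputable def TT_s6_42 (i : Nat) : Nat := Bool.rec (motive := fun _ => Nat) TT_p106 TT_p42 (Nat.beq (Nat.land (Nat.shiftRight i 6) 1) 0)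
noncomputable def TT_s6_43 (i : Nat) : Nat := Bool.rec (motive := fun _ => Nat) TT_p107 TT_p43 (Nat.beq (Nat.land (Nat.shiftRight i 6) 1) 0)
noncomputable def TT_s6_44 (i : Nat) : Nat := Bool.rec (motive := fun _ => Nat) TT_p108 TT_p44 (Nat.beq (Nat.land (Nat.shiftRight i 6) 1) 0)
noncomputable def TT_s6_45 (i : Nat) : Nat := Bool.rec (motive := fun _ => Nat) TT_p109 TT_p45 (Nat.beq (Nat.land (Nat.shiftRight i 6) 1) 0)
noncomputable def TT_s6_46 (i : Nat) : Nat := Bool.rec (motive := fun _ => Nat) TT_p110 TT_p46 (Nat.beq (Nat.land (Nat.shiftRight i 6) 1) 0)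
noncomputable def TT_s6_47 (i : Nat) : Nat := Bool.rec (motive := fun _ => Nat) TT_p111 TT_p47 (Nat.beq (Nat.land (Nat.shiftRight i 6) 1) 0)
noncomputable def TT_s6_48 (i : Nat) : Nat := Bool.rec (motive := fun _ => Nat) TT_p112 TT_p48 (Nat.beq (Nat.land (Nat.shiftRight i 6) 1) 0)
noncomputable def TT_s6_49 (i : Nat) : Nat := Bool.rec (motive := fun _ => Nat) TT_p113 TT_p49 (Nat.beq (Nat.land (Nat.shiftRight i 6) 1) 0)
noncomputable def TT_s6_50 (i : Nat) : Nat := Bool.rec (motive := fun _ => Nat) TT_p114 TT_p50 (Nat.beq (Nat.land (Nat.shiftRight i 6) 1) 0)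
noncomputable def TT_s6_51 (i : Nat) : Nat := Bool.rec (motive := fun _ => Nat) TT_p115 TT_p51 (Nat.beq (Nat.land (Nat.shiftRight i 6) 1) 0)
noncomputable def TT_s6_52 (i : Nat) : Nat := Bool.rec (motive := fun _ => Nat) TT_p116 TT_p52 (Nat.beq (Nat.land (Nat.shiftRight i 6) 1) 0)
noncomputable def TT_s6_53 (i : Nat) : Nat := Bool.rec (motive := fun _ => Nat) TT_p117 TT_p53 (Nat.beq (Nat.land (Nat.shiftRight i 6) 1) 0)
noncomputable def TT_s6_54 (i : Nat) : Nat := Bool.rec (motive := fun _ => Nat) TT_p118 TT_p54 (Nat.beq (Nat.land (Nat.shiftRight i 6) 1) 0)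
noncomputable def TT_s6_55 (i : Nat) : Nat := Bool.rec (motive := fun _ => Nat) TT_p119 TT_p55 (Nat.beq (Nat.land (Nat.shiftRight i 6) 1) 0)
noncomputable def TT_s6_56 (i : Nat) : Nat := Bool.rec (motive := fun _ => Nat) TT_p120 TT_p56 (Nat.beq (Nat.land (Nat.shiftRight i 6) 1) 0)
noncomputable def TT_s6_57 (i : Nat) : Nat := Bool.rec (motive := fun _ => Nat) TT_p121 TT_p57 (Nat.beq (Nat.land (Nat.shiftRight i 6) 1) 0)
noncomputable def TT_s6_58 (i : Nat) : Nat := Bool.rec (motive := fun _ => Nat) TT_p122 TT_p58 (Nat.beq (Nat.land (Nat.shiftRight i 6) 1) 0)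
noncomputable def TT_s6_59 (i : Nat) : Nat := Bool.rec (motive := fun _ => Nat) TT_p123 TT_p59 (Nat.beq (Nat.land (Nat.shiftRight i 6) 1) 0)
noncomputable def TT_s6_60 (i : Nat) : Nat := Bool.rec (motive := fun _ => Nat) TT_p124 TT_p60 (Nat.beq (Nat.land (Nat.shiftRight i 6) 1) 0)
noncomputable def TT_s6_61 (i : Nat) : Nat := Bool.rec (motive := fun _ => Nat) 0 TT_p61 (Nat.beq (Nat.land (Nat.shiftRight i 6) 1) 0)
noncomputable def TT_s6_62 (i : Nat) : Nat := Bool.rec (motive := fun _ => Nat) 0 TT_p62 (Nat.beq (Nat.land (Nat.shiftRight i 6) 1) 0)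
noncomputable def TT_s6_63 (i : Nat) : Nat := Bool.rec (motive := fun _ => Nat) 0 TT_p63 (Nat.beq (Nat.land (Nat.shiftRight i 6) 1) 0)
noncomputable def TT_s5_0 (i : Nat) : Nat := Bool.rec (motive := fun _ => Nat) (TT_s6_32 i) (TT_s6_0 i) (Nat.beq (Nat.land (Nat.shiftRight i 5) 1) 0)
noncomputable def TT_s5_1 (i : Nat) : Nat := Bool.rec (motive := fun _ => Nat) (TT_s6_33 i) (TT_s6_1 i) (Nat.beq (Nat.land (Nat.shiftRight i 5) 1) 0)
noncomputable def TT_s5_2 (i : Nat) : Nat := Bool.rec (motive := fun _ => Nat) (TT_s6_34 i) (TT_s6_2 i) (Nat.beq (Nat.land (Nat.shiftRight i 5) 1) 0)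
noncomputable def TT_s5_3 (i : Nat) : Nat := Bool.rec (motive := fun _ => Nat) (TT_s6_35 i) (TT_s6_3 i) (Nat.beq (Nat.land (Nat.shiftRight i 5) 1) 0)
noncomputable def TT_s5_4 (i : Nat) : Nat := Bool.rec (motive := fun _ => Nat) (TT_s6_36 i) (TT_s6_4 i) (Nat.beq (Nat.land (Nat.shiftRight i 5) 1) 0)
noncomputable def TT_s5_5 (i : Nat) : Nat := Bool.rec (motive := fun _ => Nat) (TT_s6_37 i) (TT_s6_5 i) (Nat.beq (Nat.land (Nat.shiftRight i 5) 1) 0)
noncomputable def TT_s5_6 (i : Nat) : Nat := Bool.rec (motive := fun _ => Nat) (TT_s6_38 i) (TT_s6_6 i) (Nat.beq (Nat.land (Nat.shiftRight i 5) 1) 0)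
noncomputable def TT_s5_7 (i : Nat) : Nat := Bool.rec (motive := fun _ => Nat) (TT_s6_39 i) (TT_s6_7 i) (Nat.beq (Nat.land (Nat.shiftRight i 5) 1) 0)
noncomputable def TT_s5_8 (i : Nat) : Nat := Bool.rec (motive := fun _ => Nat) (TT_s6_40 i) (TT_s6_8 i) (Nat.beq (Nat.land (Nat.shiftRight i 5) 1) 0)
noncomputable def TT_s5_9 (i : Nat) : Nat := Bool.rec (motive := fun _ => Nat) (TT_s6_41 i) (TT_s6_9 i) (Nat.beq (Nat.land (Nat.shiftRight i 5) 1) 0)
noncomputable def TT_s5_10 (i : Nat) : Nat := Bool.rec (motive := fun _ => Nat) (TT_s6_42 i) (TT_s6_10 i) (Nat.beq (Nat.land (Nat.shiftRight i 5) 1) 0)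
noncomputable def TT_s5_11 (i : Nat) : Nat := Bool.rec (motive := fun _ => Nat) (TT_s6_43 i) (TT_s6_11 i) (Nat.beq (Nat.land (Nat.shiftRight i 5) 1) 0)
noncomputable def TT_s5_12 (i : Nat) : Nat := Bool.rec (motive := fun _ => Nat) (TT_s6_44 i) (TT_s6_12 i) (Nat.beq (Nat.land (Nat.shiftRight i 5) 1) 0)
noncomputable def TT_s5_13 (i : Nat) : Nat := Bool.rec (motive := fun _ => Nat) (TT_s6_45 i) (TT_s6_13 i) (Nat.beq (Nat.land (Nat.shiftRight i 5) 1) 0)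
noncomputable def TT_s5_14 (i : Nat) : Nat := Bool.rec (motive := fun _ => Nat) (TT_s6_46 i) (TT_s6_14 i) (Nat.beq (Nat.land (Nat.shiftRight i 5) 1) 0)
noncomputable def TT_s5_15 (i : Nat) : Nat := Bool.rec (motive := fun _ => Nat) (TT_s6_47 i) (TT_s6_15 i) (Nat.beq (Nat.land (Nat.shiftRight i 5) 1) 0)
noncomputable def TT_s5_16 (i : Nat) : Nat := Bool.rec (motive := fun _ => Nat) (TT_s6_48 i) (TT_s6_16 i) (Nat.beq (Nat.land (Nat.shiftRight i 5) 1) 0)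
noncomputable def TT_s5_17 (i : Nat) : Nat := Bool.rec (motive := fun _ => Nat) (TT_s6_49 i) (TT_s6_17 i) (Nat.beq (Nat.land (Nat.shiftRight i 5) 1) 0)
noncomputable def TT_s5_18 (i : Nat) : Nat := Bool.rec (motive := fun _ => Nat) (TT_s6_50 i) (TT_s6_18 i) (Nat.beq (Nat.land (Nat.shiftRight i 5) 1) 0)
noncomputable def TT_s5_19 (i : Nat) : Nat := Bool.rec (motive := fun _ => Nat) (TT_s6_51 i) (TT_s6_19 i) (Nat.beq (Nat.land (Nat.shiftRight i 5) 1) 0)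
noncomputable def TT_s5_20 (i : Nat) : Nat := Bool.rec (motive := fun _ => Nat) (TT_s6_52 i) (TT_s6_20 i) (Nat.beq (Nat.land (Nat.shiftRight i 5) 1) 0)
noncomputable def TT_s5_21 (i : Nat) : Nat := Bool.rec (motive := fun _ => Nat) (TT_s6_53 i) (TT_s6_21 i) (Nat.beq (Nat.land (Nat.shiftRight i 5) 1) 0)
noncomputable def TT_s5_22 (i : Nat) : Nat := Bool.rec (motive := fun _ => Nat) (TT_s6_54 i) (TT_s6_22 i) (Nat.beq (Nat.land (Nat.shiftRight i 5) 1) 0)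
noncomputable def TT_s5_23 (i : Nat) : Nat := Bool.rec (motive := fun _ => Nat) (TT_s6_55 i) (TT_s6_23 i) (Nat.beq (Nat.land (Nat.shiftRight i 5) 1) 0)
noncomputable def TT_s5_24 (i : Nat) : Nat := Bool.rec (motive := fun _ => Nat) (TT_s6_56 i) (TT_s6_24 i) (Nat.beq (Nat.land (Nat.shiftRight i 5) 1) 0)
noncomputable def TT_s5_25 (i : Nat) : Nat := Bool.rec (motive := fun _ => Nat) (TT_s6_57 i) (TT_s6_25 i) (Nat.beq (Nat.land (Nat.shiftRight i 5) 1) 0)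
noncomputable def TT_s5_26 (i : Nat) : Nat := Bool.rec (motive := fun _ => Nat) (TT_s6_58 i) (TT_s6_26 i) (Nat.beq (Nat.land (Nat.shiftRight i 5) 1) 0)
noncomputable def TT_s5_27 (i : Nat) : Nat := Bool.rec (motive := fun _ => Nat) (TT_s6_59 i) (TT_s6_27 i) (Nat.beq (Nat.land (Nat.shiftRight i 5) 1) 0)
noncomputable def TT_s5_28 (i : Nat) : Nat := Bool.rec (motive := fun _ => Nat) (TT_s6_60 i) (TT_s6_28 i) (Nat.beq (Nat.land (Nat.shiftRight i 5) 1) 0)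
noncomputable def TT_s5_29 (i : Nat) : Nat := Bool.rec (motive := fun _ => Nat) (TT_s6_61 i) (TT_s6_29 i) (Nat.beq (Nat.land (Nat.shiftRight i 5) 1) 0)
noncomputable def TT_s5_30 (i : Nat) : Nat := Bool.rec (motive := fun _ => Nat) (TT_s6_62 i) (TT_s6_30 i) (Nat.beq (Nat.land (Nat.shiftRight i 5) 1) 0)
noncomputable def TT_s5_31 (i : Nat) : Nat := Bool.rec (motive := fun _ => Nat) (TT_s6_63 i) (TT_s6_31 i) (Nat.beq (Nat.land (Nat.shiftRight i 5) 1) 0)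
noncomputable def TT_s4_0 (i : Nat) : Nat := Bool.rec (motive := fun _ => Nat) (TT_s5_16 i) (TT_s5_0 i) (Nat.beq (Nat.land (Nat.shiftRight i 4) 1) 0)
noncomputable def TT_s4_1 (i : Nat) : Nat := Bool.rec (motive := fun _ => Nat) (TT_s5_17 i) (TT_s5_1 i) (Nat.beq (Nat.land (Nat.shiftRight i 4) 1) 0)
noncomputable def TT_s4_2 (i : Nat) : Nat := Bool.rec (motive := fun _ => Nat) (TT_s5_18 i) (TT_s5_2 i) (Nat.beq (Nat.land (Nat.shiftRight i 4) 1) 0)
noncomputable def TT_s4_3 (i : Nat) : Nat := Bool.rec (motive := fun _ => Nat) (TT_s5_19 i) (TT_s5_3 i) (Nat.beq (Nat.land (Nat.shiftRight i 4) 1) 0)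
noncomputable def TT_s4_4 (i : Nat) : Nat := Bool.rec (motive := fun _ => Nat) (TT_s5_20 i) (TT_s5_4 i) (Nat.beq (Nat.land (Nat.shiftRight i 4) 1) 0)
noncomputable def TT_s4_5 (i : Nat) : Nat := Bool.rec (motive := fun _ => Nat) (TT_s5_21 i) (TT_s5_5 i) (Nat.beq (Nat.land (Nat.shiftRight i 4) 1) 0)
noncomputable def TT_s4_6 (i : Nat) : Nat := Bool.rec (motive := fun _ => Nat) (TT_s5_22 i) (TT_s5_6 i) (Nat.beq (Nat.land (Nat.shiftRight i 4) 1) 0)
noncomputable def TT_s4_7 (i : Nat) : Nat := Bool.rec (motive := fun _ => Nat) (TT_s5_23 i) (TT_s5_7 i) (Nat.beq (Nat.land (Nat.shiftRight i 4) 1) 0)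
noncomputable def TT_s4_8 (i : Nat) : Nat := Bool.rec (motive := fun _ => Nat) (TT_s5_24 i) (TT_s5_8 i) (Nat.beq (Nat.land (Nat.shiftRight i 4) 1) 0)
noncomputable def TT_s4_9 (i : Nat) : Nat := Bool.rec (motive := fun _ => Nat) (TT_s5_25 i) (TT_s5_9 i) (Nat.beq (Nat.land (Nat.shiftRight i 4) 1) 0)
noncomputable def TT_s4_10 (i : Nat) : Nat := Bool.rec (motive := fun _ => Nat) (TT_s5_26 i) (TT_s5_10 i) (Nat.beq (Nat.land (Nat.shiftRight i 4) 1) 0)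
noncomputable def TT_s4_11 (i : Nat) : Nat := Bool.rec (motive := fun _ => Nat) (TT_s5_27 i) (TT_s5_11 i) (Nat.beq (Nat.land (Nat.shiftRight i 4) 1) 0)
noncomputable def TT_s4_12 (i : Nat) : Nat := Bool.rec (motive := fun _ => Nat) (TT_s5_28 i) (TT_s5_12 i) (Nat.beq (Nat.land (Nat.shiftRight i 4) 1) 0)
noncomputable def TT_s4_13 (i : Nat) : Nat := Bool.rec (motive := fun _ => Nat) (TT_s5_29 i) (TT_s5_13 i) (Nat.beq (Nat.land (Nat.shiftRight i 4) 1) 0)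
noncomputable def TT_s4_14 (i : Nat) : Nat := Bool.rec (motive := fun _ => Nat) (TT_s5_30 i) (TT_s5_14 i) (Nat.beq (Nat.land (Nat.shiftRight i 4) 1) 0)
noncomputable def TT_s4_15 (i : Nat) : Nat := Bool.rec (motive := fun _ => Nat) (TT_s5_31 i) (TT_s5_15 i) (Nat.beq (Nat.land (Nat.shiftRight i 4) 1) 0)
noncomputable def TT_s3_0 (i : Nat) : Nat := Bool.rec (motive := fun _ => Nat) (TT_s4_8 i) (TT_s4_0 i) (Nat.beq (Nat.land (Nat.shiftRight i 3) 1) 0)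
noncomputable def TT_s3_1 (i : Nat) : Nat := Bool.rec (motive := fun _ => Nat) (TT_s4_9 i) (TT_s4_1 i) (Nat.beq (Nat.land (Nat.shiftRight i 3) 1) 0)
noncomputable def TT_s3_2 (i : Nat) : Nat := Bool.rec (motive := fun _ => Nat) (TT_s4_10 i) (TT_s4_2 i) (Nat.beq (Nat.land (Nat.shiftRight i 3) 1) 0)
noncomputable def TT_s3_3 (i : Nat) : Nat := Bool.rec (motive := fun _ => Nat) (TT_s4_11 i) (TT_s4_3 i) (Nat.beq (Nat.land (Nat.shiftRight i 3) 1) 0)
noncomputable def TT_s3_4 (i : Nat) : Nat := Bool.rec (motive := fun _ => Nat) (TT_s4_12 i) (TT_s4_4 i) (Nat.beq (Nat.land (Nat.shiftRight i 3) 1) 0)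
noncomputable def TT_s3_5 (i : Nat) : Nat := Bool.rec (motive := fun _ => Nat) (TT_s4_13 i) (TT_s4_5 i) (Nat.beq (Nat.land (Nat.shiftRight i 3) 1) 0)
noncomputable def TT_s3_6 (i : Nat) : Nat := Bool.rec (motive := fun _ => Nat) (TT_s4_14 i) (TT_s4_6 i) (Nat.beq (Nat.land (Nat.shiftRight i 3) 1) 0)
noncomputable def TT_s3_7 (i : Nat) : Nat := Bool.rec (motive := fun _ => Nat) (TT_s4_15 i) (TT_s4_7 i) (Nat.beq (Nat.land (Nat.shiftRight i 3) 1) 0)
noncomputable def TT_s2_0 (i : Nat) : Nat := Bool.rec (motive := fun _ => Nat) (TT_s3_4 i) (TT_s3_0 i) (Nat.beq (Nat.land (Nat.shiftRight i 2) 1) 0)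
noncomputable def TT_s2_1 (i : Nat) : Nat := Bool.rec (motive := fun _ => Nat) (TT_s3_5 i) (TT_s3_1 i) (Nat.beq (Nat.land (Nat.shiftRight i 2) 1) 0)
noncomputable def TT_s2_2 (i : Nat) : Nat := Bool.rec (motive := fun _ => Nat) (TT_s3_6 i) (TT_s3_2 i) (Nat.beq (Nat.land (Nat.shiftRight i 2) 1) 0)
noncomputable def TT_s2_3 (i : Nat) : Nat := Bool.rec (motive := fun _ => Nat) (TT_s3_7 i) (TT_s3_3 i) (Nat.beq (Nat.land (Nat.shiftRight i 2) 1) 0)
noncomputable def TT_s1_0 (i : Nat) : Nat := Bool.rec (motive := fun _ => Nat) (TT_s2_2 i) (TT_s2_0 i) (Nat.beq (Nat.land (Nat.shiftRight i 1) 1) 0)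
noncomputable def TT_s1_1 (i : Nat) : Nat := Bool.rec (motive := fun _ => Nat) (TT_s2_3 i) (TT_s2_1 i) (Nat.beq (Nat.land (Nat.shiftRight i 1) 1) 0)
noncomputable def TT_s0_0 (i : Nat) : Nat := Bool.rec (motive := fun _ => Nat) (TT_s1_1 i) (TT_s1_0 i) (Nat.beq (Nat.land (Nat.shiftRight i 0) 1) 0)
noncomputable def F (g p : Nat) : Nat := Nat.land (Nat.shiftRight (TT_s0_0 g) (Nat.mul p 12)) 4095

def progL : List (List Nat) := [
  [],
  [],
  [0, 0, 0, 0, 1, 0, 0, 1, 0, 0, 1, 0, 0, 1, 0, 1, 1, 1, 0, 1, 1, 0, 1, 1, 1, 0, 0, 0, 1, 1, 0, 1, 0, 1, 1, 1, 1, 0, 0, 1],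
  [1, 0, 0, 0, 1, 0, 0, 0, 1, 0, 0, 0, 0, 0, 0, 0, 1, 0, 0, 1, 1, 0, 0, 0, 1, 0, 1, 1, 0, 0, 0, 1, 1, 1, 0, 1, 1, 1, 1, 0, 0, 0, 0, 1],
  [2, 2, 2, 3, 2, 3, 3, 2, 3, 2, 3, 3, 3, 3, 3, 3, 2, 2, 3, 2, 2, 2, 3, 2, 3, 2, 2, 3, 3, 2, 2, 2, 3, 2, 3],
  [2, 3, 3, 2, 3, 3, 2, 2, 3, 3, 2, 3, 2, 2, 3, 3, 3, 2, 2, 2, 3, 3, 2, 3, 2, 3, 3, 2, 2, 3, 2, 3, 2, 2, 2, 2],
  [4, 4, 4, 5, 4, 4, 4, 4, 5, 4, 5, 5, 4, 5, 5, 5, 5, 5, 5, 5, 5, 5, 5, 4, 4, 4, 4, 4, 4, 5, 5, 5, 4, 5],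
  [5, 5, 4, 5, 5, 5, 4, 5, 4, 4, 4, 4, 4, 4, 4, 4, 5, 4, 5, 5, 4, 4, 4, 5, 5, 4, 5, 5, 5, 5, 5, 4, 4, 5],
  [0, 0, 0, 1, 0, 1, 0, 1, 0, 0, 0, 0, 1, 0, 1, 1, 0, 0, 1, 0, 1, 0, 0, 1],
  [8, 8, 8, 8, 8, 8, 8, 8, 8, 8, 8],
  [1, 9, 1, 8],
  [1, 1, 0, 1, 1, 0, 0, 0, 0, 1, 0, 0, 1, 1, 0, 1, 0, 1, 0, 1, 1, 1, 0, 1],
  [11, 11, 11, 11, 11, 11, 11, 11, 11, 11, 11, 11, 11, 11, 11, 11, 11, 11, 11],
  [1, 12, 1, 11],
  [1, 1, 1, 1, 1, 1, 1, 0, 0, 0, 0, 0, 0, 1, 0, 0, 1, 0, 1, 1, 1, 0, 1, 0],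
  [14, 14, 14, 14, 14, 14, 14, 14, 14, 14, 14, 14, 14, 14, 14, 14, 14, 14, 14, 14, 14, 14, 14, 14, 14, 14, 14, 14],
  [1, 15, 1, 14],
  [0, 0, 0, 1, 0, 1, 1, 1, 1, 1, 1, 0, 0, 0, 0, 0, 0, 0, 0, 1, 1, 0, 0, 1],
  [17, 17, 17, 17, 17, 17, 17, 17, 17, 17, 17, 17, 17, 17, 17, 17, 17, 17, 17],
  [1, 18, 1, 17],
  [10, 10, 10, 10, 10],
  [13, 13, 13],
  [16, 16, 16, 16, 16],
  [19, 19, 19, 19],
  [20, 21, 22, 21, 20, 23, 20, 21, 21, 20, 20, 21, 21, 22, 22, 20, 20, 22, 21, 20, 21, 21, 23, 21, 23, 20, 23, 22, 22],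
  [20, 21, 22, 21, 22, 23, 22, 20, 21, 23, 20, 21, 22, 21, 20, 21, 23, 23, 20, 23, 23, 20, 23, 23, 20, 22, 22, 21, 22, 21, 23, 20],
  [20, 22, 23, 20, 21, 20, 22, 21, 23, 22, 22, 20, 21, 23, 21, 21, 22, 20, 23, 22, 21, 20, 21, 21, 23, 20, 20, 21, 23, 22, 22, 21],
  [20, 21, 22, 21, 22, 20, 22, 22, 21, 21, 22, 23, 22, 20, 23, 21, 22, 23, 20, 23, 22, 22, 20, 23, 23, 21, 20, 23, 21, 21, 20],
  [22, 23, 20, 22, 23, 21, 22, 20, 20, 22, 22, 20, 21, 22, 23, 23, 20, 21, 23, 20, 23, 22, 23, 20, 23, 23, 23, 21, 23, 20],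
  [20, 23, 21, 20, 21, 22, 20, 23, 22, 23, 22, 20, 23, 22, 20, 20, 22, 22, 21, 20, 20, 23, 21, 23, 21, 22, 23, 22, 22, 21, 22, 23],
  [20, 23, 20, 22, 21, 20, 21, 20, 23, 23, 21, 22, 21, 21, 23, 21, 23, 22, 22, 20, 22, 21, 23, 23, 23, 23, 20, 23, 20, 21],
  [23, 22, 21, 20, 23, 21, 23, 21, 22, 23, 21, 21, 22, 20, 22, 20, 21, 21, 22, 22, 23, 21, 20, 23, 20, 20, 20, 23, 20, 21],
  [0, 0, 1, 1, 1, 0, 0, 0, 1, 0, 1, 0, 0, 1, 1, 0, 0, 1, 0, 1, 0, 0, 1, 1],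
  [0, 1, 0, 0, 1, 0, 0, 0, 0, 1, 0, 0, 1, 1, 0, 0, 1, 1, 1, 0, 0, 1, 0, 1],
  [1, 1, 0, 1, 1, 1, 0, 0, 1, 1, 0, 1, 0, 1, 0, 0, 0, 1, 0, 1, 1, 0, 0, 0],
  [1, 0, 0, 1, 1, 0, 1, 0, 0, 1, 0, 1, 0, 1, 1, 0, 0, 0, 1, 0, 0, 1, 0, 1],
  [1, 0, 0, 0, 0, 1, 1, 0, 0, 0, 1, 0, 1, 0, 0, 1, 0, 0, 1, 1, 0, 1, 1, 1],
  [1, 1, 1, 0, 0, 0, 0, 0, 0, 0, 0, 1, 1, 0, 1, 1, 1, 1, 0, 1, 1, 1, 0, 1],
  [0, 1, 1, 1, 1, 0, 0, 1, 1, 1, 1, 0, 1, 0, 1, 1, 0, 1, 1, 0, 0, 0, 0, 0],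
  [0, 1, 1, 1, 0, 1, 1, 1, 1, 0, 0, 1, 0, 0, 1, 0, 0, 1, 1, 0, 1, 1, 0, 0],
  [1, 1, 1, 1, 1, 0, 0, 0, 1, 0, 1, 1, 0, 1, 1, 1, 1, 0, 0, 0, 0, 1, 1, 0],
  [1, 1, 1, 0, 1, 1, 1, 1, 0, 1, 1, 1, 1, 0, 1, 1, 1, 0, 1, 1, 0, 0, 1, 1],
  [1, 1, 0, 0, 1, 1, 1, 0, 0, 1, 1, 0, 0, 1, 1, 1, 1, 0, 0, 0, 1, 1, 0, 0],
  [1, 1, 1, 1, 1, 1, 0, 0, 0, 0, 0, 0, 0, 0, 1, 0, 1, 0, 1, 0, 0, 1, 0, 0],
  [1, 0, 1, 0, 0, 0, 1, 0, 1, 1, 1, 1, 1, 1, 0, 0, 0, 0, 1, 0, 0, 1, 1, 0],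
  [0, 0, 1, 0, 1, 1, 1, 0, 0, 0, 1, 1, 0, 0, 1, 1, 1, 0, 0, 1, 0, 1, 1, 0],
  [1, 1, 1, 0, 1, 0, 0, 1, 1, 0, 1, 0, 1, 1, 1, 1, 0, 1, 1, 0, 0, 0, 1, 0],
  [1, 1, 0, 1, 0, 1, 1, 0, 1, 1, 0, 0, 1, 1, 1, 0, 1, 1, 0, 0, 0, 0, 1, 0],
  [1, 0, 1, 0, 0, 1, 1, 1, 1, 1, 1, 1, 1, 1, 0, 0, 0, 1, 0, 0, 0, 1, 0, 1],
  [1, 0, 1, 1, 0, 1, 0, 1, 0, 1, 1, 0, 1, 0, 0, 1, 1, 1, 1, 1, 1, 0, 1, 0],
  [0, 0, 1, 1, 1, 1, 1, 0, 1, 0, 0, 1, 0, 1, 0, 1, 0, 1, 1, 0, 0, 0, 1, 0],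
  [0, 1, 0, 1, 0, 0, 1, 0, 0, 0, 0, 0, 0, 1, 1, 0, 0, 0, 0, 0, 0, 1, 1, 0],
  [0, 0, 0, 0, 0, 0, 1, 0, 1, 0, 1, 0, 0, 0, 1, 1, 0, 0, 0, 1, 0, 1, 0, 0],
  [0, 1, 0, 1, 0, 0, 0, 0, 0, 0, 1, 1, 1, 1, 0, 1, 0, 1, 1, 0, 0, 0, 1, 0],
  [1, 1, 0, 1, 0, 0, 1, 1, 0, 1, 0, 0, 1, 1, 0, 1, 0, 0, 0, 0, 1, 1, 0, 1],
  [1, 1, 1, 0, 1, 0, 0, 0, 0, 0, 1, 1, 0, 1, 0, 0, 0, 0, 1, 0, 0, 1, 1, 1],
  [1, 1, 1, 1, 1, 1, 1, 1, 0, 0, 1, 0, 1, 1, 1, 1, 1, 1, 0, 1, 1, 0, 0, 1],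
  [1, 0, 1, 0, 1, 1, 1, 0, 0, 1, 0, 0, 0, 1, 0, 0, 0, 0, 0, 0, 1, 0, 0, 0],
  [1, 1, 1, 1, 0, 1, 0, 1, 1, 0, 0, 1, 1, 1, 1, 1, 0, 1, 1, 1, 1, 1, 1, 0],
  [0, 1, 1, 1, 0, 1, 0, 1, 0, 0, 0, 1, 1, 0, 1, 1, 0, 1, 0, 1, 1, 1, 1, 0],
  [1, 0, 1, 0, 1, 0, 1, 0, 0, 0, 1, 0, 0, 0, 0, 1, 1, 0, 1, 1, 1, 1, 1, 0],
  [1, 1, 0, 0, 0, 0, 1, 0, 1, 0, 1, 0, 1, 0, 1, 1, 1, 1, 1, 1, 1, 1, 1, 0],
  [1, 1, 1, 0, 1, 1, 1, 0, 0, 1, 1, 0, 1, 1, 0, 1, 1, 0, 1, 0, 1, 1, 1, 0],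
  [0, 0, 1, 1, 0, 0, 0, 0, 0, 0, 1, 1, 1, 0, 1, 0, 0, 0, 1, 0, 1, 1, 0, 1],
  [32, 32, 32, 32, 32, 32, 32],
  [33, 33, 33, 33, 33, 33, 33, 33, 33, 33, 33, 33, 33],
  [34, 34, 34, 34, 34],
  [35, 35, 35, 35, 35, 35, 35],
  [36, 36, 36, 36, 36, 36, 36, 36, 36, 36],
  [37, 37, 37, 37, 37, 37, 37, 37, 37, 37, 37, 37],
  [38, 38, 38, 38, 38, 38, 38, 38, 38, 38, 38, 38],
  [39, 39, 39, 39, 39, 39, 39],
  [40, 40, 40, 40, 40],
  [41, 41, 41],
  [42, 42, 42, 42, 42, 42, 42, 42, 42, 42, 42, 42],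
  [43, 43, 43, 43, 43, 43, 43, 43, 43, 43, 43, 43],
  [44, 44, 44, 44, 44],
  [45, 45, 45, 45, 45],
  [46, 46, 46, 46, 46, 46, 46, 46, 46, 46],
  [47, 47, 47, 47, 47, 47, 47, 47, 47, 47],
  [48, 48, 48, 48, 48, 48, 48, 48, 48, 48],
  [49, 49, 49, 49, 49, 49],
  [50, 50, 50, 50, 50, 50],
  [51, 51, 51, 51, 51, 51, 51, 51, 51, 51, 51, 51],
  [52, 52, 52, 52, 52, 52, 52, 52, 52, 52, 52, 52],
  [53, 53, 53, 53, 53, 53, 53, 53, 53, 53],
  [54, 54, 54, 54, 54],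
  [55, 55, 55],
  [56, 56, 56, 56, 56, 56],
  [57, 57, 57],
  [58, 58, 58],
  [59, 59, 59, 59, 59, 59, 59, 59, 59, 59],
  [60, 60, 60, 60, 60, 60],
  [61, 61, 61, 61, 61, 61],
  [62, 62, 62, 62, 62, 62, 62],
  [63, 63, 63, 63],
  [7, 4, 4, 4, 5, 4, 4, 5, 5, 4, 4, 5, 5],
  [7, 6, 5, 5, 5, 5, 5, 4, 5, 5],
  [6, 7, 4, 4, 4, 4, 4, 4, 5, 5, 5, 5],
  [6, 7, 4, 4, 4, 4, 4, 5, 5],
  [7, 6, 5, 4, 5, 5, 5, 4, 5, 4, 5, 3, 2, 2, 3, 3, 2],
  [6, 7, 7, 5, 4, 5, 4, 5, 4, 4, 5, 4, 5, 2, 3, 2, 3, 2, 2, 2, 3, 2, 2, 3],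
  [7, 5, 4, 5, 4, 5, 4, 5, 5, 5, 5, 2, 3, 3, 3, 2, 2, 3, 2, 2, 3, 2],
  [7, 7, 4, 5, 4, 4, 4, 4, 5, 5, 4, 5, 3, 3, 2, 3, 3, 3, 2, 3],
  [6, 7, 6, 7, 5, 5, 4, 5, 5, 5, 4, 5, 4, 5, 2, 3, 2, 3, 3, 3, 3, 2, 2, 2],
  [6, 7, 7, 6, 7, 4, 5, 4, 4, 4, 5, 4, 5, 5, 3, 3, 2, 2, 2, 3, 3, 2, 3],
  [6, 7, 7, 6, 5, 4, 5, 4, 4, 4, 4, 5, 5, 2, 2, 2, 2, 3, 3, 2, 2, 2, 2],
  [4, 4, 4, 4, 4, 5, 4, 5, 4, 3, 2, 3, 3, 2, 2, 3, 2, 2, 3],
  [7, 7, 6, 5, 4, 5, 4, 4, 4, 5, 5, 3, 2, 2, 3, 3, 2, 3, 2, 3, 0, 0, 0, 0, 1, 0, 0, 0, 0, 0, 0, 1, 0, 0, 1, 0, 0],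
  [4, 4, 5, 4, 4, 5, 5, 4, 4, 2, 2, 3, 3, 3, 3, 2, 3, 3, 2, 3, 3, 1, 0, 0, 0, 1, 0, 0, 1, 0, 0, 1, 0, 0, 0, 0, 1, 0, 0, 1],
  [6, 7, 7, 6, 7, 5, 4, 5, 5, 5, 5, 5, 4, 5, 5, 3, 3, 2, 3, 3, 2, 3, 2, 2, 0, 1, 0, 0, 0, 0, 0, 0, 1, 0, 0, 0, 1, 0, 0, 0, 0, 0, 0, 1, 0, 1],
  [98, 108]]
def prog (g : Nat) : List Nat := progL.getD g []

def prog2L : List (List Nat) := [
  [],
  [],
  [],
  [],
  [113, 115, 112, 114, 112, 112, 115, 113, 115, 114, 112, 112, 113, 115, 113, 112, 115, 112, 115, 114, 115, 113, 114, 114, 115, 114, 114, 112, 114, 115, 115, 113, 115, 113, 112, 115, 113, 115, 115, 112],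
  [116],
  [115, 115, 112, 113, 113, 113, 112, 112, 112, 115, 114, 112, 114, 112, 114, 114, 113, 115, 115, 112, 112, 115, 114, 113],
  [118, 118, 118, 118, 118, 118, 118, 118],
  [114, 114, 113, 113, 113, 115, 113, 115, 114, 113, 113, 113, 115, 114, 114, 114, 115, 115, 112, 113, 115, 115, 114, 114],
  [120, 120, 120, 120, 120, 120, 120, 120, 120, 120, 120, 120],
  [114, 115, 113, 115, 115, 112, 112, 112, 112, 112, 114, 115, 113, 115, 114, 113, 112, 114, 114, 115, 115, 115, 112, 115],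
  [122, 122, 122, 122, 122, 122],
  [119, 121, 123, 112, 123, 121, 119]]
def prog2 (g : Nat) : List Nat := prog2L.getD (g - 112) []

noncomputable def dL0_pt_s0_0 (i : Nat) : Nat := Bool.rec (motive := fun _ => Nat) dL0_pt_p1 dL0_pt_p0 (Nat.beq (Nat.land (Nat.shiftRight i 0) 1) 0)
noncomputable def dL0_pt (p : Nat) : Nat :=
  Nat.land (Nat.shiftRight (dL0_pt_s0_0 (Nat.shiftRight p 11)) (Nat.mul (Nat.land p 2047) 12)) 4095

noncomputable def dL0_pi_s0_0 (i : Nat) : Nat := Bool.rec (motive := fun _ => Nat) dL0_pi_p1 dL0_pi_p0 (Nat.beq (Nat.land (Nat.shiftRight i 0) 1) 0)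
noncomputable def dL0_pi (p : Nat) : Nat :=
  Nat.land (Nat.shiftRight (dL0_pi_s0_0 (Nat.shiftRight p 11)) (Nat.mul (Nat.land p 2047) 12)) 4095

noncomputable def dL0_tr_s0_0 (i : Nat) : Nat := Bool.rec (motive := fun _ => Nat) dL0_tr_p1 dL0_tr_p0 (Nat.beq (Nat.land (Nat.shiftRight i 0) 1) 0)
noncomputable def dL0_tr (p : Nat) : Nat :=
  Nat.land (Nat.shiftRight (dL0_tr_s0_0 (Nat.shiftRight p 11)) (Nat.mul (Nat.land p 2047) 13)) 8191

noncomputable def dL0 : LevD := ⟨0, 4060, 2, 0, dL0_pt, dL0_pi, dL0_tr⟩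

noncomputable def dL1_pt_s0_0 (i : Nat) : Nat := Bool.rec (motive := fun _ => Nat) dL1_pt_p1 dL1_pt_p0 (Nat.beq (Nat.land (Nat.shiftRight i 0) 1) 0)
noncomputable def dL1_pt (p : Nat) : Nat :=
  Nat.land (Nat.shiftRight (dL1_pt_s0_0 (Nat.shiftRight p 11)) (Nat.mul (Nat.land p 2047) 12)) 4095

noncomputable def dL1_pi_s0_0 (i : Nat) : Nat := Bool.rec (motive := fun _ => Nat) dL1_pi_p1 dL1_pi_p0 (Nat.beq (Nat.land (Nat.shiftRight i 0) 1) 0)
noncomputable def dL1_pi (p : Nat) : Nat :=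
  Nat.land (Nat.shiftRight (dL1_pi_s0_0 (Nat.shiftRight p 11)) (Nat.mul (Nat.land p 2047) 12)) 4095

noncomputable def dL1_tr_s0_0 (i : Nat) : Nat := Bool.rec (motive := fun _ => Nat) dL1_tr_p1 dL1_tr_p0 (Nat.beq (Nat.land (Nat.shiftRight i 0) 1) 0)
noncomputable def dL1_tr (p : Nat) : Nat :=
  Nat.land (Nat.shiftRight (dL1_tr_s0_0 (Nat.shiftRight p 11)) (Nat.mul (Nat.land p 2047) 13)) 8191

noncomputable def dL1 : LevD := ⟨6, 2304, 2, 2, dL1_pt, dL1_pi, dL1_tr⟩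

noncomputable def dL2_pt_s0_0 (_ : Nat) : Nat := dL2_pt_p0
noncomputable def dL2_pt (p : Nat) : Nat :=
  Nat.land (Nat.shiftRight (dL2_pt_s0_0 (Nat.shiftRight p 10)) (Nat.mul (Nat.land p 1023) 12)) 4095

noncomputable def dL2_pi_s0_0 (i : Nat) : Nat := Bool.rec (motive := fun _ => Nat) dL2_pi_p1 dL2_pi_p0 (Nat.beq (Nat.land (Nat.shiftRight i 0) 1) 0)
noncomputable def dL2_pi (p : Nat) : Nat :=
  Nat.land (Nat.shiftRight (dL2_pi_s0_0 (Nat.shiftRight p 11)) (Nat.mul (Nat.land p 2047) 10)) 1023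

noncomputable def dL2_tr_s0_0 (_ : Nat) : Nat := dL2_tr_p0
noncomputable def dL2_tr (p : Nat) : Nat :=
  Nat.land (Nat.shiftRight (dL2_tr_s0_0 (Nat.shiftRight p 10)) (Nat.mul (Nat.land p 1023) 11)) 2047

noncomputable def dL2 : LevD := ⟨4, 975, 2, 4, dL2_pt, dL2_pi, dL2_tr⟩

noncomputable def dL3_pt_s0_0 (_ : Nat) : Nat := dL3_pt_p0
noncomputable def dL3_pt (p : Nat) : Nat :=
  Nat.land (Nat.shiftRight (dL3_pt_s0_0 (Nat.shiftRight p 4)) (Nat.mul (Nat.land p 15) 12)) 4095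

noncomputable def dL3_pi_s0_0 (_ : Nat) : Nat := dL3_pi_p0
noncomputable def dL3_pi (p : Nat) : Nat :=
  Nat.land (Nat.shiftRight (dL3_pi_s0_0 (Nat.shiftRight p 12)) (Nat.mul (Nat.land p 4095) 5)) 31

noncomputable def dL3_tr_s0_0 (_ : Nat) : Nat := dL3_tr_p0
noncomputable def dL3_tr (p : Nat) : Nat :=
  Nat.land (Nat.shiftRight (dL3_tr_s0_0 (Nat.shiftRight p 4)) (Nat.mul (Nat.land p 15) 5)) 31

noncomputable def dL3 : LevD := ⟨1, 16, 2, 6, dL3_pt, dL3_pi, dL3_tr⟩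

noncomputable def cL0_pt_s0_0 (_ : Nat) : Nat := cL0_pt_p0
noncomputable def cL0_pt (p : Nat) : Nat :=
  Nat.land (Nat.shiftRight (cL0_pt_s0_0 (Nat.shiftRight p 11)) (Nat.mul (Nat.land p 2047) 12)) 4095

noncomputable def cL0_pi_s0_0 (i : Nat) : Nat := Bool.rec (motive := fun _ => Nat) cL0_pi_p1 cL0_pi_p0 (Nat.beq (Nat.land (Nat.shiftRight i 0) 1) 0)
noncomputable def cL0_pi (p : Nat) : Nat :=
  Nat.land (Nat.shiftRight (cL0_pi_s0_0 (Nat.shiftRight p 11)) (Nat.mul (Nat.land p 2047) 12)) 4095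

noncomputable def cL0_tr_s0_0 (_ : Nat) : Nat := cL0_tr_p0
noncomputable def cL0_tr (p : Nat) : Nat :=
  Nat.land (Nat.shiftRight (cL0_tr_s0_0 (Nat.shiftRight p 11)) (Nat.mul (Nat.land p 2047) 13)) 8191

noncomputable def cL0 : LevD := ⟨2, 2048, 4, 20, cL0_pt, cL0_pi, cL0_tr⟩

noncomputable def cL1_pt_s0_0 (_ : Nat) : Nat := cL1_pt_p0
noncomputable def cL1_pt (p : Nat) : Nat :=
  Nat.land (Nat.shiftRight (cL1_pt_s0_0 (Nat.shiftRight p 7)) (Nat.mul (Nat.land p 127) 12)) 4095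

noncomputable def cL1_pi_s0_0 (_ : Nat) : Nat := cL1_pi_p0
noncomputable def cL1_pi (p : Nat) : Nat :=
  Nat.land (Nat.shiftRight (cL1_pi_s0_0 (Nat.shiftRight p 12)) (Nat.mul (Nat.land p 4095) 7)) 127

noncomputable def cL1_tr_s0_0 (_ : Nat) : Nat := cL1_tr_p0
noncomputable def cL1_tr (p : Nat) : Nat :=
  Nat.land (Nat.shiftRight (cL1_tr_s0_0 (Nat.shiftRight p 7)) (Nat.mul (Nat.land p 127) 10)) 1023

noncomputable def cL1 : LevD := ⟨0, 120, 8, 24, cL1_pt, cL1_pi, cL1_tr⟩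

noncomputable def ds : List LevD := [dL0, dL1, dL2, dL3]
noncomputable def cs : List LevD := [cL0, cL1]

noncomputable def FPL_s9_0 (i : Nat) : Nat := Bool.rec (motive := fun _ => Nat) FPL_p512 FPL_p0 (Nat.beq (Nat.land (Nat.shiftRight i 9) 1) 0)
noncomputable def FPL_s9_1 (i : Nat) : Nat := Bool.rec (motive := fun _ => Nat) FPL_p513 FPL_p1 (Nat.beq (Nat.land (Nat.shiftRight i 9) 1) 0)
noncomputable def FPL_s9_2 (i : Nat) : Nat := Bool.rec (motive := fun _ => Nat) FPL_p514 FPL_p2 (Nat.beq (Nat.land (Nat.shiftRight i 9) 1) 0)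
noncomputable def FPL_s9_3 (i : Nat) : Nat := Bool.rec (motive := fun _ => Nat) FPL_p515 FPL_p3 (Nat.beq (Nat.land (Nat.shiftRight i 9) 1) 0)
noncomputable def FPL_s9_4 (i : Nat) : Nat := Bool.rec (motive := fun _ => Nat) FPL_p516 FPL_p4 (Nat.beq (Nat.land (Nat.shiftRight i 9) 1) 0)
noncomputable def FPL_s9_5 (i : Nat) : Nat := Bool.rec (motive := fun _ => Nat) FPL_p517 FPL_p5 (Nat.beq (Nat.land (Nat.shiftRight i 9) 1) 0)
noncomputable def FPL_s9_6 (i : Nat) : Nat := Bool.rec (motive := fun _ => Nat) FPL_p518 FPL_p6 (Nat.beq (Nat.land (Nat.shiftRight i 9) 1) 0)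
noncomputable def FPL_s9_7 (i : Nat) : Nat := Bool.rec (motive := fun _ => Nat) FPL_p519 FPL_p7 (Nat.beq (Nat.land (Nat.shiftRight i 9) 1) 0)
noncomputable def FPL_s9_8 (i : Nat) : Nat := Bool.rec (motive := fun _ => Nat) FPL_p520 FPL_p8 (Nat.beq (Nat.land (Nat.shiftRight i 9) 1) 0)
noncomputable def FPL_s9_9 (i : Nat) : Nat := Bool.rec (motive := fun _ => Nat) FPL_p521 FPL_p9 (Nat.beq (Nat.land (Nat.shiftRight i 9) 1) 0)
noncomputable def FPL_s9_10 (i : Nat) : Nat := Bool.rec (motive := fun _ => Nat) FPL_p522 FPL_p10 (Nat.beq (Nat.land (Nat.shiftRight i 9) 1) 0)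
noncomputable def FPL_s9_11 (i : Nat) : Nat := Bool.rec (motive := fun _ => Nat) FPL_p523 FPL_p11 (Nat.beq (Nat.land (Nat.shiftRight i 9) 1) 0)
noncomputable def FPL_s9_12 (i : Nat) : Nat := Bool.rec (motive := fun _ => Nat) FPL_p524 FPL_p12 (Nat.beq (Nat.land (Nat.shiftRight i 9) 1) 0)
noncomputable def FPL_s9_13 (i : Nat) : Nat := Bool.rec (motive := fun _ => Nat) FPL_p525 FPL_p13 (Nat.beq (Nat.land (Nat.shiftRight i 9) 1) 0)
noncomputable def FPL_s9_14 (i : Nat) : Nat := Bool.rec (motive := fun _ => Nat) FPL_p526 FPL_p14 (Nat.beq (Nat.land (Nat.shiftRight i 9) 1) 0)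
noncomputable def FPL_s9_15 (i : Nat) : Nat := Bool.rec (motive := fun _ => Nat) FPL_p527 FPL_p15 (Nat.beq (Nat.land (Nat.shiftRight i 9) 1) 0)
noncomputable def FPL_s9_16 (i : Nat) : Nat := Bool.rec (motive := fun _ => Nat) FPL_p528 FPL_p16 (Nat.beq (Nat.land (Nat.shiftRight i 9) 1) 0)
noncomputable def FPL_s9_17 (i : Nat) : Nat := Bool.rec (motive := fun _ => Nat) FPL_p529 FPL_p17 (Nat.beq (Nat.land (Nat.shiftRight i 9) 1) 0)
noncomputable def FPL_s9_18 (i : Nat) : Nat := Bool.rec (motive := fun _ => Nat) FPL_p530 FPL_p18 (Nat.beq (Nat.land (Nat.shiftRight i 9) 1) 0)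
noncomputable def FPL_s9_19 (i : Nat) : Nat := Bool.rec (motive := fun _ => Nat) FPL_p531 FPL_p19 (Nat.beq (Nat.land (Nat.shiftRight i 9) 1) 0)
noncomputable def FPL_s9_20 (i : Nat) : Nat := Bool.rec (motive := fun _ => Nat) FPL_p532 FPL_p20 (Nat.beq (Nat.land (Nat.shiftRight i 9) 1) 0)
noncomputable def FPL_s9_21 (i : Nat) : Nat := Bool.rec (motive := fun _ => Nat) FPL_p533 FPL_p21 (Nat.beq (Nat.land (Nat.shiftRight i 9) 1) 0)
noncomputable def FPL_s9_22 (i : Nat) : Nat := Bool.rec (motive := fun _ => Nat) FPL_p534 FPL_p22 (Nat.beq (Nat.land (Nat.shiftRight i 9) 1) 0)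
noncomputable def FPL_s9_23 (i : Nat) : Nat := Bool.rec (motive := fun _ => Nat) FPL_p535 FPL_p23 (Nat.beq (Nat.land (Nat.shiftRight i 9) 1) 0)
noncomputable def FPL_s9_24 (i : Nat) : Nat := Bool.rec (motive := fun _ => Nat) FPL_p536 FPL_p24 (Nat.beq (Nat.land (Nat.shiftRight i 9) 1) 0)
noncomputable def FPL_s9_25 (i : Nat) : Nat := Bool.rec (motive := fun _ => Nat) FPL_p537 FPL_p25 (Nat.beq (Nat.land (Nat.shiftRight i 9) 1) 0)
noncomputable def FPL_s9_26 (i : Nat) : Nat := Bool.rec (motive := fun _ => Nat) FPL_p538 FPL_p26 (Nat.beq (Nat.land (Nat.shiftRight i 9) 1) 0)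
noncomputable def FPL_s9_27 (i : Nat) : Nat := Bool.rec (motive := fun _ => Nat) FPL_p539 FPL_p27 (Nat.beq (Nat.land (Nat.shiftRight i 9) 1) 0)
noncomputable def FPL_s9_28 (i : Nat) : Nat := Bool.rec (motive := fun _ => Nat) FPL_p540 FPL_p28 (Nat.beq (Nat.land (Nat.shiftRight i 9) 1) 0)
noncomputable def FPL_s9_29 (i : Nat) : Nat := Bool.rec (motive := fun _ => Nat) FPL_p541 FPL_p29 (Nat.beq (Nat.land (Nat.shiftRight i 9) 1) 0)
noncomputable def FPL_s9_30 (i : Nat) : Nat := Bool.rec (motive := fun _ => Nat) FPL_p542 FPL_p30 (Nat.beq (Nat.land (Nat.shiftRight i 9) 1) 0)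
noncomputable def FPL_s9_31 (i : Nat) : Nat := Bool.rec (motive := fun _ => Nat) FPL_p543 FPL_p31 (Nat.beq (Nat.land (Nat.shiftRight i 9) 1) 0)
noncomputable def FPL_s9_32 (i : Nat) : Nat := Bool.rec (motive := fun _ => Nat) FPL_p544 FPL_p32 (Nat.beq (Nat.land (Nat.shiftRight i 9) 1) 0)
noncomputable def FPL_s9_33 (i : Nat) : Nat := Bool.rec (motive := fun _ => Nat) FPL_p545 FPL_p33 (Nat.beq (Nat.land (Nat.shiftRight i 9) 1) 0)
noncomputable def FPL_s9_34 (i : Nat) : Nat := Bool.rec (motive := fun _ => Nat) FPL_p546 FPL_p34 (Nat.beq (Nat.land (Nat.shiftRight i 9) 1) 0)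
noncomputable def FPL_s9_35 (i : Nat) : Nat := Bool.rec (motive := fun _ => Nat) FPL_p547 FPL_p35 (Nat.beq (Nat.land (Nat.shiftRight i 9) 1) 0)
noncomputable def FPL_s9_36 (i : Nat) : Nat := Bool.rec (motive := fun _ => Nat) FPL_p548 FPL_p36 (Nat.beq (Nat.land (Nat.shiftRight i 9) 1) 0)
noncomputable def FPL_s9_37 (i : Nat) : Nat := Bool.rec (motive := fun _ => Nat) FPL_p549 FPL_p37 (Nat.beq (Nat.land (Nat.shiftRight i 9) 1) 0)
noncomputable def FPL_s9_38 (i : Nat) : Nat := Bool.rec (motive := fun _ => Nat) FPL_p550 FPL_p38 (Nat.beq (Nat.land (Nat.shiftRight i 9) 1) 0)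
noncomputable def FPL_s9_39 (i : Nat) : Nat := Bool.rec (motive := fun _ => Nat) FPL_p551 FPL_p39 (Nat.beq (Nat.land (Nat.shiftRight i 9) 1) 0)
noncomputable def FPL_s9_40 (i : Nat) : Nat := Bool.rec (motive := fun _ => Nat) FPL_p552 FPL_p40 (Nat.beq (Nat.land (Nat.shiftRight i 9) 1) 0)
noncomputable def FPL_s9_41 (i : Nat) : Nat := Bool.rec (motive := fun _ => Nat) FPL_p553 FPL_p41 (Nat.beq (Nat.land (Nat.shiftRight i 9) 1) 0)
noncomputable def FPL_s9_42 (i : Nat) : Nat := Bool.rec (motive := fun _ => Nat) FPL_p554 FPL_p42 (Nat.beq (Nat.land (Nat.shiftRight i 9) 1) 0)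
noncomputable def FPL_s9_43 (i : Nat) : Nat := Bool.rec (motive := fun _ => Nat) FPL_p555 FPL_p43 (Nat.beq (Nat.land (Nat.shiftRight i 9) 1) 0)
noncomputable def FPL_s9_44 (i : Nat) : Nat := Bool.rec (motive := fun _ => Nat) FPL_p556 FPL_p44 (Nat.beq (Nat.land (Nat.shiftRight i 9) 1) 0)
noncomputable def FPL_s9_45 (i : Nat) : Nat := Bool.rec (motive := fun _ => Nat) FPL_p557 FPL_p45 (Nat.beq (Nat.land (Nat.shiftRight i 9) 1) 0)
noncomputable def FPL_s9_46 (i : Nat) : Nat := Bool.rec (motive := fun _ => Nat) FPL_p558 FPL_p46 (Nat.beq (Nat.land (Nat.shiftRight i 9) 1) 0)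
noncomputable def FPL_s9_47 (i : Nat) : Nat := Bool.rec (motive := fun _ => Nat) FPL_p559 FPL_p47 (Nat.beq (Nat.land (Nat.shiftRight i 9) 1) 0)
noncomputable def FPL_s9_48 (i : Nat) : Nat := Bool.rec (motive := fun _ => Nat) FPL_p560 FPL_p48 (Nat.beq (Nat.land (Nat.shiftRight i 9) 1) 0)
noncomputable def FPL_s9_49 (i : Nat) : Nat := Bool.rec (motive := fun _ => Nat) FPL_p561 FPL_p49 (Nat.beq (Nat.land (Nat.shiftRight i 9) 1) 0)
noncomputable def FPL_s9_50 (i : Nat) : Nat := Bool.rec (motive := fun _ => Nat) FPL_p562 FPL_p50 (Nat.beq (Nat.land (Nat.shiftRight i 9) 1) 0)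
noncomputable def FPL_s9_51 (i : Nat) : Nat := Bool.rec (motive := fun _ => Nat) FPL_p563 FPL_p51 (Nat.beq (Nat.land (Nat.shiftRight i 9) 1) 0)
noncomputable def FPL_s9_52 (i : Nat) : Nat := Bool.rec (motive := fun _ => Nat) FPL_p564 FPL_p52 (Nat.beq (Nat.land (Nat.shiftRight i 9) 1) 0)
noncomputable def FPL_s9_53 (i : Nat) : Nat := Bool.rec (motive := fun _ => Nat) FPL_p565 FPL_p53 (Nat.beq (Nat.land (Nat.shiftRight i 9) 1) 0)
noncomputable def FPL_s9_54 (i : Nat) : Nat := Bool.rec (motive := fun _ => Nat) FPL_p566 FPL_p54 (Nat.beq (Nat.land (Nat.shiftRight i 9) 1) 0)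
noncomputable def FPL_s9_55 (i : Nat) : Nat := Bool.rec (motive := fun _ => Nat) FPL_p567 FPL_p55 (Nat.beq (Nat.land (Nat.shiftRight i 9) 1) 0)
noncomputable def FPL_s9_56 (i : Nat) : Nat := Bool.rec (motive := fun _ => Nat) FPL_p568 FPL_p56 (Nat.beq (Nat.land (Nat.shiftRight i 9) 1) 0)
noncomputable def FPL_s9_57 (i : Nat) : Nat := Bool.rec (motive := fun _ => Nat) FPL_p569 FPL_p57 (Nat.beq (Nat.land (Nat.shiftRight i 9) 1) 0)
noncomputable def FPL_s9_58 (i : Nat) : Nat := Bool.rec (motive := fun _ => Nat) FPL_p570 FPL_p58 (Nat.beq (Nat.land (Nat.shiftRight i 9) 1) 0)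
noncomputable def FPL_s9_59 (i : Nat) : Nat := Bool.rec (motive := fun _ => Nat) FPL_p571 FPL_p59 (Nat.beq (Nat.land (Nat.shiftRight i 9) 1) 0)
noncomputable def FPL_s9_60 (i : Nat) : Nat := Bool.rec (motive := fun _ => Nat) FPL_p572 FPL_p60 (Nat.beq (Nat.land (Nat.shiftRight i 9) 1) 0)
noncomputable def FPL_s9_61 (i : Nat) : Nat := Bool.rec (motive := fun _ => Nat) FPL_p573 FPL_p61 (Nat.beq (Nat.land (Nat.shiftRight i 9) 1) 0)
noncomputable def FPL_s9_62 (i : Nat) : Nat := Bool.rec (motive := fun _ => Nat) FPL_p574 FPL_p62 (Nat.beq (Nat.land (Nat.shiftRight i 9) 1) 0)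
noncomputable def FPL_s9_63 (i : Nat) : Nat := Bool.rec (motive := fun _ => Nat) FPL_p575 FPL_p63 (Nat.beq (Nat.land (Nat.shiftRight i 9) 1) 0)
noncomputable def FPL_s9_64 (i : Nat) : Nat := Bool.rec (motive := fun _ => Nat) FPL_p576 FPL_p64 (Nat.beq (Nat.land (Nat.shiftRight i 9) 1) 0)
noncomputable def FPL_s9_65 (i : Nat) : Nat := Bool.rec (motive := fun _ => Nat) FPL_p577 FPL_p65 (Nat.beq (Nat.land (Nat.shiftRight i 9) 1) 0)
noncomputable def FPL_s9_66 (i : Nat) : Nat := Bool.rec (motive := fun _ => Nat) FPL_p578 FPL_p66 (Nat.beq (Nat.land (Nat.shiftRight i 9) 1) 0)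
noncomputable def FPL_s9_67 (i : Nat) : Nat := Bool.rec (motive := fun _ => Nat) FPL_p579 FPL_p67 (Nat.beq (Nat.land (Nat.shiftRight i 9) 1) 0)
noncomputable def FPL_s9_68 (i : Nat) : Nat := Bool.rec (motive := fun _ => Nat) 0 FPL_p68 (Nat.beq (Nat.land (Nat.shiftRight i 9) 1) 0)
noncomputable def FPL_s9_69 (i : Nat) : Nat := Bool.rec (motive := fun _ => Nat) 0 FPL_p69 (Nat.beq (Nat.land (Nat.shiftRight i 9) 1) 0)
noncomputable def FPL_s9_70 (i : Nat) : Nat := Bool.rec (motive := fun _ => Nat) 0 FPL_p70 (Nat.beq (Nat.land (Nat.shiftRight i 9) 1) 0)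
noncomputable def FPL_s9_71 (i : Nat) : Nat := Bool.rec (motive := fun _ => Nat) 0 FPL_p71 (Nat.beq (Nat.land (Nat.shiftRight i 9) 1) 0)
noncomputable def FPL_s9_72 (i : Nat) : Nat := Bool.rec (motive := fun _ => Nat) 0 FPL_p72 (Nat.beq (Nat.land (Nat.shiftRight i 9) 1) 0)
noncomputable def FPL_s9_73 (i : Nat) : Nat := Bool.rec (motive := fun _ => Nat) 0 FPL_p73 (Nat.beq (Nat.land (Nat.shiftRight i 9) 1) 0)
noncomputable def FPL_s9_74 (i : Nat) : Nat := Bool.rec (motive := fun _ => Nat) 0 FPL_p74 (Nat.beq (Nat.land (Nat.shiftRight i 9) 1) 0)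
noncomputable def FPL_s9_75 (i : Nat) : Nat := Bool.rec (motive := fun _ => Nat) 0 FPL_p75 (Nat.beq (Nat.land (Nat.shiftRight i 9) 1) 0)
noncomputable def FPL_s9_76 (i : Nat) : Nat := Bool.rec (motive := fun _ => Nat) 0 FPL_p76 (Nat.beq (Nat.land (Nat.shiftRight i 9) 1) 0)
noncomputable def FPL_s9_77 (i : Nat) : Nat := Bool.rec (motive := fun _ => Nat) 0 FPL_p77 (Nat.beq (Nat.land (Nat.shiftRight i 9) 1) 0)
noncomputable def FPL_s9_78 (i : Nat) : Nat := Bool.rec (motive := fun _ => Nat) 0 FPL_p78 (Nat.beq (Nat.land (Nat.shiftRight i 9) 1) 0)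
noncomputable def FPL_s9_79 (i : Nat) : Nat := Bool.rec (motive := fun _ => Nat) 0 FPL_p79 (Nat.beq (Nat.land (Nat.shiftRight i 9) 1) 0)
noncomputable def FPL_s9_80 (i : Nat) : Nat := Bool.rec (motive := fun _ => Nat) 0 FPL_p80 (Nat.beq (Nat.land (Nat.shiftRight i 9) 1) 0)
noncomputable def FPL_s9_81 (i : Nat) : Nat := Bool.rec (motive := fun _ => Nat) 0 FPL_p81 (Nat.beq (Nat.land (Nat.shiftRight i 9) 1) 0)
noncomputable def FPL_s9_82 (i : Nat) : Nat := Bool.rec (motive := fun _ => Nat) 0 FPL_p82 (Nat.beq (Nat.land (Nat.shiftRight i 9) 1) 0)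
noncomputable def FPL_s9_83 (i : Nat) : Nat := Bool.rec (motive := fun _ => Nat) 0 FPL_p83 (Nat.beq (Nat.land (Nat.shiftRight i 9) 1) 0)
noncomputable def FPL_s9_84 (i : Nat) : Nat := Bool.rec (motive := fun _ => Nat) 0 FPL_p84 (Nat.beq (Nat.land (Nat.shiftRight i 9) 1) 0)
noncomputable def FPL_s9_85 (i : Nat) : Nat := Bool.rec (motive := fun _ => Nat) 0 FPL_p85 (Nat.beq (Nat.land (Nat.shiftRight i 9) 1) 0)
noncomputable def FPL_s9_86 (i : Nat) : Nat := Bool.rec (motive := fun _ => Nat) 0 FPL_p86 (Nat.beq (Nat.land (Nat.shiftRight i 9) 1) 0)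
noncomputable def FPL_s9_87 (i : Nat) : Nat := Bool.rec (motive := fun _ => Nat) 0 FPL_p87 (Nat.beq (Nat.land (Nat.shiftRight i 9) 1) 0)
noncomputable def FPL_s9_88 (i : Nat) : Nat := Bool.rec (motive := fun _ => Nat) 0 FPL_p88 (Nat.beq (Nat.land (Nat.shiftRight i 9) 1) 0)
noncomputable def FPL_s9_89 (i : Nat) : Nat := Bool.rec (motive := fun _ => Nat) 0 FPL_p89 (Nat.beq (Nat.land (Nat.shiftRight i 9) 1) 0)
noncomputable def FPL_s9_90 (i : Nat) : Nat := Bool.rec (motive := fun _ => Nat) 0 FPL_p90 (Nat.beq (Nat.land (Nat.shiftRight i 9) 1) 0)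
noncomputable def FPL_s9_91 (i : Nat) : Nat := Bool.rec (motive := fun _ => Nat) 0 FPL_p91 (Nat.beq (Nat.land (Nat.shiftRight i 9) 1) 0)
noncomputable def FPL_s9_92 (i : Nat) : Nat := Bool.rec (motive := fun _ => Nat) 0 FPL_p92 (Nat.beq (Nat.land (Nat.shiftRight i 9) 1) 0)
noncomputable def FPL_s9_93 (i : Nat) : Nat := Bool.rec (motive := fun _ => Nat) 0 FPL_p93 (Nat.beq (Nat.land (Nat.shiftRight i 9) 1) 0)
noncomputable def FPL_s9_94 (i : Nat) : Nat := Bool.rec (motive := fun _ => Nat) 0 FPL_p94 (Nat.beq (Nat.land (Nat.shiftRight i 9) 1) 0)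
noncomputable def FPL_s9_95 (i : Nat) : Nat := Bool.rec (motive := fun _ => Nat) 0 FPL_p95 (Nat.beq (Nat.land (Nat.shiftRight i 9) 1) 0)
noncomputable def FPL_s9_96 (i : Nat) : Nat := Bool.rec (motive := fun _ => Nat) 0 FPL_p96 (Nat.beq (Nat.land (Nat.shiftRight i 9) 1) 0)
noncomputable def FPL_s9_97 (i : Nat) : Nat := Bool.rec (motive := fun _ => Nat) 0 FPL_p97 (Nat.beq (Nat.land (Nat.shiftRight i 9) 1) 0)
noncomputable def FPL_s9_98 (i : Nat) : Nat := Bool.rec (motive := fun _ => Nat) 0 FPL_p98 (Nat.beq (Nat.land (Nat.shiftRight i 9) 1) 0)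
noncomputable def FPL_s9_99 (i : Nat) : Nat := Bool.rec (motive := fun _ => Nat) 0 FPL_p99 (Nat.beq (Nat.land (Nat.shiftRight i 9) 1) 0)
noncomputable def FPL_s9_100 (i : Nat) : Nat := Bool.rec (motive := fun _ => Nat) 0 FPL_p100 (Nat.beq (Nat.land (Nat.shiftRight i 9) 1) 0)
noncomputable def FPL_s9_101 (i : Nat) : Nat := Bool.rec (motive := fun _ => Nat) 0 FPL_p101 (Nat.beq (Nat.land (Nat.shiftRight i 9) 1) 0)
noncomputable def FPL_s9_102 (i : Nat) : Nat := Bool.rec (motive := fun _ => Nat) 0 FPL_p102 (Nat.beq (Nat.land (Nat.shiftRight i 9) 1) 0)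
noncomputable def FPL_s9_103 (i : Nat) : Nat := Bool.rec (motive := fun _ => Nat) 0 FPL_p103 (Nat.beq (Nat.land (Nat.shiftRight i 9) 1) 0)
noncomputable def FPL_s9_104 (i : Nat) : Nat := Bool.rec (motive := fun _ => Nat) 0 FPL_p104 (Nat.beq (Nat.land (Nat.shiftRight i 9) 1) 0)
noncomputable def FPL_s9_105 (i : Nat) : Nat := Bool.rec (motive := fun _ => Nat) 0 FPL_p105 (Nat.beq (Nat.land (Nat.shiftRight i 9) 1) 0)
noncomputable def FPL_s9_106 (i : Nat) : Nat := Bool.rec (motive := fun _ => Nat) 0 FPL_p106 (Nat.beq (Nat.land (Nat.shiftRight i 9) 1) 0)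
noncomputable def FPL_s9_107 (i : Nat) : Nat := Bool.rec (motive := fun _ => Nat) 0 FPL_p107 (Nat.beq (Nat.land (Nat.shiftRight i 9) 1) 0)
noncomputable def FPL_s9_108 (i : Nat) : Nat := Bool.rec (motive := fun _ => Nat) 0 FPL_p108 (Nat.beq (Nat.land (Nat.shiftRight i 9) 1) 0)
noncomputable def FPL_s9_109 (i : Nat) : Nat := Bool.rec (motive := fun _ => Nat) 0 FPL_p109 (Nat.beq (Nat.land (Nat.shiftRight i 9) 1) 0)
noncomputable def FPL_s9_110 (i : Nat) : Nat := Bool.rec (motive := fun _ => Nat) 0 FPL_p110 (Nat.beq (Nat.land (Nat.shiftRight i 9) 1) 0)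
noncomputable def FPL_s9_111 (i : Nat) : Nat := Bool.rec (motive := fun _ => Nat) 0 FPL_p111 (Nat.beq (Nat.land (Nat.shiftRight i 9) 1) 0)
noncomputable def FPL_s9_112 (i : Nat) : Nat := Bool.rec (motive := fun _ => Nat) 0 FPL_p112 (Nat.beq (Nat.land (Nat.shiftRight i 9) 1) 0)
noncomputable def FPL_s9_113 (i : Nat) : Nat := Bool.rec (motive := fun _ => Nat) 0 FPL_p113 (Nat.beq (Nat.land (Nat.shiftRight i 9) 1) 0)
noncomputable def FPL_s9_114 (i : Nat) : Nat := Bool.rec (motive := fun _ => Nat) 0 FPL_p114 (Nat.beq (Nat.land (Nat.shiftRight i 9) 1) 0)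
noncomputable def FPL_s9_115 (i : Nat) : Nat := Bool.rec (motive := fun _ => Nat) 0 FPL_p115 (Nat.beq (Nat.land (Nat.shiftRight i 9) 1) 0)
noncomputable def FPL_s9_116 (i : Nat) : Nat := Bool.rec (motive := fun _ => Nat) 0 FPL_p116 (Nat.beq (Nat.land (Nat.shiftRight i 9) 1) 0)
noncomputable def FPL_s9_117 (i : Nat) : Nat := Bool.rec (motive := fun _ => Nat) 0 FPL_p117 (Nat.beq (Nat.land (Nat.shiftRight i 9) 1) 0)
noncomputable def FPL_s9_118 (i : Nat) : Nat := Bool.rec (motive := fun _ => Nat) 0 FPL_p118 (Nat.beq (Nat.land (Nat.shiftRight i 9) 1) 0)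
noncomputable def FPL_s9_119 (i : Nat) : Nat := Bool.rec (motive := fun _ => Nat) 0 FPL_p119 (Nat.beq (Nat.land (Nat.shiftRight i 9) 1) 0)
noncomputable def FPL_s9_120 (i : Nat) : Nat := Bool.rec (motive := fun _ => Nat) 0 FPL_p120 (Nat.beq (Nat.land (Nat.shiftRight i 9) 1) 0)
noncomputable def FPL_s9_121 (i : Nat) : Nat := Bool.rec (motive := fun _ => Nat) 0 FPL_p121 (Nat.beq (Nat.land (Nat.shiftRight i 9) 1) 0)
noncomputable def FPL_s9_122 (i : Nat) : Nat := Bool.rec (motive := fun _ => Nat) 0 FPL_p122 (Nat.beq (Nat.land (Nat.shiftRight i 9) 1) 0)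
noncomputable def FPL_s9_123 (i : Nat) : Nat := Bool.rec (motive := fun _ => Nat) 0 FPL_p123 (Nat.beq (Nat.land (Nat.shiftRight i 9) 1) 0)
noncomputable def FPL_s9_124 (i : Nat) : Nat := Bool.rec (motive := fun _ => Nat) 0 FPL_p124 (Nat.beq (Nat.land (Nat.shiftRight i 9) 1) 0)
noncomputable def FPL_s9_125 (i : Nat) : Nat := Bool.rec (motive := fun _ => Nat) 0 FPL_p125 (Nat.beq (Nat.land (Nat.shiftRight i 9) 1) 0)
noncomputable def FPL_s9_126 (i : Nat) : Nat := Bool.rec (motive := fun _ => Nat) 0 FPL_p126 (Nat.beq (Nat.land (Nat.shiftRight i 9) 1) 0)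
noncomputable def FPL_s9_127 (i : Nat) : Nat := Bool.rec (motive := fun _ => Nat) 0 FPL_p127 (Nat.beq (Nat.land (Nat.shiftRight i 9) 1) 0)
noncomputable def FPL_s9_128 (i : Nat) : Nat := Bool.rec (motive := fun _ => Nat) 0 FPL_p128 (Nat.beq (Nat.land (Nat.shiftRight i 9) 1) 0)
noncomputable def FPL_s9_129 (i : Nat) : Nat := Bool.rec (motive := fun _ => Nat) 0 FPL_p129 (Nat.beq (Nat.land (Nat.shiftRight i 9) 1) 0)
noncomputable def FPL_s9_130 (i : Nat) : Nat := Bool.rec (motive := fun _ => Nat) 0 FPL_p130 (Nat.beq (Nat.land (Nat.shiftRight i 9) 1) 0)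
noncomputable def FPL_s9_131 (i : Nat) : Nat := Bool.rec (motive := fun _ => Nat) 0 FPL_p131 (Nat.beq (Nat.land (Nat.shiftRight i 9) 1) 0)
noncomputable def FPL_s9_132 (i : Nat) : Nat := Bool.rec (motive := fun _ => Nat) 0 FPL_p132 (Nat.beq (Nat.land (Nat.shiftRight i 9) 1) 0)
noncomputable def FPL_s9_133 (i : Nat) : Nat := Bool.rec (motive := fun _ => Nat) 0 FPL_p133 (Nat.beq (Nat.land (Nat.shiftRight i 9) 1) 0)
noncomputable def FPL_s9_134 (i : Nat) : Nat := Bool.rec (motive := fun _ => Nat) 0 FPL_p134 (Nat.beq (Nat.land (Nat.shiftRight i 9) 1) 0)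
noncomputable def FPL_s9_135 (i : Nat) : Nat := Bool.rec (motive := fun _ => Nat) 0 FPL_p135 (Nat.beq (Nat.land (Nat.shiftRight i 9) 1) 0)
noncomputable def FPL_s9_136 (i : Nat) : Nat := Bool.rec (motive := fun _ => Nat) 0 FPL_p136 (Nat.beq (Nat.land (Nat.shiftRight i 9) 1) 0)
noncomputable def FPL_s9_137 (i : Nat) : Nat := Bool.rec (motive := fun _ => Nat) 0 FPL_p137 (Nat.beq (Nat.land (Nat.shiftRight i 9) 1) 0)
noncomputable def FPL_s9_138 (i : Nat) : Nat := Bool.rec (motive := fun _ => Nat) 0 FPL_p138 (Nat.beq (Nat.land (Nat.shiftRight i 9) 1) 0)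
noncomputable def FPL_s9_139 (i : Nat) : Nat := Bool.rec (motive := fun _ => Nat) 0 FPL_p139 (Nat.beq (Nat.land (Nat.shiftRight i 9) 1) 0)
noncomputable def FPL_s9_140 (i : Nat) : Nat := Bool.rec (motive := fun _ => Nat) 0 FPL_p140 (Nat.beq (Nat.land (Nat.shiftRight i 9) 1) 0)
noncomputable def FPL_s9_141 (i : Nat) : Nat := Bool.rec (motive := fun _ => Nat) 0 FPL_p141 (Nat.beq (Nat.land (Nat.shiftRight i 9) 1) 0)
noncomputable def FPL_s9_142 (i : Nat) : Nat := Bool.rec (motive := fun _ => Nat) 0 FPL_p142 (Nat.beq (Nat.land (Nat.shiftRight i 9) 1) 0)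
noncomputable def FPL_s9_143 (i : Nat) : Nat := Bool.rec (motive := fun _ => Nat) 0 FPL_p143 (Nat.beq (Nat.land (Nat.shiftRight i 9) 1) 0)
noncomputable def FPL_s9_144 (i : Nat) : Nat := Bool.rec (motive := fun _ => Nat) 0 FPL_p144 (Nat.beq (Nat.land (Nat.shiftRight i 9) 1) 0)
noncomputable def FPL_s9_145 (i : Nat) : Nat := Bool.rec (motive := fun _ => Nat) 0 FPL_p145 (Nat.beq (Nat.land (Nat.shiftRight i 9) 1) 0)
noncomputable def FPL_s9_146 (i : Nat) : Nat := Bool.rec (motive := fun _ => Nat) 0 FPL_p146 (Nat.beq (Nat.land (Nat.shiftRight i 9) 1) 0)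
noncomputable def FPL_s9_147 (i : Nat) : Nat := Bool.rec (motive := fun _ => Nat) 0 FPL_p147 (Nat.beq (Nat.land (Nat.shiftRight i 9) 1) 0)
noncomputable def FPL_s9_148 (i : Nat) : Nat := Bool.rec (motive := fun _ => Nat) 0 FPL_p148 (Nat.beq (Nat.land (Nat.shiftRight i 9) 1) 0)
noncomputable def FPL_s9_149 (i : Nat) : Nat := Bool.rec (motive := fun _ => Nat) 0 FPL_p149 (Nat.beq (Nat.land (Nat.shiftRight i 9) 1) 0)
noncomputable def FPL_s9_150 (i : Nat) : Nat := Bool.rec (motive := fun _ => Nat) 0 FPL_p150 (Nat.beq (Nat.land (Nat.shiftRight i 9) 1) 0)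
noncomputable def FPL_s9_151 (i : Nat) : Nat := Bool.rec (motive := fun _ => Nat) 0 FPL_p151 (Nat.beq (Nat.land (Nat.shiftRight i 9) 1) 0)
noncomputable def FPL_s9_152 (i : Nat) : Nat := Bool.rec (motive := fun _ => Nat) 0 FPL_p152 (Nat.beq (Nat.land (Nat.shiftRight i 9) 1) 0)
noncomputable def FPL_s9_153 (i : Nat) : Nat := Bool.rec (motive := fun _ => Nat) 0 FPL_p153 (Nat.beq (Nat.land (Nat.shiftRight i 9) 1) 0)
noncomputable def FPL_s9_154 (i : Nat) : Nat := Bool.rec (motive := fun _ => Nat) 0 FPL_p154 (Nat.beq (Nat.land (Nat.shiftRight i 9) 1) 0)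
noncomputable def FPL_s9_155 (i : Nat) : Nat := Bool.rec (motive := fun _ => Nat) 0 FPL_p155 (Nat.beq (Nat.land (Nat.shiftRight i 9) 1) 0)
noncomputable def FPL_s9_156 (i : Nat) : Nat := Bool.rec (motive := fun _ => Nat) 0 FPL_p156 (Nat.beq (Nat.land (Nat.shiftRight i 9) 1) 0)
noncomputable def FPL_s9_157 (i : Nat) : Nat := Bool.rec (motive := fun _ => Nat) 0 FPL_p157 (Nat.beq (Nat.land (Nat.shiftRight i 9) 1) 0)
noncomputable def FPL_s9_158 (i : Nat) : Nat := Bool.rec (motive := fun _ => Nat) 0 FPL_p158 (Nat.beq (Nat.land (Nat.shiftRight i 9) 1) 0)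
noncomputable def FPL_s9_159 (i : Nat) : Nat := Bool.rec (motive := fun _ => Nat) 0 FPL_p159 (Nat.beq (Nat.land (Nat.shiftRight i 9) 1) 0)
noncomputable def FPL_s9_160 (i : Nat) : Nat := Bool.rec (motive := fun _ => Nat) 0 FPL_p160 (Nat.beq (Nat.land (Nat.shiftRight i 9) 1) 0)
noncomputable def FPL_s9_161 (i : Nat) : Nat := Bool.rec (motive := fun _ => Nat) 0 FPL_p161 (Nat.beq (Nat.land (Nat.shiftRight i 9) 1) 0)
noncomputable def FPL_s9_162 (i : Nat) : Nat := Bool.rec (motive := fun _ => Nat) 0 FPL_p162 (Nat.beq (Nat.land (Nat.shiftRight i 9) 1) 0)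
noncomputable def FPL_s9_163 (i : Nat) : Nat := Bool.rec (motive := fun _ => Nat) 0 FPL_p163 (Nat.beq (Nat.land (Nat.shiftRight i 9) 1) 0)
noncomputable def FPL_s9_164 (i : Nat) : Nat := Bool.rec (motive := fun _ => Nat) 0 FPL_p164 (Nat.beq (Nat.land (Nat.shiftRight i 9) 1) 0)
noncomputable def FPL_s9_165 (i : Nat) : Nat := Bool.rec (motive := fun _ => Nat) 0 FPL_p165 (Nat.beq (Nat.land (Nat.shiftRight i 9) 1) 0)
noncomputable def FPL_s9_166 (i : Nat) : Nat := Bool.rec (motive := fun _ => Nat) 0 FPL_p166 (Nat.beq (Nat.land (Nat.shiftRight i 9) 1) 0)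
noncomputable def FPL_s9_167 (i : Nat) : Nat := Bool.rec (motive := fun _ => Nat) 0 FPL_p167 (Nat.beq (Nat.land (Nat.shiftRight i 9) 1) 0)
noncomputable def FPL_s9_168 (i : Nat) : Nat := Bool.rec (motive := fun _ => Nat) 0 FPL_p168 (Nat.beq (Nat.land (Nat.shiftRight i 9) 1) 0)
noncomputable def FPL_s9_169 (i : Nat) : Nat := Bool.rec (motive := fun _ => Nat) 0 FPL_p169 (Nat.beq (Nat.land (Nat.shiftRight i 9) 1) 0)
noncomputable def FPL_s9_170 (i : Nat) : Nat := Bool.rec (motive := fun _ => Nat) 0 FPL_p170 (Nat.beq (Nat.land (Nat.shiftRight i 9) 1) 0)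
noncomputable def FPL_s9_171 (i : Nat) : Nat := Bool.rec (motive := fun _ => Nat) 0 FPL_p171 (Nat.beq (Nat.land (Nat.shiftRight i 9) 1) 0)
noncomputable def FPL_s9_172 (i : Nat) : Nat := Bool.rec (motive := fun _ => Nat) 0 FPL_p172 (Nat.beq (Nat.land (Nat.shiftRight i 9) 1) 0)
noncomputable def FPL_s9_173 (i : Nat) : Nat := Bool.rec (motive := fun _ => Nat) 0 FPL_p173 (Nat.beq (Nat.land (Nat.shiftRight i 9) 1) 0)
noncomputable def FPL_s9_174 (i : Nat) : Nat := Bool.rec (motive := fun _ => Nat) 0 FPL_p174 (Nat.beq (Nat.land (Nat.shiftRight i 9) 1) 0)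
noncomputable def FPL_s9_175 (i : Nat) : Nat := Bool.rec (motive := fun _ => Nat) 0 FPL_p175 (Nat.beq (Nat.land (Nat.shiftRight i 9) 1) 0)
noncomputable def FPL_s9_176 (i : Nat) : Nat := Bool.rec (motive := fun _ => Nat) 0 FPL_p176 (Nat.beq (Nat.land (Nat.shiftRight i 9) 1) 0)
noncomputable def FPL_s9_177 (i : Nat) : Nat := Bool.rec (motive := fun _ => Nat) 0 FPL_p177 (Nat.beq (Nat.land (Nat.shiftRight i 9) 1) 0)
noncomputable def FPL_s9_178 (i : Nat) : Nat := Bool.rec (motive := fun _ => Nat) 0 FPL_p178 (Nat.beq (Nat.land (Nat.shiftRight i 9) 1) 0)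
noncomputable def FPL_s9_179 (i : Nat) : Nat := Bool.rec (motive := fun _ => Nat) 0 FPL_p179 (Nat.beq (Nat.land (Nat.shiftRight i 9) 1) 0)
noncomputable def FPL_s9_180 (i : Nat) : Nat := Bool.rec (motive := fun _ => Nat) 0 FPL_p180 (Nat.beq (Nat.land (Nat.shiftRight i 9) 1) 0)
noncomputable def FPL_s9_181 (i : Nat) : Nat := Bool.rec (motive := fun _ => Nat) 0 FPL_p181 (Nat.beq (Nat.land (Nat.shiftRight i 9) 1) 0)
noncomputable def FPL_s9_182 (i : Nat) : Nat := Bool.rec (motive := fun _ => Nat) 0 FPL_p182 (Nat.beq (Nat.land (Nat.shiftRight i 9) 1) 0)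
noncomputable def FPL_s9_183 (i : Nat) : Nat := Bool.rec (motive := fun _ => Nat) 0 FPL_p183 (Nat.beq (Nat.land (Nat.shiftRight i 9) 1) 0)
noncomputable def FPL_s9_184 (i : Nat) : Nat := Bool.rec (motive := fun _ => Nat) 0 FPL_p184 (Nat.beq (Nat.land (Nat.shiftRight i 9) 1) 0)
noncomputable def FPL_s9_185 (i : Nat) : Nat := Bool.rec (motive := fun _ => Nat) 0 FPL_p185 (Nat.beq (Nat.land (Nat.shiftRight i 9) 1) 0)
noncomputable def FPL_s9_186 (i : Nat) : Nat := Bool.rec (motive := fun _ => Nat) 0 FPL_p186 (Nat.beq (Nat.land (Nat.shiftRight i 9) 1) 0)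
noncomputable def FPL_s9_187 (i : Nat) : Nat := Bool.rec (motive := fun _ => Nat) 0 FPL_p187 (Nat.beq (Nat.land (Nat.shiftRight i 9) 1) 0)
noncomputable def FPL_s9_188 (i : Nat) : Nat := Bool.rec (motive := fun _ => Nat) 0 FPL_p188 (Nat.beq (Nat.land (Nat.shiftRight i 9) 1) 0)
noncomputable def FPL_s9_189 (i : Nat) : Nat := Bool.rec (motive := fun _ => Nat) 0 FPL_p189 (Nat.beq (Nat.land (Nat.shiftRight i 9) 1) 0)
noncomputable def FPL_s9_190 (i : Nat) : Nat := Bool.rec (motive := fun _ => Nat) 0 FPL_p190 (Nat.beq (Nat.land (Nat.shiftRight i 9) 1) 0)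
noncomputable def FPL_s9_191 (i : Nat) : Nat := Bool.rec (motive := fun _ => Nat) 0 FPL_p191 (Nat.beq (Nat.land (Nat.shiftRight i 9) 1) 0)
noncomputable def FPL_s9_192 (i : Nat) : Nat := Bool.rec (motive := fun _ => Nat) 0 FPL_p192 (Nat.beq (Nat.land (Nat.shiftRight i 9) 1) 0)
noncomputable def FPL_s9_193 (i : Nat) : Nat := Bool.rec (motive := fun _ => Nat) 0 FPL_p193 (Nat.beq (Nat.land (Nat.shiftRight i 9) 1) 0)
noncomputable def FPL_s9_194 (i : Nat) : Nat := Bool.rec (motive := fun _ => Nat) 0 FPL_p194 (Nat.beq (Nat.land (Nat.shiftRight i 9) 1) 0)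
noncomputable def FPL_s9_195 (i : Nat) : Nat := Bool.rec (motive := fun _ => Nat) 0 FPL_p195 (Nat.beq (Nat.land (Nat.shiftRight i 9) 1) 0)
noncomputable def FPL_s9_196 (i : Nat) : Nat := Bool.rec (motive := fun _ => Nat) 0 FPL_p196 (Nat.beq (Nat.land (Nat.shiftRight i 9) 1) 0)
noncomputable def FPL_s9_197 (i : Nat) : Nat := Bool.rec (motive := fun _ => Nat) 0 FPL_p197 (Nat.beq (Nat.land (Nat.shiftRight i 9) 1) 0)
noncomputable def FPL_s9_198 (i : Nat) : Nat := Bool.rec (motive := fun _ => Nat) 0 FPL_p198 (Nat.beq (Nat.land (Nat.shiftRight i 9) 1) 0)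
noncomputable def FPL_s9_199 (i : Nat) : Nat := Bool.rec (motive := fun _ => Nat) 0 FPL_p199 (Nat.beq (Nat.land (Nat.shiftRight i 9) 1) 0)
noncomputable def FPL_s9_200 (i : Nat) : Nat := Bool.rec (motive := fun _ => Nat) 0 FPL_p200 (Nat.beq (Nat.land (Nat.shiftRight i 9) 1) 0)
noncomputable def FPL_s9_201 (i : Nat) : Nat := Bool.rec (motive := fun _ => Nat) 0 FPL_p201 (Nat.beq (Nat.land (Nat.shiftRight i 9) 1) 0)
noncomputable def FPL_s9_202 (i : Nat) : Nat := Bool.rec (motive := fun _ => Nat) 0 FPL_p202 (Nat.beq (Nat.land (Nat.shiftRight i 9) 1) 0)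
noncomputable def FPL_s9_203 (i : Nat) : Nat := Bool.rec (motive := fun _ => Nat) 0 FPL_p203 (Nat.beq (Nat.land (Nat.shiftRight i 9) 1) 0)
noncomputable def FPL_s9_204 (i : Nat) : Nat := Bool.rec (motive := fun _ => Nat) 0 FPL_p204 (Nat.beq (Nat.land (Nat.shiftRight i 9) 1) 0)
noncomputable def FPL_s9_205 (i : Nat) : Nat := Bool.rec (motive := fun _ => Nat) 0 FPL_p205 (Nat.beq (Nat.land (Nat.shiftRight i 9) 1) 0)
noncomputable def FPL_s9_206 (i : Nat) : Nat := Bool.rec (motive := fun _ => Nat) 0 FPL_p206 (Nat.beq (Nat.land (Nat.shiftRight i 9) 1) 0)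
noncomputable def FPL_s9_207 (i : Nat) : Nat := Bool.rec (motive := fun _ => Nat) 0 FPL_p207 (Nat.beq (Nat.land (Nat.shiftRight i 9) 1) 0)
noncomputable def FPL_s9_208 (i : Nat) : Nat := Bool.rec (motive := fun _ => Nat) 0 FPL_p208 (Nat.beq (Nat.land (Nat.shiftRight i 9) 1) 0)
noncomputable def FPL_s9_209 (i : Nat) : Nat := Bool.rec (motive := fun _ => Nat) 0 FPL_p209 (Nat.beq (Nat.land (Nat.shiftRight i 9) 1) 0)
noncomputable def FPL_s9_210 (i : Nat) : Nat := Bool.rec (motive := fun _ => Nat) 0 FPL_p210 (Nat.beq (Nat.land (Nat.shiftRight i 9) 1) 0)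
noncomputable def FPL_s9_211 (i : Nat) : Nat := Bool.rec (motive := fun _ => Nat) 0 FPL_p211 (Nat.beq (Nat.land (Nat.shiftRight i 9) 1) 0)
noncomputable def FPL_s9_212 (i : Nat) : Nat := Bool.rec (motive := fun _ => Nat) 0 FPL_p212 (Nat.beq (Nat.land (Nat.shiftRight i 9) 1) 0)
noncomputable def FPL_s9_213 (i : Nat) : Nat := Bool.rec (motive := fun _ => Nat) 0 FPL_p213 (Nat.beq (Nat.land (Nat.shiftRight i 9) 1) 0)
noncomputable def FPL_s9_214 (i : Nat) : Nat := Bool.rec (motive := fun _ => Nat) 0 FPL_p214 (Nat.beq (Nat.land (Nat.shiftRight i 9) 1) 0)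
noncomputable def FPL_s9_215 (i : Nat) : Nat := Bool.rec (motive := fun _ => Nat) 0 FPL_p215 (Nat.beq (Nat.land (Nat.shiftRight i 9) 1) 0)
noncomputable def FPL_s9_216 (i : Nat) : Nat := Bool.rec (motive := fun _ => Nat) 0 FPL_p216 (Nat.beq (Nat.land (Nat.shiftRight i 9) 1) 0)
noncomputable def FPL_s9_217 (i : Nat) : Nat := Bool.rec (motive := fun _ => Nat) 0 FPL_p217 (Nat.beq (Nat.land (Nat.shiftRight i 9) 1) 0)
noncomputable def FPL_s9_218 (i : Nat) : Nat := Bool.rec (motive := fun _ => Nat) 0 FPL_p218 (Nat.beq (Nat.land (Nat.shiftRight i 9) 1) 0)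
noncomputable def FPL_s9_219 (i : Nat) : Nat := Bool.rec (motive := fun _ => Nat) 0 FPL_p219 (Nat.beq (Nat.land (Nat.shiftRight i 9) 1) 0)
noncomputable def FPL_s9_220 (i : Nat) : Nat := Bool.rec (motive := fun _ => Nat) 0 FPL_p220 (Nat.beq (Nat.land (Nat.shiftRight i 9) 1) 0)
noncomputable def FPL_s9_221 (i : Nat) : Nat := Bool.rec (motive := fun _ => Nat) 0 FPL_p221 (Nat.beq (Nat.land (Nat.shiftRight i 9) 1) 0)
noncomputable def FPL_s9_222 (i : Nat) : Nat := Bool.rec (motive := fun _ => Nat) 0 FPL_p222 (Nat.beq (Nat.land (Nat.shiftRight i 9) 1) 0)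
noncomputable def FPL_s9_223 (i : Nat) : Nat := Bool.rec (motive := fun _ => Nat) 0 FPL_p223 (Nat.beq (Nat.land (Nat.shiftRight i 9) 1) 0)
noncomputable def FPL_s9_224 (i : Nat) : Nat := Bool.rec (motive := fun _ => Nat) 0 FPL_p224 (Nat.beq (Nat.land (Nat.shiftRight i 9) 1) 0)
noncomputable def FPL_s9_225 (i : Nat) : Nat := Bool.rec (motive := fun _ => Nat) 0 FPL_p225 (Nat.beq (Nat.land (Nat.shiftRight i 9) 1) 0)
noncomputable def FPL_s9_226 (i : Nat) : Nat := Bool.rec (motive := fun _ => Nat) 0 FPL_p226 (Nat.beq (Nat.land (Nat.shiftRight i 9) 1) 0)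
noncomputable def FPL_s9_227 (i : Nat) : Nat := Bool.rec (motive := fun _ => Nat) 0 FPL_p227 (Nat.beq (Nat.land (Nat.shiftRight i 9) 1) 0)
noncomputable def FPL_s9_228 (i : Nat) : Nat := Bool.rec (motive := fun _ => Nat) 0 FPL_p228 (Nat.beq (Nat.land (Nat.shiftRight i 9) 1) 0)
noncomputable def FPL_s9_229 (i : Nat) : Nat := Bool.rec (motive := fun _ => Nat) 0 FPL_p229 (Nat.beq (Nat.land (Nat.shiftRight i 9) 1) 0)
noncomputable def FPL_s9_230 (i : Nat) : Nat := Bool.rec (motive := fun _ => Nat) 0 FPL_p230 (Nat.beq (Nat.land (Nat.shiftRight i 9) 1) 0)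
noncomputable def FPL_s9_231 (i : Nat) : Nat := Bool.rec (motive := fun _ => Nat) 0 FPL_p231 (Nat.beq (Nat.land (Nat.shiftRight i 9) 1) 0)
noncomputable def FPL_s9_232 (i : Nat) : Nat := Bool.rec (motive := fun _ => Nat) 0 FPL_p232 (Nat.beq (Nat.land (Nat.shiftRight i 9) 1) 0)
noncomputable def FPL_s9_233 (i : Nat) : Nat := Bool.rec (motive := fun _ => Nat) 0 FPL_p233 (Nat.beq (Nat.land (Nat.shiftRight i 9) 1) 0)
noncomputable def FPL_s9_234 (i : Nat) : Nat := Bool.rec (motive := fun _ => Nat) 0 FPL_p234 (Nat.beq (Nat.land (Nat.shiftRight i 9) 1) 0)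
noncomputable def FPL_s9_235 (i : Nat) : Nat := Bool.rec (motive := fun _ => Nat) 0 FPL_p235 (Nat.beq (Nat.land (Nat.shiftRight i 9) 1) 0)
noncomputable def FPL_s9_236 (i : Nat) : Nat := Bool.rec (motive := fun _ => Nat) 0 FPL_p236 (Nat.beq (Nat.land (Nat.shiftRight i 9) 1) 0)
noncomputable def FPL_s9_237 (i : Nat) : Nat := Bool.rec (motive := fun _ => Nat) 0 FPL_p237 (Nat.beq (Nat.land (Nat.shiftRight i 9) 1) 0)
noncomputable def FPL_s9_238 (i : Nat) : Nat := Bool.rec (motive := fun _ => Nat) 0 FPL_p238 (Nat.beq (Nat.land (Nat.shiftRight i 9) 1) 0)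
noncomputable def FPL_s9_239 (i : Nat) : Nat := Bool.rec (motive := fun _ => Nat) 0 FPL_p239 (Nat.beq (Nat.land (Nat.shiftRight i 9) 1) 0)
noncomputable def FPL_s9_240 (i : Nat) : Nat := Bool.rec (motive := fun _ => Nat) 0 FPL_p240 (Nat.beq (Nat.land (Nat.shiftRight i 9) 1) 0)
noncomputable def FPL_s9_241 (i : Nat) : Nat := Bool.rec (motive := fun _ => Nat) 0 FPL_p241 (Nat.beq (Nat.land (Nat.shiftRight i 9) 1) 0)
noncomputable def FPL_s9_242 (i : Nat) : Nat := Bool.rec (motive := fun _ => Nat) 0 FPL_p242 (Nat.beq (Nat.land (Nat.shiftRight i 9) 1) 0)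
noncomputable def FPL_s9_243 (i : Nat) : Nat := Bool.rec (motive := fun _ => Nat) 0 FPL_p243 (Nat.beq (Nat.land (Nat.shiftRight i 9) 1) 0)
noncomputable def FPL_s9_244 (i : Nat) : Nat := Bool.rec (motive := fun _ => Nat) 0 FPL_p244 (Nat.beq (Nat.land (Nat.shiftRight i 9) 1) 0)
noncomputable def FPL_s9_245 (i : Nat) : Nat := Bool.rec (motive := fun _ => Nat) 0 FPL_p245 (Nat.beq (Nat.land (Nat.shiftRight i 9) 1) 0)
noncomputable def FPL_s9_246 (i : Nat) : Nat := Bool.rec (motive := fun _ => Nat) 0 FPL_p246 (Nat.beq (Nat.land (Nat.shiftRight i 9) 1) 0)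
noncomputable def FPL_s9_247 (i : Nat) : Nat := Bool.rec (motive := fun _ => Nat) 0 FPL_p247 (Nat.beq (Nat.land (Nat.shiftRight i 9) 1) 0)
noncomputable def FPL_s9_248 (i : Nat) : Nat := Bool.rec (motive := fun _ => Nat) 0 FPL_p248 (Nat.beq (Nat.land (Nat.shiftRight i 9) 1) 0)
noncomputable def FPL_s9_249 (i : Nat) : Nat := Bool.rec (motive := fun _ => Nat) 0 FPL_p249 (Nat.beq (Nat.land (Nat.shiftRight i 9) 1) 0)
noncomputable def FPL_s9_250 (i : Nat) : Nat := Bool.rec (motive := fun _ => Nat) 0 FPL_p250 (Nat.beq (Nat.land (Nat.shiftRight i 9) 1) 0)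
noncomputable def FPL_s9_251 (i : Nat) : Nat := Bool.rec (motive := fun _ => Nat) 0 FPL_p251 (Nat.beq (Nat.land (Nat.shiftRight i 9) 1) 0)
noncomputable def FPL_s9_252 (i : Nat) : Nat := Bool.rec (motive := fun _ => Nat) 0 FPL_p252 (Nat.beq (Nat.land (Nat.shiftRight i 9) 1) 0)
noncomputable def FPL_s9_253 (i : Nat) : Nat := Bool.rec (motive := fun _ => Nat) 0 FPL_p253 (Nat.beq (Nat.land (Nat.shiftRight i 9) 1) 0)
noncomputable def FPL_s9_254 (i : Nat) : Nat := Bool.rec (motive := fun _ => Nat) 0 FPL_p254 (Nat.beq (Nat.land (Nat.shiftRight i 9) 1) 0)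
noncomputable def FPL_s9_255 (i : Nat) : Nat := Bool.rec (motive := fun _ => Nat) 0 FPL_p255 (Nat.beq (Nat.land (Nat.shiftRight i 9) 1) 0)
noncomputable def FPL_s9_256 (i : Nat) : Nat := Bool.rec (motive := fun _ => Nat) 0 FPL_p256 (Nat.beq (Nat.land (Nat.shiftRight i 9) 1) 0)
noncomputable def FPL_s9_257 (i : Nat) : Nat := Bool.rec (motive := fun _ => Nat) 0 FPL_p257 (Nat.beq (Nat.land (Nat.shiftRight i 9) 1) 0)
noncomputable def FPL_s9_258 (i : Nat) : Nat := Bool.rec (motive := fun _ => Nat) 0 FPL_p258 (Nat.beq (Nat.land (Nat.shiftRight i 9) 1) 0)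
noncomputable def FPL_s9_259 (i : Nat) : Nat := Bool.rec (motive := fun _ => Nat) 0 FPL_p259 (Nat.beq (Nat.land (Nat.shiftRight i 9) 1) 0)
noncomputable def FPL_s9_260 (i : Nat) : Nat := Bool.rec (motive := fun _ => Nat) 0 FPL_p260 (Nat.beq (Nat.land (Nat.shiftRight i 9) 1) 0)
noncomputable def FPL_s9_261 (i : Nat) : Nat := Bool.rec (motive := fun _ => Nat) 0 FPL_p261 (Nat.beq (Nat.land (Nat.shiftRight i 9) 1) 0)
noncomputable def FPL_s9_262 (i : Nat) : Nat := Bool.rec (motive := fun _ => Nat) 0 FPL_p262 (Nat.beq (Nat.land (Nat.shiftRight i 9) 1) 0)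
noncomputable def FPL_s9_263 (i : Nat) : Nat := Bool.rec (motive := fun _ => Nat) 0 FPL_p263 (Nat.beq (Nat.land (Nat.shiftRight i 9) 1) 0)
noncomputable def FPL_s9_264 (i : Nat) : Nat := Bool.rec (motive := fun _ => Nat) 0 FPL_p264 (Nat.beq (Nat.land (Nat.shiftRight i 9) 1) 0)
noncomputable def FPL_s9_265 (i : Nat) : Nat := Bool.rec (motive := fun _ => Nat) 0 FPL_p265 (Nat.beq (Nat.land (Nat.shiftRight i 9) 1) 0)
noncomputable def FPL_s9_266 (i : Nat) : Nat := Bool.rec (motive := fun _ => Nat) 0 FPL_p266 (Nat.beq (Nat.land (Nat.shiftRight i 9) 1) 0)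
noncomputable def FPL_s9_267 (i : Nat) : Nat := Bool.rec (motive := fun _ => Nat) 0 FPL_p267 (Nat.beq (Nat.land (Nat.shiftRight i 9) 1) 0)
noncomputable def FPL_s9_268 (i : Nat) : Nat := Bool.rec (motive := fun _ => Nat) 0 FPL_p268 (Nat.beq (Nat.land (Nat.shiftRight i 9) 1) 0)
noncomputable def FPL_s9_269 (i : Nat) : Nat := Bool.rec (motive := fun _ => Nat) 0 FPL_p269 (Nat.beq (Nat.land (Nat.shiftRight i 9) 1) 0)
noncomputable def FPL_s9_270 (i : Nat) : Nat := Bool.rec (motive := fun _ => Nat) 0 FPL_p270 (Nat.beq (Nat.land (Nat.shiftRight i 9) 1) 0)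
noncomputable def FPL_s9_271 (i : Nat) : Nat := Bool.rec (motive := fun _ => Nat) 0 FPL_p271 (Nat.beq (Nat.land (Nat.shiftRight i 9) 1) 0)
noncomputable def FPL_s9_272 (i : Nat) : Nat := Bool.rec (motive := fun _ => Nat) 0 FPL_p272 (Nat.beq (Nat.land (Nat.shiftRight i 9) 1) 0)
noncomputable def FPL_s9_273 (i : Nat) : Nat := Bool.rec (motive := fun _ => Nat) 0 FPL_p273 (Nat.beq (Nat.land (Nat.shiftRight i 9) 1) 0)
noncomputable def FPL_s9_274 (i : Nat) : Nat := Bool.rec (motive := fun _ => Nat) 0 FPL_p274 (Nat.beq (Nat.land (Nat.shiftRight i 9) 1) 0)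
noncomputable def FPL_s9_275 (i : Nat) : Nat := Bool.rec (motive := fun _ => Nat) 0 FPL_p275 (Nat.beq (Nat.land (Nat.shiftRight i 9) 1) 0)
noncomputable def FPL_s9_276 (i : Nat) : Nat := Bool.rec (motive := fun _ => Nat) 0 FPL_p276 (Nat.beq (Nat.land (Nat.shiftRight i 9) 1) 0)
noncomputable def FPL_s9_277 (i : Nat) : Nat := Bool.rec (motive := fun _ => Nat) 0 FPL_p277 (Nat.beq (Nat.land (Nat.shiftRight i 9) 1) 0)
noncomputable def FPL_s9_278 (i : Nat) : Nat := Bool.rec (motive := fun _ => Nat) 0 FPL_p278 (Nat.beq (Nat.land (Nat.shiftRight i 9) 1) 0)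
noncomputable def FPL_s9_279 (i : Nat) : Nat := Bool.rec (motive := fun _ => Nat) 0 FPL_p279 (Nat.beq (Nat.land (Nat.shiftRight i 9) 1) 0)
noncomputable def FPL_s9_280 (i : Nat) : Nat := Bool.rec (motive := fun _ => Nat) 0 FPL_p280 (Nat.beq (Nat.land (Nat.shiftRight i 9) 1) 0)
noncomputable def FPL_s9_281 (i : Nat) : Nat := Bool.rec (motive := fun _ => Nat) 0 FPL_p281 (Nat.beq (Nat.land (Nat.shiftRight i 9) 1) 0)
noncomputable def FPL_s9_282 (i : Nat) : Nat := Bool.rec (motive := fun _ => Nat) 0 FPL_p282 (Nat.beq (Nat.land (Nat.shiftRight i 9) 1) 0)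
noncomputable def FPL_s9_283 (i : Nat) : Nat := Bool.rec (motive := fun _ => Nat) 0 FPL_p283 (Nat.beq (Nat.land (Nat.shiftRight i 9) 1) 0)
noncomputable def FPL_s9_284 (i : Nat) : Nat := Bool.rec (motive := fun _ => Nat) 0 FPL_p284 (Nat.beq (Nat.land (Nat.shiftRight i 9) 1) 0)
noncomputable def FPL_s9_285 (i : Nat) : Nat := Bool.rec (motive := fun _ => Nat) 0 FPL_p285 (Nat.beq (Nat.land (Nat.shiftRight i 9) 1) 0)
noncomputable def FPL_s9_286 (i : Nat) : Nat := Bool.rec (motive := fun _ => Nat) 0 FPL_p286 (Nat.beq (Nat.land (Nat.shiftRight i 9) 1) 0)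
noncomputable def FPL_s9_287 (i : Nat) : Nat := Bool.rec (motive := fun _ => Nat) 0 FPL_p287 (Nat.beq (Nat.land (Nat.shiftRight i 9) 1) 0)
noncomputable def FPL_s9_288 (i : Nat) : Nat := Bool.rec (motive := fun _ => Nat) 0 FPL_p288 (Nat.beq (Nat.land (Nat.shiftRight i 9) 1) 0)
noncomputable def FPL_s9_289 (i : Nat) : Nat := Bool.rec (motive := fun _ => Nat) 0 FPL_p289 (Nat.beq (Nat.land (Nat.shiftRight i 9) 1) 0)
noncomputable def FPL_s9_290 (i : Nat) : Nat := Bool.rec (motive := fun _ => Nat) 0 FPL_p290 (Nat.beq (Nat.land (Nat.shiftRight i 9) 1) 0)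
noncomputable def FPL_s9_291 (i : Nat) : Nat := Bool.rec (motive := fun _ => Nat) 0 FPL_p291 (Nat.beq (Nat.land (Nat.shiftRight i 9) 1) 0)
noncomputable def FPL_s9_292 (i : Nat) : Nat := Bool.rec (motive := fun _ => Nat) 0 FPL_p292 (Nat.beq (Nat.land (Nat.shiftRight i 9) 1) 0)
noncomputable def FPL_s9_293 (i : Nat) : Nat := Bool.rec (motive := fun _ => Nat) 0 FPL_p293 (Nat.beq (Nat.land (Nat.shiftRight i 9) 1) 0)
noncomputable def FPL_s9_294 (i : Nat) : Nat := Bool.rec (motive := fun _ => Nat) 0 FPL_p294 (Nat.beq (Nat.land (Nat.shiftRight i 9) 1) 0)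
noncomputable def FPL_s9_295 (i : Nat) : Nat := Bool.rec (motive := fun _ => Nat) 0 FPL_p295 (Nat.beq (Nat.land (Nat.shiftRight i 9) 1) 0)
noncomputable def FPL_s9_296 (i : Nat) : Nat := Bool.rec (motive := fun _ => Nat) 0 FPL_p296 (Nat.beq (Nat.land (Nat.shiftRight i 9) 1) 0)
noncomputable def FPL_s9_297 (i : Nat) : Nat := Bool.rec (motive := fun _ => Nat) 0 FPL_p297 (Nat.beq (Nat.land (Nat.shiftRight i 9) 1) 0)
noncomputable def FPL_s9_298 (i : Nat) : Nat := Bool.rec (motive := fun _ => Nat) 0 FPL_p298 (Nat.beq (Nat.land (Nat.shiftRight i 9) 1) 0)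
noncomputable def FPL_s9_299 (i : Nat) : Nat := Bool.rec (motive := fun _ => Nat) 0 FPL_p299 (Nat.beq (Nat.land (Nat.shiftRight i 9) 1) 0)
noncomputable def FPL_s9_300 (i : Nat) : Nat := Bool.rec (motive := fun _ => Nat) 0 FPL_p300 (Nat.beq (Nat.land (Nat.shiftRight i 9) 1) 0)
noncomputable def FPL_s9_301 (i : Nat) : Nat := Bool.rec (motive := fun _ => Nat) 0 FPL_p301 (Nat.beq (Nat.land (Nat.shiftRight i 9) 1) 0)
noncomputable def FPL_s9_302 (i : Nat) : Nat := Bool.rec (motive := fun _ => Nat) 0 FPL_p302 (Nat.beq (Nat.land (Nat.shiftRight i 9) 1) 0)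
noncomputable def FPL_s9_303 (i : Nat) : Nat := Bool.rec (motive := fun _ => Nat) 0 FPL_p303 (Nat.beq (Nat.land (Nat.shiftRight i 9) 1) 0)
noncomputable def FPL_s9_304 (i : Nat) : Nat := Bool.rec (motive := fun _ => Nat) 0 FPL_p304 (Nat.beq (Nat.land (Nat.shiftRight i 9) 1) 0)
noncomputable def FPL_s9_305 (i : Nat) : Nat := Bool.rec (motive := fun _ => Nat) 0 FPL_p305 (Nat.beq (Nat.land (Nat.shiftRight i 9) 1) 0)
noncomputable def FPL_s9_306 (i : Nat) : Nat := Bool.rec (motive := fun _ => Nat) 0 FPL_p306 (Nat.beq (Nat.land (Nat.shiftRight i 9) 1) 0)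
noncomputable def FPL_s9_307 (i : Nat) : Nat := Bool.rec (motive := fun _ => Nat) 0 FPL_p307 (Nat.beq (Nat.land (Nat.shiftRight i 9) 1) 0)
noncomputable def FPL_s9_308 (i : Nat) : Nat := Bool.rec (motive := fun _ => Nat) 0 FPL_p308 (Nat.beq (Nat.land (Nat.shiftRight i 9) 1) 0)
noncomputable def FPL_s9_309 (i : Nat) : Nat := Bool.rec (motive := fun _ => Nat) 0 FPL_p309 (Nat.beq (Nat.land (Nat.shiftRight i 9) 1) 0)
noncomputable def FPL_s9_310 (i : Nat) : Nat := Bool.rec (motive := fun _ => Nat) 0 FPL_p310 (Nat.beq (Nat.land (Nat.shiftRight i 9) 1) 0)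
noncomputable def FPL_s9_311 (i : Nat) : Nat := Bool.rec (motive := fun _ => Nat) 0 FPL_p311 (Nat.beq (Nat.land (Nat.shiftRight i 9) 1) 0)
noncomputable def FPL_s9_312 (i : Nat) : Nat := Bool.rec (motive := fun _ => Nat) 0 FPL_p312 (Nat.beq (Nat.land (Nat.shiftRight i 9) 1) 0)
noncomputable def FPL_s9_313 (i : Nat) : Nat := Bool.rec (motive := fun _ => Nat) 0 FPL_p313 (Nat.beq (Nat.land (Nat.shiftRight i 9) 1) 0)
noncomputable def FPL_s9_314 (i : Nat) : Nat := Bool.rec (motive := fun _ => Nat) 0 FPL_p314 (Nat.beq (Nat.land (Nat.shiftRight i 9) 1) 0)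
noncomputable def FPL_s9_315 (i : Nat) : Nat := Bool.rec (motive := fun _ => Nat) 0 FPL_p315 (Nat.beq (Nat.land (Nat.shiftRight i 9) 1) 0)
noncomputable def FPL_s9_316 (i : Nat) : Nat := Bool.rec (motive := fun _ => Nat) 0 FPL_p316 (Nat.beq (Nat.land (Nat.shiftRight i 9) 1) 0)
noncomputable def FPL_s9_317 (i : Nat) : Nat := Bool.rec (motive := fun _ => Nat) 0 FPL_p317 (Nat.beq (Nat.land (Nat.shiftRight i 9) 1) 0)
noncomputable def FPL_s9_318 (i : Nat) : Nat := Bool.rec (motive := fun _ => Nat) 0 FPL_p318 (Nat.beq (Nat.land (Nat.shiftRight i 9) 1) 0)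
noncomputable def FPL_s9_319 (i : Nat) : Nat := Bool.rec (motive := fun _ => Nat) 0 FPL_p319 (Nat.beq (Nat.land (Nat.shiftRight i 9) 1) 0)
noncomputable def FPL_s9_320 (i : Nat) : Nat := Bool.rec (motive := fun _ => Nat) 0 FPL_p320 (Nat.beq (Nat.land (Nat.shiftRight i 9) 1) 0)
noncomputable def FPL_s9_321 (i : Nat) : Nat := Bool.rec (motive := fun _ => Nat) 0 FPL_p321 (Nat.beq (Nat.land (Nat.shiftRight i 9) 1) 0)
noncomputable def FPL_s9_322 (i : Nat) : Nat := Bool.rec (motive := fun _ => Nat) 0 FPL_p322 (Nat.beq (Nat.land (Nat.shiftRight i 9) 1) 0)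
noncomputable def FPL_s9_323 (i : Nat) : Nat := Bool.rec (motive := fun _ => Nat) 0 FPL_p323 (Nat.beq (Nat.land (Nat.shiftRight i 9) 1) 0)
noncomputable def FPL_s9_324 (i : Nat) : Nat := Bool.rec (motive := fun _ => Nat) 0 FPL_p324 (Nat.beq (Nat.land (Nat.shiftRight i 9) 1) 0)
noncomputable def FPL_s9_325 (i : Nat) : Nat := Bool.rec (motive := fun _ => Nat) 0 FPL_p325 (Nat.beq (Nat.land (Nat.shiftRight i 9) 1) 0)
noncomputable def FPL_s9_326 (i : Nat) : Nat := Bool.rec (motive := fun _ => Nat) 0 FPL_p326 (Nat.beq (Nat.land (Nat.shiftRight i 9) 1) 0)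
noncomputable def FPL_s9_327 (i : Nat) : Nat := Bool.rec (motive := fun _ => Nat) 0 FPL_p327 (Nat.beq (Nat.land (Nat.shiftRight i 9) 1) 0)
noncomputable def FPL_s9_328 (i : Nat) : Nat := Bool.rec (motive := fun _ => Nat) 0 FPL_p328 (Nat.beq (Nat.land (Nat.shiftRight i 9) 1) 0)
noncomputable def FPL_s9_329 (i : Nat) : Nat := Bool.rec (motive := fun _ => Nat) 0 FPL_p329 (Nat.beq (Nat.land (Nat.shiftRight i 9) 1) 0)
noncomputable def FPL_s9_330 (i : Nat) : Nat := Bool.rec (motive := fun _ => Nat) 0 FPL_p330 (Nat.beq (Nat.land (Nat.shiftRight i 9) 1) 0)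
noncomputable def FPL_s9_331 (i : Nat) : Nat := Bool.rec (motive := fun _ => Nat) 0 FPL_p331 (Nat.beq (Nat.land (Nat.shiftRight i 9) 1) 0)
noncomputable def FPL_s9_332 (i : Nat) : Nat := Bool.rec (motive := fun _ => Nat) 0 FPL_p332 (Nat.beq (Nat.land (Nat.shiftRight i 9) 1) 0)
noncomputable def FPL_s9_333 (i : Nat) : Nat := Bool.rec (motive := fun _ => Nat) 0 FPL_p333 (Nat.beq (Nat.land (Nat.shiftRight i 9) 1) 0)
noncomputable def FPL_s9_334 (i : Nat) : Nat := Bool.rec (motive := fun _ => Nat) 0 FPL_p334 (Nat.beq (Nat.land (Nat.shiftRight i 9) 1) 0)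
noncomputable def FPL_s9_335 (i : Nat) : Nat := Bool.rec (motive := fun _ => Nat) 0 FPL_p335 (Nat.beq (Nat.land (Nat.shiftRight i 9) 1) 0)
noncomputable def FPL_s9_336 (i : Nat) : Nat := Bool.rec (motive := fun _ => Nat) 0 FPL_p336 (Nat.beq (Nat.land (Nat.shiftRight i 9) 1) 0)
noncomputable def FPL_s9_337 (i : Nat) : Nat := Bool.rec (motive := fun _ => Nat) 0 FPL_p337 (Nat.beq (Nat.land (Nat.shiftRight i 9) 1) 0)
noncomputable def FPL_s9_338 (i : Nat) : Nat := Bool.rec (motive := fun _ => Nat) 0 FPL_p338 (Nat.beq (Nat.land (Nat.shiftRight i 9) 1) 0)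
noncomputable def FPL_s9_339 (i : Nat) : Nat := Bool.rec (motive := fun _ => Nat) 0 FPL_p339 (Nat.beq (Nat.land (Nat.shiftRight i 9) 1) 0)
noncomputable def FPL_s9_340 (i : Nat) : Nat := Bool.rec (motive := fun _ => Nat) 0 FPL_p340 (Nat.beq (Nat.land (Nat.shiftRight i 9) 1) 0)
noncomputable def FPL_s9_341 (i : Nat) : Nat := Bool.rec (motive := fun _ => Nat) 0 FPL_p341 (Nat.beq (Nat.land (Nat.shiftRight i 9) 1) 0)
noncomputable def FPL_s9_342 (i : Nat) : Nat := Bool.rec (motive := fun _ => Nat) 0 FPL_p342 (Nat.beq (Nat.land (Nat.shiftRight i 9) 1) 0)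
noncomputable def FPL_s9_343 (i : Nat) : Nat := Bool.rec (motive := fun _ => Nat) 0 FPL_p343 (Nat.beq (Nat.land (Nat.shiftRight i 9) 1) 0)
noncomputable def FPL_s9_344 (i : Nat) : Nat := Bool.rec (motive := fun _ => Nat) 0 FPL_p344 (Nat.beq (Nat.land (Nat.shiftRight i 9) 1) 0)
noncomputable def FPL_s9_345 (i : Nat) : Nat := Bool.rec (motive := fun _ => Nat) 0 FPL_p345 (Nat.beq (Nat.land (Nat.shiftRight i 9) 1) 0)
noncomputable def FPL_s9_346 (i : Nat) : Nat := Bool.rec (motive := fun _ => Nat) 0 FPL_p346 (Nat.beq (Nat.land (Nat.shiftRight i 9) 1) 0)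
noncomputable def FPL_s9_347 (i : Nat) : Nat := Bool.rec (motive := fun _ => Nat) 0 FPL_p347 (Nat.beq (Nat.land (Nat.shiftRight i 9) 1) 0)
noncomputable def FPL_s9_348 (i : Nat) : Nat := Bool.rec (motive := fun _ => Nat) 0 FPL_p348 (Nat.beq (Nat.land (Nat.shiftRight i 9) 1) 0)
noncomputable def FPL_s9_349 (i : Nat) : Nat := Bool.rec (motive := fun _ => Nat) 0 FPL_p349 (Nat.beq (Nat.land (Nat.shiftRight i 9) 1) 0)
noncomputable def FPL_s9_350 (i : Nat) : Nat := Bool.rec (motive := fun _ => Nat) 0 FPL_p350 (Nat.beq (Nat.land (Nat.shiftRight i 9) 1) 0)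
noncomputable def FPL_s9_351 (i : Nat) : Nat := Bool.rec (motive := fun _ => Nat) 0 FPL_p351 (Nat.beq (Nat.land (Nat.shiftRight i 9) 1) 0)
noncomputable def FPL_s9_352 (i : Nat) : Nat := Bool.rec (motive := fun _ => Nat) 0 FPL_p352 (Nat.beq (Nat.land (Nat.shiftRight i 9) 1) 0)
noncomputable def FPL_s9_353 (i : Nat) : Nat := Bool.rec (motive := fun _ => Nat) 0 FPL_p353 (Nat.beq (Nat.land (Nat.shiftRight i 9) 1) 0)
noncomputable def FPL_s9_354 (i : Nat) : Nat := Bool.rec (motive := fun _ => Nat) 0 FPL_p354 (Nat.beq (Nat.land (Nat.shiftRight i 9) 1) 0)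
noncomputable def FPL_s9_355 (i : Nat) : Nat := Bool.rec (motive := fun _ => Nat) 0 FPL_p355 (Nat.beq (Nat.land (Nat.shiftRight i 9) 1) 0)
noncomputable def FPL_s9_356 (i : Nat) : Nat := Bool.rec (motive := fun _ => Nat) 0 FPL_p356 (Nat.beq (Nat.land (Nat.shiftRight i 9) 1) 0)
noncomputable def FPL_s9_357 (i : Nat) : Nat := Bool.rec (motive := fun _ => Nat) 0 FPL_p357 (Nat.beq (Nat.land (Nat.shiftRight i 9) 1) 0)
noncomputable def FPL_s9_358 (i : Nat) : Nat := Bool.rec (motive := fun _ => Nat) 0 FPL_p358 (Nat.beq (Nat.land (Nat.shiftRight i 9) 1) 0)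
noncomputable def FPL_s9_359 (i : Nat) : Nat := Bool.rec (motive := fun _ => Nat) 0 FPL_p359 (Nat.beq (Nat.land (Nat.shiftRight i 9) 1) 0)
noncomputable def FPL_s9_360 (i : Nat) : Nat := Bool.rec (motive := fun _ => Nat) 0 FPL_p360 (Nat.beq (Nat.land (Nat.shiftRight i 9) 1) 0)
noncomputable def FPL_s9_361 (i : Nat) : Nat := Bool.rec (motive := fun _ => Nat) 0 FPL_p361 (Nat.beq (Nat.land (Nat.shiftRight i 9) 1) 0)
noncomputable def FPL_s9_362 (i : Nat) : Nat := Bool.rec (motive := fun _ => Nat) 0 FPL_p362 (Nat.beq (Nat.land (Nat.shiftRight i 9) 1) 0)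
noncomputable def FPL_s9_363 (i : Nat) : Nat := Bool.rec (motive := fun _ => Nat) 0 FPL_p363 (Nat.beq (Nat.land (Nat.shiftRight i 9) 1) 0)
noncomputable def FPL_s9_364 (i : Nat) : Nat := Bool.rec (motive := fun _ => Nat) 0 FPL_p364 (Nat.beq (Nat.land (Nat.shiftRight i 9) 1) 0)
noncomputable def FPL_s9_365 (i : Nat) : Nat := Bool.rec (motive := fun _ => Nat) 0 FPL_p365 (Nat.beq (Nat.land (Nat.shiftRight i 9) 1) 0)
noncomputable def FPL_s9_366 (i : Nat) : Nat := Bool.rec (motive := fun _ => Nat) 0 FPL_p366 (Nat.beq (Nat.land (Nat.shiftRight i 9) 1) 0)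
noncomputable def FPL_s9_367 (i : Nat) : Nat := Bool.rec (motive := fun _ => Nat) 0 FPL_p367 (Nat.beq (Nat.land (Nat.shiftRight i 9) 1) 0)
noncomputable def FPL_s9_368 (i : Nat) : Nat := Bool.rec (motive := fun _ => Nat) 0 FPL_p368 (Nat.beq (Nat.land (Nat.shiftRight i 9) 1) 0)
noncomputable def FPL_s9_369 (i : Nat) : Nat := Bool.rec (motive := fun _ => Nat) 0 FPL_p369 (Nat.beq (Nat.land (Nat.shiftRight i 9) 1) 0)
noncomputable def FPL_s9_370 (i : Nat) : Nat := Bool.rec (motive := fun _ => Nat) 0 FPL_p370 (Nat.beq (Nat.land (Nat.shiftRight i 9) 1) 0)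
noncomputable def FPL_s9_371 (i : Nat) : Nat := Bool.rec (motive := fun _ => Nat) 0 FPL_p371 (Nat.beq (Nat.land (Nat.shiftRight i 9) 1) 0)
noncomputable def FPL_s9_372 (i : Nat) : Nat := Bool.rec (motive := fun _ => Nat) 0 FPL_p372 (Nat.beq (Nat.land (Nat.shiftRight i 9) 1) 0)
noncomputable def FPL_s9_373 (i : Nat) : Nat := Bool.rec (motive := fun _ => Nat) 0 FPL_p373 (Nat.beq (Nat.land (Nat.shiftRight i 9) 1) 0)
noncomputable def FPL_s9_374 (i : Nat) : Nat := Bool.rec (motive := fun _ => Nat) 0 FPL_p374 (Nat.beq (Nat.land (Nat.shiftRight i 9) 1) 0)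
noncomputable def FPL_s9_375 (i : Nat) : Nat := Bool.rec (motive := fun _ => Nat) 0 FPL_p375 (Nat.beq (Nat.land (Nat.shiftRight i 9) 1) 0)
noncomputable def FPL_s9_376 (i : Nat) : Nat := Bool.rec (motive := fun _ => Nat) 0 FPL_p376 (Nat.beq (Nat.land (Nat.shiftRight i 9) 1) 0)
noncomputable def FPL_s9_377 (i : Nat) : Nat := Bool.rec (motive := fun _ => Nat) 0 FPL_p377 (Nat.beq (Nat.land (Nat.shiftRight i 9) 1) 0)
noncomputable def FPL_s9_378 (i : Nat) : Nat := Bool.rec (motive := fun _ => Nat) 0 FPL_p378 (Nat.beq (Nat.land (Nat.shiftRight i 9) 1) 0)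
noncomputable def FPL_s9_379 (i : Nat) : Nat := Bool.rec (motive := fun _ => Nat) 0 FPL_p379 (Nat.beq (Nat.land (Nat.shiftRight i 9) 1) 0)
noncomputable def FPL_s9_380 (i : Nat) : Nat := Bool.rec (motive := fun _ => Nat) 0 FPL_p380 (Nat.beq (Nat.land (Nat.shiftRight i 9) 1) 0)
noncomputable def FPL_s9_381 (i : Nat) : Nat := Bool.rec (motive := fun _ => Nat) 0 FPL_p381 (Nat.beq (Nat.land (Nat.shiftRight i 9) 1) 0)
noncomputable def FPL_s9_382 (i : Nat) : Nat := Bool.rec (motive := fun _ => Nat) 0 FPL_p382 (Nat.beq (Nat.land (Nat.shiftRight i 9) 1) 0)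
noncomputable def FPL_s9_383 (i : Nat) : Nat := Bool.rec (motive := fun _ => Nat) 0 FPL_p383 (Nat.beq (Nat.land (Nat.shiftRight i 9) 1) 0)
noncomputable def FPL_s9_384 (i : Nat) : Nat := Bool.rec (motive := fun _ => Nat) 0 FPL_p384 (Nat.beq (Nat.land (Nat.shiftRight i 9) 1) 0)
noncomputable def FPL_s9_385 (i : Nat) : Nat := Bool.rec (motive := fun _ => Nat) 0 FPL_p385 (Nat.beq (Nat.land (Nat.shiftRight i 9) 1) 0)
noncomputable def FPL_s9_386 (i : Nat) : Nat := Bool.rec (motive := fun _ => Nat) 0 FPL_p386 (Nat.beq (Nat.land (Nat.shiftRight i 9) 1) 0)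
noncomputable def FPL_s9_387 (i : Nat) : Nat := Bool.rec (motive := fun _ => Nat) 0 FPL_p387 (Nat.beq (Nat.land (Nat.shiftRight i 9) 1) 0)
noncomputable def FPL_s9_388 (i : Nat) : Nat := Bool.rec (motive := fun _ => Nat) 0 FPL_p388 (Nat.beq (Nat.land (Nat.shiftRight i 9) 1) 0)
noncomputable def FPL_s9_389 (i : Nat) : Nat := Bool.rec (motive := fun _ => Nat) 0 FPL_p389 (Nat.beq (Nat.land (Nat.shiftRight i 9) 1) 0)
noncomputable def FPL_s9_390 (i : Nat) : Nat := Bool.rec (motive := fun _ => Nat) 0 FPL_p390 (Nat.beq (Nat.land (Nat.shiftRight i 9) 1) 0)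
noncomputable def FPL_s9_391 (i : Nat) : Nat := Bool.rec (motive := fun _ => Nat) 0 FPL_p391 (Nat.beq (Nat.land (Nat.shiftRight i 9) 1) 0)
noncomputable def FPL_s9_392 (i : Nat) : Nat := Bool.rec (motive := fun _ => Nat) 0 FPL_p392 (Nat.beq (Nat.land (Nat.shiftRight i 9) 1) 0)
noncomputable def FPL_s9_393 (i : Nat) : Nat := Bool.rec (motive := fun _ => Nat) 0 FPL_p393 (Nat.beq (Nat.land (Nat.shiftRight i 9) 1) 0)
noncomputable def FPL_s9_394 (i : Nat) : Nat := Bool.rec (motive := fun _ => Nat) 0 FPL_p394 (Nat.beq (Nat.land (Nat.shiftRight i 9) 1) 0)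
noncomputable def FPL_s9_395 (i : Nat) : Nat := Bool.rec (motive := fun _ => Nat) 0 FPL_p395 (Nat.beq (Nat.land (Nat.shiftRight i 9) 1) 0)
noncomputable def FPL_s9_396 (i : Nat) : Nat := Bool.rec (motive := fun _ => Nat) 0 FPL_p396 (Nat.beq (Nat.land (Nat.shiftRight i 9) 1) 0)
noncomputable def FPL_s9_397 (i : Nat) : Nat := Bool.rec (motive := fun _ => Nat) 0 FPL_p397 (Nat.beq (Nat.land (Nat.shiftRight i 9) 1) 0)
noncomputable def FPL_s9_398 (i : Nat) : Nat := Bool.rec (motive := fun _ => Nat) 0 FPL_p398 (Nat.beq (Nat.land (Nat.shiftRight i 9) 1) 0)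
noncomputable def FPL_s9_399 (i : Nat) : Nat := Bool.rec (motive := fun _ => Nat) 0 FPL_p399 (Nat.beq (Nat.land (Nat.shiftRight i 9) 1) 0)
noncomputable def FPL_s9_400 (i : Nat) : Nat := Bool.rec (motive := fun _ => Nat) 0 FPL_p400 (Nat.beq (Nat.land (Nat.shiftRight i 9) 1) 0)
noncomputable def FPL_s9_401 (i : Nat) : Nat := Bool.rec (motive := fun _ => Nat) 0 FPL_p401 (Nat.beq (Nat.land (Nat.shiftRight i 9) 1) 0)
noncomputable def FPL_s9_402 (i : Nat) : Nat := Bool.rec (motive := fun _ => Nat) 0 FPL_p402 (Nat.beq (Nat.land (Nat.shiftRight i 9) 1) 0)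
noncomputable def FPL_s9_403 (i : Nat) : Nat := Bool.rec (motive := fun _ => Nat) 0 FPL_p403 (Nat.beq (Nat.land (Nat.shiftRight i 9) 1) 0)
noncomputable def FPL_s9_404 (i : Nat) : Nat := Bool.rec (motive := fun _ => Nat) 0 FPL_p404 (Nat.beq (Nat.land (Nat.shiftRight i 9) 1) 0)
noncomputable def FPL_s9_405 (i : Nat) : Nat := Bool.rec (motive := fun _ => Nat) 0 FPL_p405 (Nat.beq (Nat.land (Nat.shiftRight i 9) 1) 0)
noncomputable def FPL_s9_406 (i : Nat) : Nat := Bool.rec (motive := fun _ => Nat) 0 FPL_p406 (Nat.beq (Nat.land (Nat.shiftRight i 9) 1) 0)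
noncomputable def FPL_s9_407 (i : Nat) : Nat := Bool.rec (motive := fun _ => Nat) 0 FPL_p407 (Nat.beq (Nat.land (Nat.shiftRight i 9) 1) 0)
noncomputable def FPL_s9_408 (i : Nat) : Nat := Bool.rec (motive := fun _ => Nat) 0 FPL_p408 (Nat.beq (Nat.land (Nat.shiftRight i 9) 1) 0)
noncomputable def FPL_s9_409 (i : Nat) : Nat := Bool.rec (motive := fun _ => Nat) 0 FPL_p409 (Nat.beq (Nat.land (Nat.shiftRight i 9) 1) 0)
noncomputable def FPL_s9_410 (i : Nat) : Nat := Bool.rec (motive := fun _ => Nat) 0 FPL_p410 (Nat.beq (Nat.land (Nat.shiftRight i 9) 1) 0)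
noncomputable def FPL_s9_411 (i : Nat) : Nat := Bool.rec (motive := fun _ => Nat) 0 FPL_p411 (Nat.beq (Nat.land (Nat.shiftRight i 9) 1) 0)
noncomputable def FPL_s9_412 (i : Nat) : Nat := Bool.rec (motive := fun _ => Nat) 0 FPL_p412 (Nat.beq (Nat.land (Nat.shiftRight i 9) 1) 0)
noncomputable def FPL_s9_413 (i : Nat) : Nat := Bool.rec (motive := fun _ => Nat) 0 FPL_p413 (Nat.beq (Nat.land (Nat.shiftRight i 9) 1) 0)
noncomputable def FPL_s9_414 (i : Nat) : Nat := Bool.rec (motive := fun _ => Nat) 0 FPL_p414 (Nat.beq (Nat.land (Nat.shiftRight i 9) 1) 0)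
noncomputable def FPL_s9_415 (i : Nat) : Nat := Bool.rec (motive := fun _ => Nat) 0 FPL_p415 (Nat.beq (Nat.land (Nat.shiftRight i 9) 1) 0)
noncomputable def FPL_s9_416 (i : Nat) : Nat := Bool.rec (motive := fun _ => Nat) 0 FPL_p416 (Nat.beq (Nat.land (Nat.shiftRight i 9) 1) 0)
noncomputable def FPL_s9_417 (i : Nat) : Nat := Bool.rec (motive := fun _ => Nat) 0 FPL_p417 (Nat.beq (Nat.land (Nat.shiftRight i 9) 1) 0)
noncomputable def FPL_s9_418 (i : Nat) : Nat := Bool.rec (motive := fun _ => Nat) 0 FPL_p418 (Nat.beq (Nat.land (Nat.shiftRight i 9) 1) 0)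
noncomputable def FPL_s9_419 (i : Nat) : Nat := Bool.rec (motive := fun _ => Nat) 0 FPL_p419 (Nat.beq (Nat.land (Nat.shiftRight i 9) 1) 0)
noncomputable def FPL_s9_420 (i : Nat) : Nat := Bool.rec (motive := fun _ => Nat) 0 FPL_p420 (Nat.beq (Nat.land (Nat.shiftRight i 9) 1) 0)
noncomputable def FPL_s9_421 (i : Nat) : Nat := Bool.rec (motive := fun _ => Nat) 0 FPL_p421 (Nat.beq (Nat.land (Nat.shiftRight i 9) 1) 0)
noncomputable def FPL_s9_422 (i : Nat) : Nat := Bool.rec (motive := fun _ => Nat) 0 FPL_p422 (Nat.beq (Nat.land (Nat.shiftRight i 9) 1) 0)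
noncomputable def FPL_s9_423 (i : Nat) : Nat := Bool.rec (motive := fun _ => Nat) 0 FPL_p423 (Nat.beq (Nat.land (Nat.shiftRight i 9) 1) 0)
noncomputable def FPL_s9_424 (i : Nat) : Nat := Bool.rec (motive := fun _ => Nat) 0 FPL_p424 (Nat.beq (Nat.land (Nat.shiftRight i 9) 1) 0)
noncomputable def FPL_s9_425 (i : Nat) : Nat := Bool.rec (motive := fun _ => Nat) 0 FPL_p425 (Nat.beq (Nat.land (Nat.shiftRight i 9) 1) 0)
noncomputable def FPL_s9_426 (i : Nat) : Nat := Bool.rec (motive := fun _ => Nat) 0 FPL_p426 (Nat.beq (Nat.land (Nat.shiftRight i 9) 1) 0)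
noncomputable def FPL_s9_427 (i : Nat) : Nat := Bool.rec (motive := fun _ => Nat) 0 FPL_p427 (Nat.beq (Nat.land (Nat.shiftRight i 9) 1) 0)
noncomputable def FPL_s9_428 (i : Nat) : Nat := Bool.rec (motive := fun _ => Nat) 0 FPL_p428 (Nat.beq (Nat.land (Nat.shiftRight i 9) 1) 0)
noncomputable def FPL_s9_429 (i : Nat) : Nat := Bool.rec (motive := fun _ => Nat) 0 FPL_p429 (Nat.beq (Nat.land (Nat.shiftRight i 9) 1) 0)
noncomputable def FPL_s9_430 (i : Nat) : Nat := Bool.rec (motive := fun _ => Nat) 0 FPL_p430 (Nat.beq (Nat.land (Nat.shiftRight i 9) 1) 0)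
noncomputable def FPL_s9_431 (i : Nat) : Nat := Bool.rec (motive := fun _ => Nat) 0 FPL_p431 (Nat.beq (Nat.land (Nat.shiftRight i 9) 1) 0)
noncomputable def FPL_s9_432 (i : Nat) : Nat := Bool.rec (motive := fun _ => Nat) 0 FPL_p432 (Nat.beq (Nat.land (Nat.shiftRight i 9) 1) 0)
noncomputable def FPL_s9_433 (i : Nat) : Nat := Bool.rec (motive := fun _ => Nat) 0 FPL_p433 (Nat.beq (Nat.land (Nat.shiftRight i 9) 1) 0)
noncomputable def FPL_s9_434 (i : Nat) : Nat := Bool.rec (motive := fun _ => Nat) 0 FPL_p434 (Nat.beq (Nat.land (Nat.shiftRight i 9) 1) 0)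
noncomputable def FPL_s9_435 (i : Nat) : Nat := Bool.rec (motive := fun _ => Nat) 0 FPL_p435 (Nat.beq (Nat.land (Nat.shiftRight i 9) 1) 0)
noncomputable def FPL_s9_436 (i : Nat) : Nat := Bool.rec (motive := fun _ => Nat) 0 FPL_p436 (Nat.beq (Nat.land (Nat.shiftRight i 9) 1) 0)
noncomputable def FPL_s9_437 (i : Nat) : Nat := Bool.rec (motive := fun _ => Nat) 0 FPL_p437 (Nat.beq (Nat.land (Nat.shiftRight i 9) 1) 0)
noncomputable def FPL_s9_438 (i : Nat) : Nat := Bool.rec (motive := fun _ => Nat) 0 FPL_p438 (Nat.beq (Nat.land (Nat.shiftRight i 9) 1) 0)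
noncomputable def FPL_s9_439 (i : Nat) : Nat := Bool.rec (motive := fun _ => Nat) 0 FPL_p439 (Nat.beq (Nat.land (Nat.shiftRight i 9) 1) 0)
noncomputable def FPL_s9_440 (i : Nat) : Nat := Bool.rec (motive := fun _ => Nat) 0 FPL_p440 (Nat.beq (Nat.land (Nat.shiftRight i 9) 1) 0)
noncomputable def FPL_s9_441 (i : Nat) : Nat := Bool.rec (motive := fun _ => Nat) 0 FPL_p441 (Nat.beq (Nat.land (Nat.shiftRight i 9) 1) 0)
noncomputable def FPL_s9_442 (i : Nat) : Nat := Bool.rec (motive := fun _ => Nat) 0 FPL_p442 (Nat.beq (Nat.land (Nat.shiftRight i 9) 1) 0)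
noncomputable def FPL_s9_443 (i : Nat) : Nat := Bool.rec (motive := fun _ => Nat) 0 FPL_p443 (Nat.beq (Nat.land (Nat.shiftRight i 9) 1) 0)
noncomputable def FPL_s9_444 (i : Nat) : Nat := Bool.rec (motive := fun _ => Nat) 0 FPL_p444 (Nat.beq (Nat.land (Nat.shiftRight i 9) 1) 0)
noncomputable def FPL_s9_445 (i : Nat) : Nat := Bool.rec (motive := fun _ => Nat) 0 FPL_p445 (Nat.beq (Nat.land (Nat.shiftRight i 9) 1) 0)
noncomputable def FPL_s9_446 (i : Nat) : Nat := Bool.rec (motive := fun _ => Nat) 0 FPL_p446 (Nat.beq (Nat.land (Nat.shiftRight i 9) 1) 0)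
noncomputable def FPL_s9_447 (i : Nat) : Nat := Bool.rec (motive := fun _ => Nat) 0 FPL_p447 (Nat.beq (Nat.land (Nat.shiftRight i 9) 1) 0)
noncomputable def FPL_s9_448 (i : Nat) : Nat := Bool.rec (motive := fun _ => Nat) 0 FPL_p448 (Nat.beq (Nat.land (Nat.shiftRight i 9) 1) 0)
noncomputable def FPL_s9_449 (i : Nat) : Nat := Bool.rec (motive := fun _ => Nat) 0 FPL_p449 (Nat.beq (Nat.land (Nat.shiftRight i 9) 1) 0)
noncomputable def FPL_s9_450 (i : Nat) : Nat := Bool.rec (motive := fun _ => Nat) 0 FPL_p450 (Nat.beq (Nat.land (Nat.shiftRight i 9) 1) 0)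
noncomputable def FPL_s9_451 (i : Nat) : Nat := Bool.rec (motive := fun _ => Nat) 0 FPL_p451 (Nat.beq (Nat.land (Nat.shiftRight i 9) 1) 0)
noncomputable def FPL_s9_452 (i : Nat) : Nat := Bool.rec (motive := fun _ => Nat) 0 FPL_p452 (Nat.beq (Nat.land (Nat.shiftRight i 9) 1) 0)
noncomputable def FPL_s9_453 (i : Nat) : Nat := Bool.rec (motive := fun _ => Nat) 0 FPL_p453 (Nat.beq (Nat.land (Nat.shiftRight i 9) 1) 0)
noncomputable def FPL_s9_454 (i : Nat) : Nat := Bool.rec (motive := fun _ => Nat) 0 FPL_p454 (Nat.beq (Nat.land (Nat.shiftRight i 9) 1) 0)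
noncomputable def FPL_s9_455 (i : Nat) : Nat := Bool.rec (motive := fun _ => Nat) 0 FPL_p455 (Nat.beq (Nat.land (Nat.shiftRight i 9) 1) 0)
noncomputable def FPL_s9_456 (i : Nat) : Nat := Bool.rec (motive := fun _ => Nat) 0 FPL_p456 (Nat.beq (Nat.land (Nat.shiftRight i 9) 1) 0)
noncomputable def FPL_s9_457 (i : Nat) : Nat := Bool.rec (motive := fun _ => Nat) 0 FPL_p457 (Nat.beq (Nat.land (Nat.shiftRight i 9) 1) 0)
noncomputable def FPL_s9_458 (i : Nat) : Nat := Bool.rec (motive := fun _ => Nat) 0 FPL_p458 (Nat.beq (Nat.land (Nat.shiftRight i 9) 1) 0)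
noncomputable def FPL_s9_459 (i : Nat) : Nat := Bool.rec (motive := fun _ => Nat) 0 FPL_p459 (Nat.beq (Nat.land (Nat.shiftRight i 9) 1) 0)
noncomputable def FPL_s9_460 (i : Nat) : Nat := Bool.rec (motive := fun _ => Nat) 0 FPL_p460 (Nat.beq (Nat.land (Nat.shiftRight i 9) 1) 0)
noncomputable def FPL_s9_461 (i : Nat) : Nat := Bool.rec (motive := fun _ => Nat) 0 FPL_p461 (Nat.beq (Nat.land (Nat.shiftRight i 9) 1) 0)
noncomputable def FPL_s9_462 (i : Nat) : Nat := Bool.rec (motive := fun _ => Nat) 0 FPL_p462 (Nat.beq (Nat.land (Nat.shiftRight i 9) 1) 0)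
noncomputable def FPL_s9_463 (i : Nat) : Nat := Bool.rec (motive := fun _ => Nat) 0 FPL_p463 (Nat.beq (Nat.land (Nat.shiftRight i 9) 1) 0)
noncomputable def FPL_s9_464 (i : Nat) : Nat := Bool.rec (motive := fun _ => Nat) 0 FPL_p464 (Nat.beq (Nat.land (Nat.shiftRight i 9) 1) 0)
noncomputable def FPL_s9_465 (i : Nat) : Nat := Bool.rec (motive := fun _ => Nat) 0 FPL_p465 (Nat.beq (Nat.land (Nat.shiftRight i 9) 1) 0)
noncomputable def FPL_s9_466 (i : Nat) : Nat := Bool.rec (motive := fun _ => Nat) 0 FPL_p466 (Nat.beq (Nat.land (Nat.shiftRight i 9) 1) 0)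
noncomputable def FPL_s9_467 (i : Nat) : Nat := Bool.rec (motive := fun _ => Nat) 0 FPL_p467 (Nat.beq (Nat.land (Nat.shiftRight i 9) 1) 0)
noncomputable def FPL_s9_468 (i : Nat) : Nat := Bool.rec (motive := fun _ => Nat) 0 FPL_p468 (Nat.beq (Nat.land (Nat.shiftRight i 9) 1) 0)
noncomputable def FPL_s9_469 (i : Nat) : Nat := Bool.rec (motive := fun _ => Nat) 0 FPL_p469 (Nat.beq (Nat.land (Nat.shiftRight i 9) 1) 0)
noncomputable def FPL_s9_470 (i : Nat) : Nat := Bool.rec (motive := fun _ => Nat) 0 FPL_p470 (Nat.beq (Nat.land (Nat.shiftRight i 9) 1) 0)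
noncomputable def FPL_s9_471 (i : Nat) : Nat := Bool.rec (motive := fun _ => Nat) 0 FPL_p471 (Nat.beq (Nat.land (Nat.shiftRight i 9) 1) 0)
noncomputable def FPL_s9_472 (i : Nat) : Nat := Bool.rec (motive := fun _ => Nat) 0 FPL_p472 (Nat.beq (Nat.land (Nat.shiftRight i 9) 1) 0)
noncomputable def FPL_s9_473 (i : Nat) : Nat := Bool.rec (motive := fun _ => Nat) 0 FPL_p473 (Nat.beq (Nat.land (Nat.shiftRight i 9) 1) 0)
noncomputable def FPL_s9_474 (i : Nat) : Nat := Bool.rec (motive := fun _ => Nat) 0 FPL_p474 (Nat.beq (Nat.land (Nat.shiftRight i 9) 1) 0)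
noncomputable def FPL_s9_475 (i : Nat) : Nat := Bool.rec (motive := fun _ => Nat) 0 FPL_p475 (Nat.beq (Nat.land (Nat.shiftRight i 9) 1) 0)
noncomputable def FPL_s9_476 (i : Nat) : Nat := Bool.rec (motive := fun _ => Nat) 0 FPL_p476 (Nat.beq (Nat.land (Nat.shiftRight i 9) 1) 0)
noncomputable def FPL_s9_477 (i : Nat) : Nat := Bool.rec (motive := fun _ => Nat) 0 FPL_p477 (Nat.beq (Nat.land (Nat.shiftRight i 9) 1) 0)
noncomputable def FPL_s9_478 (i : Nat) : Nat := Bool.rec (motive := fun _ => Nat) 0 FPL_p478 (Nat.beq (Nat.land (Nat.shiftRight i 9) 1) 0)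
noncomputable def FPL_s9_479 (i : Nat) : Nat := Bool.rec (motive := fun _ => Nat) 0 FPL_p479 (Nat.beq (Nat.land (Nat.shiftRight i 9) 1) 0)
noncomputable def FPL_s9_480 (i : Nat) : Nat := Bool.rec (motive := fun _ => Nat) 0 FPL_p480 (Nat.beq (Nat.land (Nat.shiftRight i 9) 1) 0)
noncomputable def FPL_s9_481 (i : Nat) : Nat := Bool.rec (motive := fun _ => Nat) 0 FPL_p481 (Nat.beq (Nat.land (Nat.shiftRight i 9) 1) 0)
noncomputable def FPL_s9_482 (i : Nat) : Nat := Bool.rec (motive := fun _ => Nat) 0 FPL_p482 (Nat.beq (Nat.land (Nat.shiftRight i 9) 1) 0)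
noncomputable def FPL_s9_483 (i : Nat) : Nat := Bool.rec (motive := fun _ => Nat) 0 FPL_p483 (Nat.beq (Nat.land (Nat.shiftRight i 9) 1) 0)
noncomputable def FPL_s9_484 (i : Nat) : Nat := Bool.rec (motive := fun _ => Nat) 0 FPL_p484 (Nat.beq (Nat.land (Nat.shiftRight i 9) 1) 0)
noncomputable def FPL_s9_485 (i : Nat) : Nat := Bool.rec (motive := fun _ => Nat) 0 FPL_p485 (Nat.beq (Nat.land (Nat.shiftRight i 9) 1) 0)
noncomputable def FPL_s9_486 (i : Nat) : Nat := Bool.rec (motive := fun _ => Nat) 0 FPL_p486 (Nat.beq (Nat.land (Nat.shiftRight i 9) 1) 0)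
noncomputable def FPL_s9_487 (i : Nat) : Nat := Bool.rec (motive := fun _ => Nat) 0 FPL_p487 (Nat.beq (Nat.land (Nat.shiftRight i 9) 1) 0)
noncomputable def FPL_s9_488 (i : Nat) : Nat := Bool.rec (motive := fun _ => Nat) 0 FPL_p488 (Nat.beq (Nat.land (Nat.shiftRight i 9) 1) 0)
noncomputable def FPL_s9_489 (i : Nat) : Nat := Bool.rec (motive := fun _ => Nat) 0 FPL_p489 (Nat.beq (Nat.land (Nat.shiftRight i 9) 1) 0)
noncomputable def FPL_s9_490 (i : Nat) : Nat := Bool.rec (motive := fun _ => Nat) 0 FPL_p490 (Nat.beq (Nat.land (Nat.shiftRight i 9) 1) 0)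
noncomputable def FPL_s9_491 (i : Nat) : Nat := Bool.rec (motive := fun _ => Nat) 0 FPL_p491 (Nat.beq (Nat.land (Nat.shiftRight i 9) 1) 0)
noncomputable def FPL_s9_492 (i : Nat) : Nat := Bool.rec (motive := fun _ => Nat) 0 FPL_p492 (Nat.beq (Nat.land (Nat.shiftRight i 9) 1) 0)
noncomputable def FPL_s9_493 (i : Nat) : Nat := Bool.rec (motive := fun _ => Nat) 0 FPL_p493 (Nat.beq (Nat.land (Nat.shiftRight i 9) 1) 0)
noncomputable def FPL_s9_494 (i : Nat) : Nat := Bool.rec (motive := fun _ => Nat) 0 FPL_p494 (Nat.beq (Nat.land (Nat.shiftRight i 9) 1) 0)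
noncomputable def FPL_s9_495 (i : Nat) : Nat := Bool.rec (motive := fun _ => Nat) 0 FPL_p495 (Nat.beq (Nat.land (Nat.shiftRight i 9) 1) 0)
noncomputable def FPL_s9_496 (i : Nat) : Nat := Bool.rec (motive := fun _ => Nat) 0 FPL_p496 (Nat.beq (Nat.land (Nat.shiftRight i 9) 1) 0)
noncomputable def FPL_s9_497 (i : Nat) : Nat := Bool.rec (motive := fun _ => Nat) 0 FPL_p497 (Nat.beq (Nat.land (Nat.shiftRight i 9) 1) 0)
noncomputable def FPL_s9_498 (i : Nat) : Nat := Bool.rec (motive := fun _ => Nat) 0 FPL_p498 (Nat.beq (Nat.land (Nat.shiftRight i 9) 1) 0)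
noncomputable def FPL_s9_499 (i : Nat) : Nat := Bool.rec (motive := fun _ => Nat) 0 FPL_p499 (Nat.beq (Nat.land (Nat.shiftRight i 9) 1) 0)
noncomputable def FPL_s9_500 (i : Nat) : Nat := Bool.rec (motive := fun _ => Nat) 0 FPL_p500 (Nat.beq (Nat.land (Nat.shiftRight i 9) 1) 0)
noncomputable def FPL_s9_501 (i : Nat) : Nat := Bool.rec (motive := fun _ => Nat) 0 FPL_p501 (Nat.beq (Nat.land (Nat.shiftRight i 9) 1) 0)
noncomputable def FPL_s9_502 (i : Nat) : Nat := Bool.rec (motive := fun _ => Nat) 0 FPL_p502 (Nat.beq (Nat.land (Nat.shiftRight i 9) 1) 0)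
noncomputable def FPL_s9_503 (i : Nat) : Nat := Bool.rec (motive := fun _ => Nat) 0 FPL_p503 (Nat.beq (Nat.land (Nat.shiftRight i 9) 1) 0)
noncomputable def FPL_s9_504 (i : Nat) : Nat := Bool.rec (motive := fun _ => Nat) 0 FPL_p504 (Nat.beq (Nat.land (Nat.shiftRight i 9) 1) 0)
noncomputable def FPL_s9_505 (i : Nat) : Nat := Bool.rec (motive := fun _ => Nat) 0 FPL_p505 (Nat.beq (Nat.land (Nat.shiftRight i 9) 1) 0)
noncomputable def FPL_s9_506 (i : Nat) : Nat := Bool.rec (motive := fun _ => Nat) 0 FPL_p506 (Nat.beq (Nat.land (Nat.shiftRight i 9) 1) 0)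
noncomputable def FPL_s9_507 (i : Nat) : Nat := Bool.rec (motive := fun _ => Nat) 0 FPL_p507 (Nat.beq (Nat.land (Nat.shiftRight i 9) 1) 0)
noncomputable def FPL_s9_508 (i : Nat) : Nat := Bool.rec (motive := fun _ => Nat) 0 FPL_p508 (Nat.beq (Nat.land (Nat.shiftRight i 9) 1) 0)
noncomputable def FPL_s9_509 (i : Nat) : Nat := Bool.rec (motive := fun _ => Nat) 0 FPL_p509 (Nat.beq (Nat.land (Nat.shiftRight i 9) 1) 0)
noncomputable def FPL_s9_510 (i : Nat) : Nat := Bool.rec (motive := fun _ => Nat) 0 FPL_p510 (Nat.beq (Nat.land (Nat.shiftRight i 9) 1) 0)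
noncomputable def FPL_s9_511 (i : Nat) : Nat := Bool.rec (motive := fun _ => Nat) 0 FPL_p511 (Nat.beq (Nat.land (Nat.shiftRight i 9) 1) 0)
noncomputable def FPL_s8_0 (i : Nat) : Nat := Bool.rec (motive := fun _ => Nat) (FPL_s9_256 i) (FPL_s9_0 i) (Nat.beq (Nat.land (Nat.shiftRight i 8) 1) 0)
noncomputable def FPL_s8_1 (i : Nat) : Nat := Bool.rec (motive := fun _ => Nat) (FPL_s9_257 i) (FPL_s9_1 i) (Nat.beq (Nat.land (Nat.shiftRight i 8) 1) 0)
noncomputable def FPL_s8_2 (i : Nat) : Nat := Bool.rec (motive := fun _ => Nat) (FPL_s9_258 i) (FPL_s9_2 i) (Nat.beq (Nat.land (Nat.shiftRight i 8) 1) 0)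
noncomputable def FPL_s8_3 (i : Nat) : Nat := Bool.rec (motive := fun _ => Nat) (FPL_s9_259 i) (FPL_s9_3 i) (Nat.beq (Nat.land (Nat.shiftRight i 8) 1) 0)
noncomputable def FPL_s8_4 (i : Nat) : Nat := Bool.rec (motive := fun _ => Nat) (FPL_s9_260 i) (FPL_s9_4 i) (Nat.beq (Nat.land (Nat.shiftRight i 8) 1) 0)
noncomputable def FPL_s8_5 (i : Nat) : Nat := Bool.rec (motive := fun _ => Nat) (FPL_s9_261 i) (FPL_s9_5 i) (Nat.beq (Nat.land (Nat.shiftRight i 8) 1) 0)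
noncomputable def FPL_s8_6 (i : Nat) : Nat := Bool.rec (motive := fun _ => Nat) (FPL_s9_262 i) (FPL_s9_6 i) (Nat.beq (Nat.land (Nat.shiftRight i 8) 1) 0)
noncomputable def FPL_s8_7 (i : Nat) : Nat := Bool.rec (motive := fun _ => Nat) (FPL_s9_263 i) (FPL_s9_7 i) (Nat.beq (Nat.land (Nat.shiftRight i 8) 1) 0)
noncomputable def FPL_s8_8 (i : Nat) : Nat := Bool.rec (motive := fun _ => Nat) (FPL_s9_264 i) (FPL_s9_8 i) (Nat.beq (Nat.land (Nat.shiftRight i 8) 1) 0)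
noncomputable def FPL_s8_9 (i : Nat) : Nat := Bool.rec (motive := fun _ => Nat) (FPL_s9_265 i) (FPL_s9_9 i) (Nat.beq (Nat.land (Nat.shiftRight i 8) 1) 0)
noncomputable def FPL_s8_10 (i : Nat) : Nat := Bool.rec (motive := fun _ => Nat) (FPL_s9_266 i) (FPL_s9_10 i) (Nat.beq (Nat.land (Nat.shiftRight i 8) 1) 0)
noncomputable def FPL_s8_11 (i : Nat) : Nat := Bool.rec (motive := fun _ => Nat) (FPL_s9_267 i) (FPL_s9_11 i) (Nat.beq (Nat.land (Nat.shiftRight i 8) 1) 0)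
noncomputable def FPL_s8_12 (i : Nat) : Nat := Bool.rec (motive := fun _ => Nat) (FPL_s9_268 i) (FPL_s9_12 i) (Nat.beq (Nat.land (Nat.shiftRight i 8) 1) 0)
noncomputable def FPL_s8_13 (i : Nat) : Nat := Bool.rec (motive := fun _ => Nat) (FPL_s9_269 i) (FPL_s9_13 i) (Nat.beq (Nat.land (Nat.shiftRight i 8) 1) 0)
noncomputable def FPL_s8_14 (i : Nat) : Nat := Bool.rec (motive := fun _ => Nat) (FPL_s9_270 i) (FPL_s9_14 i) (Nat.beq (Nat.land (Nat.shiftRight i 8) 1) 0)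
noncomputable def FPL_s8_15 (i : Nat) : Nat := Bool.rec (motive := fun _ => Nat) (FPL_s9_271 i) (FPL_s9_15 i) (Nat.beq (Nat.land (Nat.shiftRight i 8) 1) 0)
noncomputable def FPL_s8_16 (i : Nat) : Nat := Bool.rec (motive := fun _ => Nat) (FPL_s9_272 i) (FPL_s9_16 i) (Nat.beq (Nat.land (Nat.shiftRight i 8) 1) 0)
noncomputable def FPL_s8_17 (i : Nat) : Nat := Bool.rec (motive := fun _ => Nat) (FPL_s9_273 i) (FPL_s9_17 i) (Nat.beq (Nat.land (Nat.shiftRight i 8) 1) 0)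
noncomputable def FPL_s8_18 (i : Nat) : Nat := Bool.rec (motive := fun _ => Nat) (FPL_s9_274 i) (FPL_s9_18 i) (Nat.beq (Nat.land (Nat.shiftRight i 8) 1) 0)
noncomputable def FPL_s8_19 (i : Nat) : Nat := Bool.rec (motive := fun _ => Nat) (FPL_s9_275 i) (FPL_s9_19 i) (Nat.beq (Nat.land (Nat.shiftRight i 8) 1) 0)
noncomputable def FPL_s8_20 (i : Nat) : Nat := Bool.rec (motive := fun _ => Nat) (FPL_s9_276 i) (FPL_s9_20 i) (Nat.beq (Nat.land (Nat.shiftRight i 8) 1) 0)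
noncomputable def FPL_s8_21 (i : Nat) : Nat := Bool.rec (motive := fun _ => Nat) (FPL_s9_277 i) (FPL_s9_21 i) (Nat.beq (Nat.land (Nat.shiftRight i 8) 1) 0)
noncomputable def FPL_s8_22 (i : Nat) : Nat := Bool.rec (motive := fun _ => Nat) (FPL_s9_278 i) (FPL_s9_22 i) (Nat.beq (Nat.land (Nat.shiftRight i 8) 1) 0)
noncomputable def FPL_s8_23 (i : Nat) : Nat := Bool.rec (motive := fun _ => Nat) (FPL_s9_279 i) (FPL_s9_23 i) (Nat.beq (Nat.land (Nat.shiftRight i 8) 1) 0)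
noncomputable def FPL_s8_24 (i : Nat) : Nat := Bool.rec (motive := fun _ => Nat) (FPL_s9_280 i) (FPL_s9_24 i) (Nat.beq (Nat.land (Nat.shiftRight i 8) 1) 0)
noncomputable def FPL_s8_25 (i : Nat) : Nat := Bool.rec (motive := fun _ => Nat) (FPL_s9_281 i) (FPL_s9_25 i) (Nat.beq (Nat.land (Nat.shiftRight i 8) 1) 0)
noncomputable def FPL_s8_26 (i : Nat) : Nat := Bool.rec (motive := fun _ => Nat) (FPL_s9_282 i) (FPL_s9_26 i) (Nat.beq (Nat.land (Nat.shiftRight i 8) 1) 0)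
noncomputable def FPL_s8_27 (i : Nat) : Nat := Bool.rec (motive := fun _ => Nat) (FPL_s9_283 i) (FPL_s9_27 i) (Nat.beq (Nat.land (Nat.shiftRight i 8) 1) 0)
noncomputable def FPL_s8_28 (i : Nat) : Nat := Bool.rec (motive := fun _ => Nat) (FPL_s9_284 i) (FPL_s9_28 i) (Nat.beq (Nat.land (Nat.shiftRight i 8) 1) 0)
noncomputable def FPL_s8_29 (i : Nat) : Nat := Bool.rec (motive := fun _ => Nat) (FPL_s9_285 i) (FPL_s9_29 i) (Nat.beq (Nat.land (Nat.shiftRight i 8) 1) 0)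
noncomputable def FPL_s8_30 (i : Nat) : Nat := Bool.rec (motive := fun _ => Nat) (FPL_s9_286 i) (FPL_s9_30 i) (Nat.beq (Nat.land (Nat.shiftRight i 8) 1) 0)
noncomputable def FPL_s8_31 (i : Nat) : Nat := Bool.rec (motive := fun _ => Nat) (FPL_s9_287 i) (FPL_s9_31 i) (Nat.beq (Nat.land (Nat.shiftRight i 8) 1) 0)
noncomputable def FPL_s8_32 (i : Nat) : Nat := Bool.rec (motive := fun _ => Nat) (FPL_s9_288 i) (FPL_s9_32 i) (Nat.beq (Nat.land (Nat.shiftRight i 8) 1) 0)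
noncomputable def FPL_s8_33 (i : Nat) : Nat := Bool.rec (motive := fun _ => Nat) (FPL_s9_289 i) (FPL_s9_33 i) (Nat.beq (Nat.land (Nat.shiftRight i 8) 1) 0)
noncomputable def FPL_s8_34 (i : Nat) : Nat := Bool.rec (motive := fun _ => Nat) (FPL_s9_290 i) (FPL_s9_34 i) (Nat.beq (Nat.land (Nat.shiftRight i 8) 1) 0)
noncomputable def FPL_s8_35 (i : Nat) : Nat := Bool.rec (motive := fun _ => Nat) (FPL_s9_291 i) (FPL_s9_35 i) (Nat.beq (Nat.land (Nat.shiftRight i 8) 1) 0)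
noncomputable def FPL_s8_36 (i : Nat) : Nat := Bool.rec (motive := fun _ => Nat) (FPL_s9_292 i) (FPL_s9_36 i) (Nat.beq (Nat.land (Nat.shiftRight i 8) 1) 0)
noncomputable def FPL_s8_37 (i : Nat) : Nat := Bool.rec (motive := fun _ => Nat) (FPL_s9_293 i) (FPL_s9_37 i) (Nat.beq (Nat.land (Nat.shiftRight i 8) 1) 0)
noncomputable def FPL_s8_38 (i : Nat) : Nat := Bool.rec (motive := fun _ => Nat) (FPL_s9_294 i) (FPL_s9_38 i) (Nat.beq (Nat.land (Nat.shiftRight i 8) 1) 0)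
noncomputable def FPL_s8_39 (i : Nat) : Nat := Bool.rec (motive := fun _ => Nat) (FPL_s9_295 i) (FPL_s9_39 i) (Nat.beq (Nat.land (Nat.shiftRight i 8) 1) 0)
noncomputable def FPL_s8_40 (i : Nat) : Nat := Bool.rec (motive := fun _ => Nat) (FPL_s9_296 i) (FPL_s9_40 i) (Nat.beq (Nat.land (Nat.shiftRight i 8) 1) 0)
noncomputable def FPL_s8_41 (i : Nat) : Nat := Bool.rec (motive := fun _ => Nat) (FPL_s9_297 i) (FPL_s9_41 i) (Nat.beq (Nat.land (Nat.shiftRight i 8) 1) 0)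
noncomputable def FPL_s8_42 (i : Nat) : Nat := Bool.rec (motive := fun _ => Nat) (FPL_s9_298 i) (FPL_s9_42 i) (Nat.beq (Nat.land (Nat.shiftRight i 8) 1) 0)
noncomputable def FPL_s8_43 (i : Nat) : Nat := Bool.rec (motive := fun _ => Nat) (FPL_s9_299 i) (FPL_s9_43 i) (Nat.beq (Nat.land (Nat.shiftRight i 8) 1) 0)
noncomputable def FPL_s8_44 (i : Nat) : Nat := Bool.rec (motive := fun _ => Nat) (FPL_s9_300 i) (FPL_s9_44 i) (Nat.beq (Nat.land (Nat.shiftRight i 8) 1) 0)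
noncomputable def FPL_s8_45 (i : Nat) : Nat := Bool.rec (motive := fun _ => Nat) (FPL_s9_301 i) (FPL_s9_45 i) (Nat.beq (Nat.land (Nat.shiftRight i 8) 1) 0)
noncomputable def FPL_s8_46 (i : Nat) : Nat := Bool.rec (motive := fun _ => Nat) (FPL_s9_302 i) (FPL_s9_46 i) (Nat.beq (Nat.land (Nat.shiftRight i 8) 1) 0)
noncomputable def FPL_s8_47 (i : Nat) : Nat := Bool.rec (motive := fun _ => Nat) (FPL_s9_303 i) (FPL_s9_47 i) (Nat.beq (Nat.land (Nat.shiftRight i 8) 1) 0)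
noncomputable def FPL_s8_48 (i : Nat) : Nat := Bool.rec (motive := fun _ => Nat) (FPL_s9_304 i) (FPL_s9_48 i) (Nat.beq (Nat.land (Nat.shiftRight i 8) 1) 0)
noncomputable def FPL_s8_49 (i : Nat) : Nat := Bool.rec (motive := fun _ => Nat) (FPL_s9_305 i) (FPL_s9_49 i) (Nat.beq (Nat.land (Nat.shiftRight i 8) 1) 0)
noncomputable def FPL_s8_50 (i : Nat) : Nat := Bool.rec (motive := fun _ => Nat) (FPL_s9_306 i) (FPL_s9_50 i) (Nat.beq (Nat.land (Nat.shiftRight i 8) 1) 0)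
noncomputable def FPL_s8_51 (i : Nat) : Nat := Bool.rec (motive := fun _ => Nat) (FPL_s9_307 i) (FPL_s9_51 i) (Nat.beq (Nat.land (Nat.shiftRight i 8) 1) 0)
noncomputable def FPL_s8_52 (i : Nat) : Nat := Bool.rec (motive := fun _ => Nat) (FPL_s9_308 i) (FPL_s9_52 i) (Nat.beq (Nat.land (Nat.shiftRight i 8) 1) 0)
noncomputable def FPL_s8_53 (i : Nat) : Nat := Bool.rec (motive := fun _ => Nat) (FPL_s9_309 i) (FPL_s9_53 i) (Nat.beq (Nat.land (Nat.shiftRight i 8) 1) 0)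
noncomputable def FPL_s8_54 (i : Nat) : Nat := Bool.rec (motive := fun _ => Nat) (FPL_s9_310 i) (FPL_s9_54 i) (Nat.beq (Nat.land (Nat.shiftRight i 8) 1) 0)
noncomputable def FPL_s8_55 (i : Nat) : Nat := Bool.rec (motive := fun _ => Nat) (FPL_s9_311 i) (FPL_s9_55 i) (Nat.beq (Nat.land (Nat.shiftRight i 8) 1) 0)
noncomputable def FPL_s8_56 (i : Nat) : Nat := Bool.rec (motive := fun _ => Nat) (FPL_s9_312 i) (FPL_s9_56 i) (Nat.beq (Nat.land (Nat.shiftRight i 8) 1) 0)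
noncomputable def FPL_s8_57 (i : Nat) : Nat := Bool.rec (motive := fun _ => Nat) (FPL_s9_313 i) (FPL_s9_57 i) (Nat.beq (Nat.land (Nat.shiftRight i 8) 1) 0)
noncomputable def FPL_s8_58 (i : Nat) : Nat := Bool.rec (motive := fun _ => Nat) (FPL_s9_314 i) (FPL_s9_58 i) (Nat.beq (Nat.land (Nat.shiftRight i 8) 1) 0)
noncomputable def FPL_s8_59 (i : Nat) : Nat := Bool.rec (motive := fun _ => Nat) (FPL_s9_315 i) (FPL_s9_59 i) (Nat.beq (Nat.land (Nat.shiftRight i 8) 1) 0)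
noncomputable def FPL_s8_60 (i : Nat) : Nat := Bool.rec (motive := fun _ => Nat) (FPL_s9_316 i) (FPL_s9_60 i) (Nat.beq (Nat.land (Nat.shiftRight i 8) 1) 0)
noncomputable def FPL_s8_61 (i : Nat) : Nat := Bool.rec (motive := fun _ => Nat) (FPL_s9_317 i) (FPL_s9_61 i) (Nat.beq (Nat.land (Nat.shiftRight i 8) 1) 0)
noncomputable def FPL_s8_62 (i : Nat) : Nat := Bool.rec (motive := fun _ => Nat) (FPL_s9_318 i) (FPL_s9_62 i) (Nat.beq (Nat.land (Nat.shiftRight i 8) 1) 0)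
noncomputable def FPL_s8_63 (i : Nat) : Nat := Bool.rec (motive := fun _ => Nat) (FPL_s9_319 i) (FPL_s9_63 i) (Nat.beq (Nat.land (Nat.shiftRight i 8) 1) 0)
noncomputable def FPL_s8_64 (i : Nat) : Nat := Bool.rec (motive := fun _ => Nat) (FPL_s9_320 i) (FPL_s9_64 i) (Nat.beq (Nat.land (Nat.shiftRight i 8) 1) 0)
noncomputable def FPL_s8_65 (i : Nat) : Nat := Bool.rec (motive := fun _ => Nat) (FPL_s9_321 i) (FPL_s9_65 i) (Nat.beq (Nat.land (Nat.shiftRight i 8) 1) 0)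
noncomputable def FPL_s8_66 (i : Nat) : Nat := Bool.rec (motive := fun _ => Nat) (FPL_s9_322 i) (FPL_s9_66 i) (Nat.beq (Nat.land (Nat.shiftRight i 8) 1) 0)
noncomputable def FPL_s8_67 (i : Nat) : Nat := Bool.rec (motive := fun _ => Nat) (FPL_s9_323 i) (FPL_s9_67 i) (Nat.beq (Nat.land (Nat.shiftRight i 8) 1) 0)
noncomputable def FPL_s8_68 (i : Nat) : Nat := Bool.rec (motive := fun _ => Nat) (FPL_s9_324 i) (FPL_s9_68 i) (Nat.beq (Nat.land (Nat.shiftRight i 8) 1) 0)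
noncomputable def FPL_s8_69 (i : Nat) : Nat := Bool.rec (motive := fun _ => Nat) (FPL_s9_325 i) (FPL_s9_69 i) (Nat.beq (Nat.land (Nat.shiftRight i 8) 1) 0)
noncomputable def FPL_s8_70 (i : Nat) : Nat := Bool.rec (motive := fun _ => Nat) (FPL_s9_326 i) (FPL_s9_70 i) (Nat.beq (Nat.land (Nat.shiftRight i 8) 1) 0)
noncomputable def FPL_s8_71 (i : Nat) : Nat := Bool.rec (motive := fun _ => Nat) (FPL_s9_327 i) (FPL_s9_71 i) (Nat.beq (Nat.land (Nat.shiftRight i 8) 1) 0)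
noncomputable def FPL_s8_72 (i : Nat) : Nat := Bool.rec (motive := fun _ => Nat) (FPL_s9_328 i) (FPL_s9_72 i) (Nat.beq (Nat.land (Nat.shiftRight i 8) 1) 0)
noncomputable def FPL_s8_73 (i : Nat) : Nat := Bool.rec (motive := fun _ => Nat) (FPL_s9_329 i) (FPL_s9_73 i) (Nat.beq (Nat.land (Nat.shiftRight i 8) 1) 0)
noncomputable def FPL_s8_74 (i : Nat) : Nat := Bool.rec (motive := fun _ => Nat) (FPL_s9_330 i) (FPL_s9_74 i) (Nat.beq (Nat.land (Nat.shiftRight i 8) 1) 0)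
noncomputable def FPL_s8_75 (i : Nat) : Nat := Bool.rec (motive := fun _ => Nat) (FPL_s9_331 i) (FPL_s9_75 i) (Nat.beq (Nat.land (Nat.shiftRight i 8) 1) 0)
noncomputable def FPL_s8_76 (i : Nat) : Nat := Bool.rec (motive := fun _ => Nat) (FPL_s9_332 i) (FPL_s9_76 i) (Nat.beq (Nat.land (Nat.shiftRight i 8) 1) 0)
noncomputable def FPL_s8_77 (i : Nat) : Nat := Bool.rec (motive := fun _ => Nat) (FPL_s9_333 i) (FPL_s9_77 i) (Nat.beq (Nat.land (Nat.shiftRight i 8) 1) 0)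
noncomputable def FPL_s8_78 (i : Nat) : Nat := Bool.rec (motive := fun _ => Nat) (FPL_s9_334 i) (FPL_s9_78 i) (Nat.beq (Nat.land (Nat.shiftRight i 8) 1) 0)
noncomputable def FPL_s8_79 (i : Nat) : Nat := Bool.rec (motive := fun _ => Nat) (FPL_s9_335 i) (FPL_s9_79 i) (Nat.beq (Nat.land (Nat.shiftRight i 8) 1) 0)
noncomputable def FPL_s8_80 (i : Nat) : Nat := Bool.rec (motive := fun _ => Nat) (FPL_s9_336 i) (FPL_s9_80 i) (Nat.beq (Nat.land (Nat.shiftRight i 8) 1) 0)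
noncomputable def FPL_s8_81 (i : Nat) : Nat := Bool.rec (motive := fun _ => Nat) (FPL_s9_337 i) (FPL_s9_81 i) (Nat.beq (Nat.land (Nat.shiftRight i 8) 1) 0)
noncomputable def FPL_s8_82 (i : Nat) : Nat := Bool.rec (motive := fun _ => Nat) (FPL_s9_338 i) (FPL_s9_82 i) (Nat.beq (Nat.land (Nat.shiftRight i 8) 1) 0)
noncomputable def FPL_s8_83 (i : Nat) : Nat := Bool.rec (motive := fun _ => Nat) (FPL_s9_339 i) (FPL_s9_83 i) (Nat.beq (Nat.land (Nat.shiftRight i 8) 1) 0)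
noncomputable def FPL_s8_84 (i : Nat) : Nat := Bool.rec (motive := fun _ => Nat) (FPL_s9_340 i) (FPL_s9_84 i) (Nat.beq (Nat.land (Nat.shiftRight i 8) 1) 0)
noncomputable def FPL_s8_85 (i : Nat) : Nat := Bool.rec (motive := fun _ => Nat) (FPL_s9_341 i) (FPL_s9_85 i) (Nat.beq (Nat.land (Nat.shiftRight i 8) 1) 0)
noncomputable def FPL_s8_86 (i : Nat) : Nat := Bool.rec (motive := fun _ => Nat) (FPL_s9_342 i) (FPL_s9_86 i) (Nat.beq (Nat.land (Nat.shiftRight i 8) 1) 0)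
noncomputable def FPL_s8_87 (i : Nat) : Nat := Bool.rec (motive := fun _ => Nat) (FPL_s9_343 i) (FPL_s9_87 i) (Nat.beq (Nat.land (Nat.shiftRight i 8) 1) 0)
noncomputable def FPL_s8_88 (i : Nat) : Nat := Bool.rec (motive := fun _ => Nat) (FPL_s9_344 i) (FPL_s9_88 i) (Nat.beq (Nat.land (Nat.shiftRight i 8) 1) 0)
noncomputable def FPL_s8_89 (i : Nat) : Nat := Bool.rec (motive := fun _ => Nat) (FPL_s9_345 i) (FPL_s9_89 i) (Nat.beq (Nat.land (Nat.shiftRight i 8) 1) 0)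
noncomputable def FPL_s8_90 (i : Nat) : Nat := Bool.rec (motive := fun _ => Nat) (FPL_s9_346 i) (FPL_s9_90 i) (Nat.beq (Nat.land (Nat.shiftRight i 8) 1) 0)
noncomputable def FPL_s8_91 (i : Nat) : Nat := Bool.rec (motive := fun _ => Nat) (FPL_s9_347 i) (FPL_s9_91 i) (Nat.beq (Nat.land (Nat.shiftRight i 8) 1) 0)
noncomputable def FPL_s8_92 (i : Nat) : Nat := Bool.rec (motive := fun _ => Nat) (FPL_s9_348 i) (FPL_s9_92 i) (Nat.beq (Nat.land (Nat.shiftRight i 8) 1) 0)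
noncomputable def FPL_s8_93 (i : Nat) : Nat := Bool.rec (motive := fun _ => Nat) (FPL_s9_349 i) (FPL_s9_93 i) (Nat.beq (Nat.land (Nat.shiftRight i 8) 1) 0)
noncomputable def FPL_s8_94 (i : Nat) : Nat := Bool.rec (motive := fun _ => Nat) (FPL_s9_350 i) (FPL_s9_94 i) (Nat.beq (Nat.land (Nat.shiftRight i 8) 1) 0)
noncomputable def FPL_s8_95 (i : Nat) : Nat := Bool.rec (motive := fun _ => Nat) (FPL_s9_351 i) (FPL_s9_95 i) (Nat.beq (Nat.land (Nat.shiftRight i 8) 1) 0)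
noncomputable def FPL_s8_96 (i : Nat) : Nat := Bool.rec (motive := fun _ => Nat) (FPL_s9_352 i) (FPL_s9_96 i) (Nat.beq (Nat.land (Nat.shiftRight i 8) 1) 0)
noncomputable def FPL_s8_97 (i : Nat) : Nat := Bool.rec (motive := fun _ => Nat) (FPL_s9_353 i) (FPL_s9_97 i) (Nat.beq (Nat.land (Nat.shiftRight i 8) 1) 0)
noncomputable def FPL_s8_98 (i : Nat) : Nat := Bool.rec (motive := fun _ => Nat) (FPL_s9_354 i) (FPL_s9_98 i) (Nat.beq (Nat.land (Nat.shiftRight i 8) 1) 0)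
noncomputable def FPL_s8_99 (i : Nat) : Nat := Bool.rec (motive := fun _ => Nat) (FPL_s9_355 i) (FPL_s9_99 i) (Nat.beq (Nat.land (Nat.shiftRight i 8) 1) 0)
noncomputable def FPL_s8_100 (i : Nat) : Nat := Bool.rec (motive := fun _ => Nat) (FPL_s9_356 i) (FPL_s9_100 i) (Nat.beq (Nat.land (Nat.shiftRight i 8) 1) 0)
noncomputable def FPL_s8_101 (i : Nat) : Nat := Bool.rec (motive := fun _ => Nat) (FPL_s9_357 i) (FPL_s9_101 i) (Nat.beq (Nat.land (Nat.shiftRight i 8) 1) 0)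
noncomputable def FPL_s8_102 (i : Nat) : Nat := Bool.rec (motive := fun _ => Nat) (FPL_s9_358 i) (FPL_s9_102 i) (Nat.beq (Nat.land (Nat.shiftRight i 8) 1) 0)
noncomputable def FPL_s8_103 (i : Nat) : Nat := Bool.rec (motive := fun _ => Nat) (FPL_s9_359 i) (FPL_s9_103 i) (Nat.beq (Nat.land (Nat.shiftRight i 8) 1) 0)
noncomputable def FPL_s8_104 (i : Nat) : Nat := Bool.rec (motive := fun _ => Nat) (FPL_s9_360 i) (FPL_s9_104 i) (Nat.beq (Nat.land (Nat.shiftRight i 8) 1) 0)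
noncomputable def FPL_s8_105 (i : Nat) : Nat := Bool.rec (motive := fun _ => Nat) (FPL_s9_361 i) (FPL_s9_105 i) (Nat.beq (Nat.land (Nat.shiftRight i 8) 1) 0)
noncomputable def FPL_s8_106 (i : Nat) : Nat := Bool.rec (motive := fun _ => Nat) (FPL_s9_362 i) (FPL_s9_106 i) (Nat.beq (Nat.land (Nat.shiftRight i 8) 1) 0)
noncomputable def FPL_s8_107 (i : Nat) : Nat := Bool.rec (motive := fun _ => Nat) (FPL_s9_363 i) (FPL_s9_107 i) (Nat.beq (Nat.land (Nat.shiftRight i 8) 1) 0)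
noncomputable def FPL_s8_108 (i : Nat) : Nat := Bool.rec (motive := fun _ => Nat) (FPL_s9_364 i) (FPL_s9_108 i) (Nat.beq (Nat.land (Nat.shiftRight i 8) 1) 0)
noncomputable def FPL_s8_109 (i : Nat) : Nat := Bool.rec (motive := fun _ => Nat) (FPL_s9_365 i) (FPL_s9_109 i) (Nat.beq (Nat.land (Nat.shiftRight i 8) 1) 0)
noncomputable def FPL_s8_110 (i : Nat) : Nat := Bool.rec (motive := fun _ => Nat) (FPL_s9_366 i) (FPL_s9_110 i) (Nat.beq (Nat.land (Nat.shiftRight i 8) 1) 0)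
noncomputable def FPL_s8_111 (i : Nat) : Nat := Bool.rec (motive := fun _ => Nat) (FPL_s9_367 i) (FPL_s9_111 i) (Nat.beq (Nat.land (Nat.shiftRight i 8) 1) 0)
noncomputable def FPL_s8_112 (i : Nat) : Nat := Bool.rec (motive := fun _ => Nat) (FPL_s9_368 i) (FPL_s9_112 i) (Nat.beq (Nat.land (Nat.shiftRight i 8) 1) 0)
noncomputable def FPL_s8_113 (i : Nat) : Nat := Bool.rec (motive := fun _ => Nat) (FPL_s9_369 i) (FPL_s9_113 i) (Nat.beq (Nat.land (Nat.shiftRight i 8) 1) 0)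
noncomputable def FPL_s8_114 (i : Nat) : Nat := Bool.rec (motive := fun _ => Nat) (FPL_s9_370 i) (FPL_s9_114 i) (Nat.beq (Nat.land (Nat.shiftRight i 8) 1) 0)
noncomputable def FPL_s8_115 (i : Nat) : Nat := Bool.rec (motive := fun _ => Nat) (FPL_s9_371 i) (FPL_s9_115 i) (Nat.beq (Nat.land (Nat.shiftRight i 8) 1) 0)
noncomputable def FPL_s8_116 (i : Nat) : Nat := Bool.rec (motive := fun _ => Nat) (FPL_s9_372 i) (FPL_s9_116 i) (Nat.beq (Nat.land (Nat.shiftRight i 8) 1) 0)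
noncomputable def FPL_s8_117 (i : Nat) : Nat := Bool.rec (motive := fun _ => Nat) (FPL_s9_373 i) (FPL_s9_117 i) (Nat.beq (Nat.land (Nat.shiftRight i 8) 1) 0)
noncomputable def FPL_s8_118 (i : Nat) : Nat := Bool.rec (motive := fun _ => Nat) (FPL_s9_374 i) (FPL_s9_118 i) (Nat.beq (Nat.land (Nat.shiftRight i 8) 1) 0)
noncomputable def FPL_s8_119 (i : Nat) : Nat := Bool.rec (motive := fun _ => Nat) (FPL_s9_375 i) (FPL_s9_119 i) (Nat.beq (Nat.land (Nat.shiftRight i 8) 1) 0)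
noncomputable def FPL_s8_120 (i : Nat) : Nat := Bool.rec (motive := fun _ => Nat) (FPL_s9_376 i) (FPL_s9_120 i) (Nat.beq (Nat.land (Nat.shiftRight i 8) 1) 0)
noncomputable def FPL_s8_121 (i : Nat) : Nat := Bool.rec (motive := fun _ => Nat) (FPL_s9_377 i) (FPL_s9_121 i) (Nat.beq (Nat.land (Nat.shiftRight i 8) 1) 0)
noncomputable def FPL_s8_122 (i : Nat) : Nat := Bool.rec (motive := fun _ => Nat) (FPL_s9_378 i) (FPL_s9_122 i) (Nat.beq (Nat.land (Nat.shiftRight i 8) 1) 0)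
noncomputable def FPL_s8_123 (i : Nat) : Nat := Bool.rec (motive := fun _ => Nat) (FPL_s9_379 i) (FPL_s9_123 i) (Nat.beq (Nat.land (Nat.shiftRight i 8) 1) 0)
noncomputable def FPL_s8_124 (i : Nat) : Nat := Bool.rec (motive := fun _ => Nat) (FPL_s9_380 i) (FPL_s9_124 i) (Nat.beq (Nat.land (Nat.shiftRight i 8) 1) 0)
noncomputable def FPL_s8_125 (i : Nat) : Nat := Bool.rec (motive := fun _ => Nat) (FPL_s9_381 i) (FPL_s9_125 i) (Nat.beq (Nat.land (Nat.shiftRight i 8) 1) 0)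
noncomputable def FPL_s8_126 (i : Nat) : Nat := Bool.rec (motive := fun _ => Nat) (FPL_s9_382 i) (FPL_s9_126 i) (Nat.beq (Nat.land (Nat.shiftRight i 8) 1) 0)
noncomputable def FPL_s8_127 (i : Nat) : Nat := Bool.rec (motive := fun _ => Nat) (FPL_s9_383 i) (FPL_s9_127 i) (Nat.beq (Nat.land (Nat.shiftRight i 8) 1) 0)
noncomputable def FPL_s8_128 (i : Nat) : Nat := Bool.rec (motive := fun _ => Nat) (FPL_s9_384 i) (FPL_s9_128 i) (Nat.beq (Nat.land (Nat.shiftRight i 8) 1) 0)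
noncomputable def FPL_s8_129 (i : Nat) : Nat := Bool.rec (motive := fun _ => Nat) (FPL_s9_385 i) (FPL_s9_129 i) (Nat.beq (Nat.land (Nat.shiftRight i 8) 1) 0)
noncomputable def FPL_s8_130 (i : Nat) : Nat := Bool.rec (motive := fun _ => Nat) (FPL_s9_386 i) (FPL_s9_130 i) (Nat.beq (Nat.land (Nat.shiftRight i 8) 1) 0)
noncomputable def FPL_s8_131 (i : Nat) : Nat := Bool.rec (motive := fun _ => Nat) (FPL_s9_387 i) (FPL_s9_131 i) (Nat.beq (Nat.land (Nat.shiftRight i 8) 1) 0)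
noncomputable def FPL_s8_132 (i : Nat) : Nat := Bool.rec (motive := fun _ => Nat) (FPL_s9_388 i) (FPL_s9_132 i) (Nat.beq (Nat.land (Nat.shiftRight i 8) 1) 0)
noncomputable def FPL_s8_133 (i : Nat) : Nat := Bool.rec (motive := fun _ => Nat) (FPL_s9_389 i) (FPL_s9_133 i) (Nat.beq (Nat.land (Nat.shiftRight i 8) 1) 0)
noncomputable def FPL_s8_134 (i : Nat) : Nat := Bool.rec (motive := fun _ => Nat) (FPL_s9_390 i) (FPL_s9_134 i) (Nat.beq (Nat.land (Nat.shiftRight i 8) 1) 0)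
noncomputable def FPL_s8_135 (i : Nat) : Nat := Bool.rec (motive := fun _ => Nat) (FPL_s9_391 i) (FPL_s9_135 i) (Nat.beq (Nat.land (Nat.shiftRight i 8) 1) 0)
noncomputable def FPL_s8_136 (i : Nat) : Nat := Bool.rec (motive := fun _ => Nat) (FPL_s9_392 i) (FPL_s9_136 i) (Nat.beq (Nat.land (Nat.shiftRight i 8) 1) 0)
noncomputable def FPL_s8_137 (i : Nat) : Nat := Bool.rec (motive := fun _ => Nat) (FPL_s9_393 i) (FPL_s9_137 i) (Nat.beq (Nat.land (Nat.shiftRight i 8) 1) 0)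
noncomputable def FPL_s8_138 (i : Nat) : Nat := Bool.rec (motive := fun _ => Nat) (FPL_s9_394 i) (FPL_s9_138 i) (Nat.beq (Nat.land (Nat.shiftRight i 8) 1) 0)
noncomputable def FPL_s8_139 (i : Nat) : Nat := Bool.rec (motive := fun _ => Nat) (FPL_s9_395 i) (FPL_s9_139 i) (Nat.beq (Nat.land (Nat.shiftRight i 8) 1) 0)
noncomputable def FPL_s8_140 (i : Nat) : Nat := Bool.rec (motive := fun _ => Nat) (FPL_s9_396 i) (FPL_s9_140 i) (Nat.beq (Nat.land (Nat.shiftRight i 8) 1) 0)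
noncomputable def FPL_s8_141 (i : Nat) : Nat := Bool.rec (motive := fun _ => Nat) (FPL_s9_397 i) (FPL_s9_141 i) (Nat.beq (Nat.land (Nat.shiftRight i 8) 1) 0)
noncomputable def FPL_s8_142 (i : Nat) : Nat := Bool.rec (motive := fun _ => Nat) (FPL_s9_398 i) (FPL_s9_142 i) (Nat.beq (Nat.land (Nat.shiftRight i 8) 1) 0)
noncomputable def FPL_s8_143 (i : Nat) : Nat := Bool.rec (motive := fun _ => Nat) (FPL_s9_399 i) (FPL_s9_143 i) (Nat.beq (Nat.land (Nat.shiftRight i 8) 1) 0)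
noncomputable def FPL_s8_144 (i : Nat) : Nat := Bool.rec (motive := fun _ => Nat) (FPL_s9_400 i) (FPL_s9_144 i) (Nat.beq (Nat.land (Nat.shiftRight i 8) 1) 0)
noncomputable def FPL_s8_145 (i : Nat) : Nat := Bool.rec (motive := fun _ => Nat) (FPL_s9_401 i) (FPL_s9_145 i) (Nat.beq (Nat.land (Nat.shiftRight i 8) 1) 0)
noncomputable def FPL_s8_146 (i : Nat) : Nat := Bool.rec (motive := fun _ => Nat) (FPL_s9_402 i) (FPL_s9_146 i) (Nat.beq (Nat.land (Nat.shiftRight i 8) 1) 0)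
noncomputable def FPL_s8_147 (i : Nat) : Nat := Bool.rec (motive := fun _ => Nat) (FPL_s9_403 i) (FPL_s9_147 i) (Nat.beq (Nat.land (Nat.shiftRight i 8) 1) 0)
noncomputable def FPL_s8_148 (i : Nat) : Nat := Bool.rec (motive := fun _ => Nat) (FPL_s9_404 i) (FPL_s9_148 i) (Nat.beq (Nat.land (Nat.shiftRight i 8) 1) 0)
noncomputable def FPL_s8_149 (i : Nat) : Nat := Bool.rec (motive := fun _ => Nat) (FPL_s9_405 i) (FPL_s9_149 i) (Nat.beq (Nat.land (Nat.shiftRight i 8) 1) 0)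
noncomputable def FPL_s8_150 (i : Nat) : Nat := Bool.rec (motive := fun _ => Nat) (FPL_s9_406 i) (FPL_s9_150 i) (Nat.beq (Nat.land (Nat.shiftRight i 8) 1) 0)
noncomputable def FPL_s8_151 (i : Nat) : Nat := Bool.rec (motive := fun _ => Nat) (FPL_s9_407 i) (FPL_s9_151 i) (Nat.beq (Nat.land (Nat.shiftRight i 8) 1) 0)
noncomputable def FPL_s8_152 (i : Nat) : Nat := Bool.rec (motive := fun _ => Nat) (FPL_s9_408 i) (FPL_s9_152 i) (Nat.beq (Nat.land (Nat.shiftRight i 8) 1) 0)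
noncomputable def FPL_s8_153 (i : Nat) : Nat := Bool.rec (motive := fun _ => Nat) (FPL_s9_409 i) (FPL_s9_153 i) (Nat.beq (Nat.land (Nat.shiftRight i 8) 1) 0)
noncomputable def FPL_s8_154 (i : Nat) : Nat := Bool.rec (motive := fun _ => Nat) (FPL_s9_410 i) (FPL_s9_154 i) (Nat.beq (Nat.land (Nat.shiftRight i 8) 1) 0)
noncomputable def FPL_s8_155 (i : Nat) : Nat := Bool.rec (motive := fun _ => Nat) (FPL_s9_411 i) (FPL_s9_155 i) (Nat.beq (Nat.land (Nat.shiftRight i 8) 1) 0)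
noncomputable def FPL_s8_156 (i : Nat) : Nat := Bool.rec (motive := fun _ => Nat) (FPL_s9_412 i) (FPL_s9_156 i) (Nat.beq (Nat.land (Nat.shiftRight i 8) 1) 0)
noncomputable def FPL_s8_157 (i : Nat) : Nat := Bool.rec (motive := fun _ => Nat) (FPL_s9_413 i) (FPL_s9_157 i) (Nat.beq (Nat.land (Nat.shiftRight i 8) 1) 0)
noncomputable def FPL_s8_158 (i : Nat) : Nat := Bool.rec (motive := fun _ => Nat) (FPL_s9_414 i) (FPL_s9_158 i) (Nat.beq (Nat.land (Nat.shiftRight i 8) 1) 0)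
noncomputable def FPL_s8_159 (i : Nat) : Nat := Bool.rec (motive := fun _ => Nat) (FPL_s9_415 i) (FPL_s9_159 i) (Nat.beq (Nat.land (Nat.shiftRight i 8) 1) 0)
noncomputable def FPL_s8_160 (i : Nat) : Nat := Bool.rec (motive := fun _ => Nat) (FPL_s9_416 i) (FPL_s9_160 i) (Nat.beq (Nat.land (Nat.shiftRight i 8) 1) 0)
noncomputable def FPL_s8_161 (i : Nat) : Nat := Bool.rec (motive := fun _ => Nat) (FPL_s9_417 i) (FPL_s9_161 i) (Nat.beq (Nat.land (Nat.shiftRight i 8) 1) 0)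
noncomputable def FPL_s8_162 (i : Nat) : Nat := Bool.rec (motive := fun _ => Nat) (FPL_s9_418 i) (FPL_s9_162 i) (Nat.beq (Nat.land (Nat.shiftRight i 8) 1) 0)
noncomputable def FPL_s8_163 (i : Nat) : Nat := Bool.rec (motive := fun _ => Nat) (FPL_s9_419 i) (FPL_s9_163 i) (Nat.beq (Nat.land (Nat.shiftRight i 8) 1) 0)
noncomputable def FPL_s8_164 (i : Nat) : Nat := Bool.rec (motive := fun _ => Nat) (FPL_s9_420 i) (FPL_s9_164 i) (Nat.beq (Nat.land (Nat.shiftRight i 8) 1) 0)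
noncomputable def FPL_s8_165 (i : Nat) : Nat := Bool.rec (motive := fun _ => Nat) (FPL_s9_421 i) (FPL_s9_165 i) (Nat.beq (Nat.land (Nat.shiftRight i 8) 1) 0)
noncomputable def FPL_s8_166 (i : Nat) : Nat := Bool.rec (motive := fun _ => Nat) (FPL_s9_422 i) (FPL_s9_166 i) (Nat.beq (Nat.land (Nat.shiftRight i 8) 1) 0)
noncomputable def FPL_s8_167 (i : Nat) : Nat := Bool.rec (motive := fun _ => Nat) (FPL_s9_423 i) (FPL_s9_167 i) (Nat.beq (Nat.land (Nat.shiftRight i 8) 1) 0)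
noncomputable def FPL_s8_168 (i : Nat) : Nat := Bool.rec (motive := fun _ => Nat) (FPL_s9_424 i) (FPL_s9_168 i) (Nat.beq (Nat.land (Nat.shiftRight i 8) 1) 0)
noncomputable def FPL_s8_169 (i : Nat) : Nat := Bool.rec (motive := fun _ => Nat) (FPL_s9_425 i) (FPL_s9_169 i) (Nat.beq (Nat.land (Nat.shiftRight i 8) 1) 0)
noncomputable def FPL_s8_170 (i : Nat) : Nat := Bool.rec (motive := fun _ => Nat) (FPL_s9_426 i) (FPL_s9_170 i) (Nat.beq (Nat.land (Nat.shiftRight i 8) 1) 0)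
noncomputable def FPL_s8_171 (i : Nat) : Nat := Bool.rec (motive := fun _ => Nat) (FPL_s9_427 i) (FPL_s9_171 i) (Nat.beq (Nat.land (Nat.shiftRight i 8) 1) 0)
noncomputable def FPL_s8_172 (i : Nat) : Nat := Bool.rec (motive := fun _ => Nat) (FPL_s9_428 i) (FPL_s9_172 i) (Nat.beq (Nat.land (Nat.shiftRight i 8) 1) 0)
noncomputable def FPL_s8_173 (i : Nat) : Nat := Bool.rec (motive := fun _ => Nat) (FPL_s9_429 i) (FPL_s9_173 i) (Nat.beq (Nat.land (Nat.shiftRight i 8) 1) 0)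
noncomputable def FPL_s8_174 (i : Nat) : Nat := Bool.rec (motive := fun _ => Nat) (FPL_s9_430 i) (FPL_s9_174 i) (Nat.beq (Nat.land (Nat.shiftRight i 8) 1) 0)
noncomputable def FPL_s8_175 (i : Nat) : Nat := Bool.rec (motive := fun _ => Nat) (FPL_s9_431 i) (FPL_s9_175 i) (Nat.beq (Nat.land (Nat.shiftRight i 8) 1) 0)
noncomputable def FPL_s8_176 (i : Nat) : Nat := Bool.rec (motive := fun _ => Nat) (FPL_s9_432 i) (FPL_s9_176 i) (Nat.beq (Nat.land (Nat.shiftRight i 8) 1) 0)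
noncomputable def FPL_s8_177 (i : Nat) : Nat := Bool.rec (motive := fun _ => Nat) (FPL_s9_433 i) (FPL_s9_177 i) (Nat.beq (Nat.land (Nat.shiftRight i 8) 1) 0)
noncomputable def FPL_s8_178 (i : Nat) : Nat := Bool.rec (motive := fun _ => Nat) (FPL_s9_434 i) (FPL_s9_178 i) (Nat.beq (Nat.land (Nat.shiftRight i 8) 1) 0)
noncomputable def FPL_s8_179 (i : Nat) : Nat := Bool.rec (motive := fun _ => Nat) (FPL_s9_435 i) (FPL_s9_179 i) (Nat.beq (Nat.land (Nat.shiftRight i 8) 1) 0)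
noncomputable def FPL_s8_180 (i : Nat) : Nat := Bool.rec (motive := fun _ => Nat) (FPL_s9_436 i) (FPL_s9_180 i) (Nat.beq (Nat.land (Nat.shiftRight i 8) 1) 0)
noncomputable def FPL_s8_181 (i : Nat) : Nat := Bool.rec (motive := fun _ => Nat) (FPL_s9_437 i) (FPL_s9_181 i) (Nat.beq (Nat.land (Nat.shiftRight i 8) 1) 0)
noncomputable def FPL_s8_182 (i : Nat) : Nat := Bool.rec (motive := fun _ => Nat) (FPL_s9_438 i) (FPL_s9_182 i) (Nat.beq (Nat.land (Nat.shiftRight i 8) 1) 0)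
noncomputable def FPL_s8_183 (i : Nat) : Nat := Bool.rec (motive := fun _ => Nat) (FPL_s9_439 i) (FPL_s9_183 i) (Nat.beq (Nat.land (Nat.shiftRight i 8) 1) 0)
noncomputable def FPL_s8_184 (i : Nat) : Nat := Bool.rec (motive := fun _ => Nat) (FPL_s9_440 i) (FPL_s9_184 i) (Nat.beq (Nat.land (Nat.shiftRight i 8) 1) 0)
noncomputable def FPL_s8_185 (i : Nat) : Nat := Bool.rec (motive := fun _ => Nat) (FPL_s9_441 i) (FPL_s9_185 i) (Nat.beq (Nat.land (Nat.shiftRight i 8) 1) 0)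
noncomputable def FPL_s8_186 (i : Nat) : Nat := Bool.rec (motive := fun _ => Nat) (FPL_s9_442 i) (FPL_s9_186 i) (Nat.beq (Nat.land (Nat.shiftRight i 8) 1) 0)
noncomputable def FPL_s8_187 (i : Nat) : Nat := Bool.rec (motive := fun _ => Nat) (FPL_s9_443 i) (FPL_s9_187 i) (Nat.beq (Nat.land (Nat.shiftRight i 8) 1) 0)
noncomputable def FPL_s8_188 (i : Nat) : Nat := Bool.rec (motive := fun _ => Nat) (FPL_s9_444 i) (FPL_s9_188 i) (Nat.beq (Nat.land (Nat.shiftRight i 8) 1) 0)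
noncomputable def FPL_s8_189 (i : Nat) : Nat := Bool.rec (motive := fun _ => Nat) (FPL_s9_445 i) (FPL_s9_189 i) (Nat.beq (Nat.land (Nat.shiftRight i 8) 1) 0)
noncomputable def FPL_s8_190 (i : Nat) : Nat := Bool.rec (motive := fun _ => Nat) (FPL_s9_446 i) (FPL_s9_190 i) (Nat.beq (Nat.land (Nat.shiftRight i 8) 1) 0)
noncomputable def FPL_s8_191 (i : Nat) : Nat := Bool.rec (motive := fun _ => Nat) (FPL_s9_447 i) (FPL_s9_191 i) (Nat.beq (Nat.land (Nat.shiftRight i 8) 1) 0)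
noncomputable def FPL_s8_192 (i : Nat) : Nat := Bool.rec (motive := fun _ => Nat) (FPL_s9_448 i) (FPL_s9_192 i) (Nat.beq (Nat.land (Nat.shiftRight i 8) 1) 0)
noncomputable def FPL_s8_193 (i : Nat) : Nat := Bool.rec (motive := fun _ => Nat) (FPL_s9_449 i) (FPL_s9_193 i) (Nat.beq (Nat.land (Nat.shiftRight i 8) 1) 0)
noncomputable def FPL_s8_194 (i : Nat) : Nat := Bool.rec (motive := fun _ => Nat) (FPL_s9_450 i) (FPL_s9_194 i) (Nat.beq (Nat.land (Nat.shiftRight i 8) 1) 0)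
noncomputable def FPL_s8_195 (i : Nat) : Nat := Bool.rec (motive := fun _ => Nat) (FPL_s9_451 i) (FPL_s9_195 i) (Nat.beq (Nat.land (Nat.shiftRight i 8) 1) 0)
noncomputable def FPL_s8_196 (i : Nat) : Nat := Bool.rec (motive := fun _ => Nat) (FPL_s9_452 i) (FPL_s9_196 i) (Nat.beq (Nat.land (Nat.shiftRight i 8) 1) 0)
noncomputable def FPL_s8_197 (i : Nat) : Nat := Bool.rec (motive := fun _ => Nat) (FPL_s9_453 i) (FPL_s9_197 i) (Nat.beq (Nat.land (Nat.shiftRight i 8) 1) 0)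
noncomputable def FPL_s8_198 (i : Nat) : Nat := Bool.rec (motive := fun _ => Nat) (FPL_s9_454 i) (FPL_s9_198 i) (Nat.beq (Nat.land (Nat.shiftRight i 8) 1) 0)
noncomputable def FPL_s8_199 (i : Nat) : Nat := Bool.rec (motive := fun _ => Nat) (FPL_s9_455 i) (FPL_s9_199 i) (Nat.beq (Nat.land (Nat.shiftRight i 8) 1) 0)
noncomputable def FPL_s8_200 (i : Nat) : Nat := Bool.rec (motive := fun _ => Nat) (FPL_s9_456 i) (FPL_s9_200 i) (Nat.beq (Nat.land (Nat.shiftRight i 8) 1) 0)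
noncomputable def FPL_s8_201 (i : Nat) : Nat := Bool.rec (motive := fun _ => Nat) (FPL_s9_457 i) (FPL_s9_201 i) (Nat.beq (Nat.land (Nat.shiftRight i 8) 1) 0)
noncomputable def FPL_s8_202 (i : Nat) : Nat := Bool.rec (motive := fun _ => Nat) (FPL_s9_458 i) (FPL_s9_202 i) (Nat.beq (Nat.land (Nat.shiftRight i 8) 1) 0)
noncomputable def FPL_s8_203 (i : Nat) : Nat := Bool.rec (motive := fun _ => Nat) (FPL_s9_459 i) (FPL_s9_203 i) (Nat.beq (Nat.land (Nat.shiftRight i 8) 1) 0)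
noncomputable def FPL_s8_204 (i : Nat) : Nat := Bool.rec (motive := fun _ => Nat) (FPL_s9_460 i) (FPL_s9_204 i) (Nat.beq (Nat.land (Nat.shiftRight i 8) 1) 0)
noncomputable def FPL_s8_205 (i : Nat) : Nat := Bool.rec (motive := fun _ => Nat) (FPL_s9_461 i) (FPL_s9_205 i) (Nat.beq (Nat.land (Nat.shiftRight i 8) 1) 0)
noncomputable def FPL_s8_206 (i : Nat) : Nat := Bool.rec (motive := fun _ => Nat) (FPL_s9_462 i) (FPL_s9_206 i) (Nat.beq (Nat.land (Nat.shiftRight i 8) 1) 0)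
noncomputable def FPL_s8_207 (i : Nat) : Nat := Bool.rec (motive := fun _ => Nat) (FPL_s9_463 i) (FPL_s9_207 i) (Nat.beq (Nat.land (Nat.shiftRight i 8) 1) 0)
noncomputable def FPL_s8_208 (i : Nat) : Nat := Bool.rec (motive := fun _ => Nat) (FPL_s9_464 i) (FPL_s9_208 i) (Nat.beq (Nat.land (Nat.shiftRight i 8) 1) 0)
noncomputable def FPL_s8_209 (i : Nat) : Nat := Bool.rec (motive := fun _ => Nat) (FPL_s9_465 i) (FPL_s9_209 i) (Nat.beq (Nat.land (Nat.shiftRight i 8) 1) 0)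
noncomputable def FPL_s8_210 (i : Nat) : Nat := Bool.rec (motive := fun _ => Nat) (FPL_s9_466 i) (FPL_s9_210 i) (Nat.beq (Nat.land (Nat.shiftRight i 8) 1) 0)
noncomputable def FPL_s8_211 (i : Nat) : Nat := Bool.rec (motive := fun _ => Nat) (FPL_s9_467 i) (FPL_s9_211 i) (Nat.beq (Nat.land (Nat.shiftRight i 8) 1) 0)
noncomputable def FPL_s8_212 (i : Nat) : Nat := Bool.rec (motive := fun _ => Nat) (FPL_s9_468 i) (FPL_s9_212 i) (Nat.beq (Nat.land (Nat.shiftRight i 8) 1) 0)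
noncomputable def FPL_s8_213 (i : Nat) : Nat := Bool.rec (motive := fun _ => Nat) (FPL_s9_469 i) (FPL_s9_213 i) (Nat.beq (Nat.land (Nat.shiftRight i 8) 1) 0)
noncomputable def FPL_s8_214 (i : Nat) : Nat := Bool.rec (motive := fun _ => Nat) (FPL_s9_470 i) (FPL_s9_214 i) (Nat.beq (Nat.land (Nat.shiftRight i 8) 1) 0)
noncomputable def FPL_s8_215 (i : Nat) : Nat := Bool.rec (motive := fun _ => Nat) (FPL_s9_471 i) (FPL_s9_215 i) (Nat.beq (Nat.land (Nat.shiftRight i 8) 1) 0)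
noncomputable def FPL_s8_216 (i : Nat) : Nat := Bool.rec (motive := fun _ => Nat) (FPL_s9_472 i) (FPL_s9_216 i) (Nat.beq (Nat.land (Nat.shiftRight i 8) 1) 0)
noncomputable def FPL_s8_217 (i : Nat) : Nat := Bool.rec (motive := fun _ => Nat) (FPL_s9_473 i) (FPL_s9_217 i) (Nat.beq (Nat.land (Nat.shiftRight i 8) 1) 0)
noncomputable def FPL_s8_218 (i : Nat) : Nat := Bool.rec (motive := fun _ => Nat) (FPL_s9_474 i) (FPL_s9_218 i) (Nat.beq (Nat.land (Nat.shiftRight i 8) 1) 0)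
noncomputable def FPL_s8_219 (i : Nat) : Nat := Bool.rec (motive := fun _ => Nat) (FPL_s9_475 i) (FPL_s9_219 i) (Nat.beq (Nat.land (Nat.shiftRight i 8) 1) 0)
noncomputable def FPL_s8_220 (i : Nat) : Nat := Bool.rec (motive := fun _ => Nat) (FPL_s9_476 i) (FPL_s9_220 i) (Nat.beq (Nat.land (Nat.shiftRight i 8) 1) 0)
noncomputable def FPL_s8_221 (i : Nat) : Nat := Bool.rec (motive := fun _ => Nat) (FPL_s9_477 i) (FPL_s9_221 i) (Nat.beq (Nat.land (Nat.shiftRight i 8) 1) 0)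
noncomputable def FPL_s8_222 (i : Nat) : Nat := Bool.rec (motive := fun _ => Nat) (FPL_s9_478 i) (FPL_s9_222 i) (Nat.beq (Nat.land (Nat.shiftRight i 8) 1) 0)
noncomputable def FPL_s8_223 (i : Nat) : Nat := Bool.rec (motive := fun _ => Nat) (FPL_s9_479 i) (FPL_s9_223 i) (Nat.beq (Nat.land (Nat.shiftRight i 8) 1) 0)
noncomputable def FPL_s8_224 (i : Nat) : Nat := Bool.rec (motive := fun _ => Nat) (FPL_s9_480 i) (FPL_s9_224 i) (Nat.beq (Nat.land (Nat.shiftRight i 8) 1) 0)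
noncomputable def FPL_s8_225 (i : Nat) : Nat := Bool.rec (motive := fun _ => Nat) (FPL_s9_481 i) (FPL_s9_225 i) (Nat.beq (Nat.land (Nat.shiftRight i 8) 1) 0)
noncomputable def FPL_s8_226 (i : Nat) : Nat := Bool.rec (motive := fun _ => Nat) (FPL_s9_482 i) (FPL_s9_226 i) (Nat.beq (Nat.land (Nat.shiftRight i 8) 1) 0)
noncomputable def FPL_s8_227 (i : Nat) : Nat := Bool.rec (motive := fun _ => Nat) (FPL_s9_483 i) (FPL_s9_227 i) (Nat.beq (Nat.land (Nat.shiftRight i 8) 1) 0)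
noncomputable def FPL_s8_228 (i : Nat) : Nat := Bool.rec (motive := fun _ => Nat) (FPL_s9_484 i) (FPL_s9_228 i) (Nat.beq (Nat.land (Nat.shiftRight i 8) 1) 0)
noncomputable def FPL_s8_229 (i : Nat) : Nat := Bool.rec (motive := fun _ => Nat) (FPL_s9_485 i) (FPL_s9_229 i) (Nat.beq (Nat.land (Nat.shiftRight i 8) 1) 0)
noncomputable def FPL_s8_230 (i : Nat) : Nat := Bool.rec (motive := fun _ => Nat) (FPL_s9_486 i) (FPL_s9_230 i) (Nat.beq (Nat.land (Nat.shiftRight i 8) 1) 0)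
noncomputable def FPL_s8_231 (i : Nat) : Nat := Bool.rec (motive := fun _ => Nat) (FPL_s9_487 i) (FPL_s9_231 i) (Nat.beq (Nat.land (Nat.shiftRight i 8) 1) 0)
noncomputable def FPL_s8_232 (i : Nat) : Nat := Bool.rec (motive := fun _ => Nat) (FPL_s9_488 i) (FPL_s9_232 i) (Nat.beq (Nat.land (Nat.shiftRight i 8) 1) 0)
noncomputable def FPL_s8_233 (i : Nat) : Nat := Bool.rec (motive := fun _ => Nat) (FPL_s9_489 i) (FPL_s9_233 i) (Nat.beq (Nat.land (Nat.shiftRight i 8) 1) 0)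
noncomputable def FPL_s8_234 (i : Nat) : Nat := Bool.rec (motive := fun _ => Nat) (FPL_s9_490 i) (FPL_s9_234 i) (Nat.beq (Nat.land (Nat.shiftRight i 8) 1) 0)
noncomputable def FPL_s8_235 (i : Nat) : Nat := Bool.rec (motive := fun _ => Nat) (FPL_s9_491 i) (FPL_s9_235 i) (Nat.beq (Nat.land (Nat.shiftRight i 8) 1) 0)
noncomputable def FPL_s8_236 (i : Nat) : Nat := Bool.rec (motive := fun _ => Nat) (FPL_s9_492 i) (FPL_s9_236 i) (Nat.beq (Nat.land (Nat.shiftRight i 8) 1) 0)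
noncomputable def FPL_s8_237 (i : Nat) : Nat := Bool.rec (motive := fun _ => Nat) (FPL_s9_493 i) (FPL_s9_237 i) (Nat.beq (Nat.land (Nat.shiftRight i 8) 1) 0)
noncomputable def FPL_s8_238 (i : Nat) : Nat := Bool.rec (motive := fun _ => Nat) (FPL_s9_494 i) (FPL_s9_238 i) (Nat.beq (Nat.land (Nat.shiftRight i 8) 1) 0)
noncomputable def FPL_s8_239 (i : Nat) : Nat := Bool.rec (motive := fun _ => Nat) (FPL_s9_495 i) (FPL_s9_239 i) (Nat.beq (Nat.land (Nat.shiftRight i 8) 1) 0)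
noncomputable def FPL_s8_240 (i : Nat) : Nat := Bool.rec (motive := fun _ => Nat) (FPL_s9_496 i) (FPL_s9_240 i) (Nat.beq (Nat.land (Nat.shiftRight i 8) 1) 0)
noncomputable def FPL_s8_241 (i : Nat) : Nat := Bool.rec (motive := fun _ => Nat) (FPL_s9_497 i) (FPL_s9_241 i) (Nat.beq (Nat.land (Nat.shiftRight i 8) 1) 0)
noncomputable def FPL_s8_242 (i : Nat) : Nat := Bool.rec (motive := fun _ => Nat) (FPL_s9_498 i) (FPL_s9_242 i) (Nat.beq (Nat.land (Nat.shiftRight i 8) 1) 0)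
noncomputable def FPL_s8_243 (i : Nat) : Nat := Bool.rec (motive := fun _ => Nat) (FPL_s9_499 i) (FPL_s9_243 i) (Nat.beq (Nat.land (Nat.shiftRight i 8) 1) 0)
noncomputable def FPL_s8_244 (i : Nat) : Nat := Bool.rec (motive := fun _ => Nat) (FPL_s9_500 i) (FPL_s9_244 i) (Nat.beq (Nat.land (Nat.shiftRight i 8) 1) 0)
noncomputable def FPL_s8_245 (i : Nat) : Nat := Bool.rec (motive := fun _ => Nat) (FPL_s9_501 i) (FPL_s9_245 i) (Nat.beq (Nat.land (Nat.shiftRight i 8) 1) 0)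
noncomputable def FPL_s8_246 (i : Nat) : Nat := Bool.rec (motive := fun _ => Nat) (FPL_s9_502 i) (FPL_s9_246 i) (Nat.beq (Nat.land (Nat.shiftRight i 8) 1) 0)
noncomputable def FPL_s8_247 (i : Nat) : Nat := Bool.rec (motive := fun _ => Nat) (FPL_s9_503 i) (FPL_s9_247 i) (Nat.beq (Nat.land (Nat.shiftRight i 8) 1) 0)
noncomputable def FPL_s8_248 (i : Nat) : Nat := Bool.rec (motive := fun _ => Nat) (FPL_s9_504 i) (FPL_s9_248 i) (Nat.beq (Nat.land (Nat.shiftRight i 8) 1) 0)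
noncomputable def FPL_s8_249 (i : Nat) : Nat := Bool.rec (motive := fun _ => Nat) (FPL_s9_505 i) (FPL_s9_249 i) (Nat.beq (Nat.land (Nat.shiftRight i 8) 1) 0)
noncomputable def FPL_s8_250 (i : Nat) : Nat := Bool.rec (motive := fun _ => Nat) (FPL_s9_506 i) (FPL_s9_250 i) (Nat.beq (Nat.land (Nat.shiftRight i 8) 1) 0)
noncomputable def FPL_s8_251 (i : Nat) : Nat := Bool.rec (motive := fun _ => Nat) (FPL_s9_507 i) (FPL_s9_251 i) (Nat.beq (Nat.land (Nat.shiftRight i 8) 1) 0)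
noncomputable def FPL_s8_252 (i : Nat) : Nat := Bool.rec (motive := fun _ => Nat) (FPL_s9_508 i) (FPL_s9_252 i) (Nat.beq (Nat.land (Nat.shiftRight i 8) 1) 0)
noncomputable def FPL_s8_253 (i : Nat) : Nat := Bool.rec (motive := fun _ => Nat) (FPL_s9_509 i) (FPL_s9_253 i) (Nat.beq (Nat.land (Nat.shiftRight i 8) 1) 0)
noncomputable def FPL_s8_254 (i : Nat) : Nat := Bool.rec (motive := fun _ => Nat) (FPL_s9_510 i) (FPL_s9_254 i) (Nat.beq (Nat.land (Nat.shiftRight i 8) 1) 0)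
noncomputable def FPL_s8_255 (i : Nat) : Nat := Bool.rec (motive := fun _ => Nat) (FPL_s9_511 i) (FPL_s9_255 i) (Nat.beq (Nat.land (Nat.shiftRight i 8) 1) 0)
noncomputable def FPL_s7_0 (i : Nat) : Nat := Bool.rec (motive := fun _ => Nat) (FPL_s8_128 i) (FPL_s8_0 i) (Nat.beq (Nat.land (Nat.shiftRight i 7) 1) 0)
noncomputable def FPL_s7_1 (i : Nat) : Nat := Bool.rec (motive := fun _ => Nat) (FPL_s8_129 i) (FPL_s8_1 i) (Nat.beq (Nat.land (Nat.shiftRight i 7) 1) 0)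
noncomputable def FPL_s7_2 (i : Nat) : Nat := Bool.rec (motive := fun _ => Nat) (FPL_s8_130 i) (FPL_s8_2 i) (Nat.beq (Nat.land (Nat.shiftRight i 7) 1) 0)
noncomputable def FPL_s7_3 (i : Nat) : Nat := Bool.rec (motive := fun _ => Nat) (FPL_s8_131 i) (FPL_s8_3 i) (Nat.beq (Nat.land (Nat.shiftRight i 7) 1) 0)
noncomputable def FPL_s7_4 (i : Nat) : Nat := Bool.rec (motive := fun _ => Nat) (FPL_s8_132 i) (FPL_s8_4 i) (Nat.beq (Nat.land (Nat.shiftRight i 7) 1) 0)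
noncomputable def FPL_s7_5 (i : Nat) : Nat := Bool.rec (motive := fun _ => Nat) (FPL_s8_133 i) (FPL_s8_5 i) (Nat.beq (Nat.land (Nat.shiftRight i 7) 1) 0)
noncomputable def FPL_s7_6 (i : Nat) : Nat := Bool.rec (motive := fun _ => Nat) (FPL_s8_134 i) (FPL_s8_6 i) (Nat.beq (Nat.land (Nat.shiftRight i 7) 1) 0)
noncomputable def FPL_s7_7 (i : Nat) : Nat := Bool.rec (motive := fun _ => Nat) (FPL_s8_135 i) (FPL_s8_7 i) (Nat.beq (Nat.land (Nat.shiftRight i 7) 1) 0)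
noncomputable def FPL_s7_8 (i : Nat) : Nat := Bool.rec (motive := fun _ => Nat) (FPL_s8_136 i) (FPL_s8_8 i) (Nat.beq (Nat.land (Nat.shiftRight i 7) 1) 0)
noncomputable def FPL_s7_9 (i : Nat) : Nat := Bool.rec (motive := fun _ => Nat) (FPL_s8_137 i) (FPL_s8_9 i) (Nat.beq (Nat.land (Nat.shiftRight i 7) 1) 0)
noncomputable def FPL_s7_10 (i : Nat) : Nat := Bool.rec (motive := fun _ => Nat) (FPL_s8_138 i) (FPL_s8_10 i) (Nat.beq (Nat.land (Nat.shiftRight i 7) 1) 0)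
noncomputable def FPL_s7_11 (i : Nat) : Nat := Bool.rec (motive := fun _ => Nat) (FPL_s8_139 i) (FPL_s8_11 i) (Nat.beq (Nat.land (Nat.shiftRight i 7) 1) 0)
noncomputable def FPL_s7_12 (i : Nat) : Nat := Bool.rec (motive := fun _ => Nat) (FPL_s8_140 i) (FPL_s8_12 i) (Nat.beq (Nat.land (Nat.shiftRight i 7) 1) 0)
noncomputable def FPL_s7_13 (i : Nat) : Nat := Bool.rec (motive := fun _ => Nat) (FPL_s8_141 i) (FPL_s8_13 i) (Nat.beq (Nat.land (Nat.shiftRight i 7) 1) 0)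
noncomputable def FPL_s7_14 (i : Nat) : Nat := Bool.rec (motive := fun _ => Nat) (FPL_s8_142 i) (FPL_s8_14 i) (Nat.beq (Nat.land (Nat.shiftRight i 7) 1) 0)
noncomputable def FPL_s7_15 (i : Nat) : Nat := Bool.rec (motive := fun _ => Nat) (FPL_s8_143 i) (FPL_s8_15 i) (Nat.beq (Nat.land (Nat.shiftRight i 7) 1) 0)
noncomputable def FPL_s7_16 (i : Nat) : Nat := Bool.rec (motive := fun _ => Nat) (FPL_s8_144 i) (FPL_s8_16 i) (Nat.beq (Nat.land (Nat.shiftRight i 7) 1) 0)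
noncomputable def FPL_s7_17 (i : Nat) : Nat := Bool.rec (motive := fun _ => Nat) (FPL_s8_145 i) (FPL_s8_17 i) (Nat.beq (Nat.land (Nat.shiftRight i 7) 1) 0)
noncomputable def FPL_s7_18 (i : Nat) : Nat := Bool.rec (motive := fun _ => Nat) (FPL_s8_146 i) (FPL_s8_18 i) (Nat.beq (Nat.land (Nat.shiftRight i 7) 1) 0)
noncomputable def FPL_s7_19 (i : Nat) : Nat := Bool.rec (motive := fun _ => Nat) (FPL_s8_147 i) (FPL_s8_19 i) (Nat.beq (Nat.land (Nat.shiftRight i 7) 1) 0)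
noncomputable def FPL_s7_20 (i : Nat) : Nat := Bool.rec (motive := fun _ => Nat) (FPL_s8_148 i) (FPL_s8_20 i) (Nat.beq (Nat.land (Nat.shiftRight i 7) 1) 0)
noncomputable def FPL_s7_21 (i : Nat) : Nat := Bool.rec (motive := fun _ => Nat) (FPL_s8_149 i) (FPL_s8_21 i) (Nat.beq (Nat.land (Nat.shiftRight i 7) 1) 0)
noncomputable def FPL_s7_22 (i : Nat) : Nat := Bool.rec (motive := fun _ => Nat) (FPL_s8_150 i) (FPL_s8_22 i) (Nat.beq (Nat.land (Nat.shiftRight i 7) 1) 0)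
noncomputable def FPL_s7_23 (i : Nat) : Nat := Bool.rec (motive := fun _ => Nat) (FPL_s8_151 i) (FPL_s8_23 i) (Nat.beq (Nat.land (Nat.shiftRight i 7) 1) 0)
noncomputable def FPL_s7_24 (i : Nat) : Nat := Bool.rec (motive := fun _ => Nat) (FPL_s8_152 i) (FPL_s8_24 i) (Nat.beq (Nat.land (Nat.shiftRight i 7) 1) 0)
noncomputable def FPL_s7_25 (i : Nat) : Nat := Bool.rec (motive := fun _ => Nat) (FPL_s8_153 i) (FPL_s8_25 i) (Nat.beq (Nat.land (Nat.shiftRight i 7) 1) 0)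
noncomputable def FPL_s7_26 (i : Nat) : Nat := Bool.rec (motive := fun _ => Nat) (FPL_s8_154 i) (FPL_s8_26 i) (Nat.beq (Nat.land (Nat.shiftRight i 7) 1) 0)
noncomputable def FPL_s7_27 (i : Nat) : Nat := Bool.rec (motive := fun _ => Nat) (FPL_s8_155 i) (FPL_s8_27 i) (Nat.beq (Nat.land (Nat.shiftRight i 7) 1) 0)
noncomputable def FPL_s7_28 (i : Nat) : Nat := Bool.rec (motive := fun _ => Nat) (FPL_s8_156 i) (FPL_s8_28 i) (Nat.beq (Nat.land (Nat.shiftRight i 7) 1) 0)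
noncomputable def FPL_s7_29 (i : Nat) : Nat := Bool.rec (motive := fun _ => Nat) (FPL_s8_157 i) (FPL_s8_29 i) (Nat.beq (Nat.land (Nat.shiftRight i 7) 1) 0)
noncomputable def FPL_s7_30 (i : Nat) : Nat := Bool.rec (motive := fun _ => Nat) (FPL_s8_158 i) (FPL_s8_30 i) (Nat.beq (Nat.land (Nat.shiftRight i 7) 1) 0)
noncomputable def FPL_s7_31 (i : Nat) : Nat := Bool.rec (motive := fun _ => Nat) (FPL_s8_159 i) (FPL_s8_31 i) (Nat.beq (Nat.land (Nat.shiftRight i 7) 1) 0)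
noncomputable def FPL_s7_32 (i : Nat) : Nat := Bool.rec (motive := fun _ => Nat) (FPL_s8_160 i) (FPL_s8_32 i) (Nat.beq (Nat.land (Nat.shiftRight i 7) 1) 0)
noncomputable def FPL_s7_33 (i : Nat) : Nat := Bool.rec (motive := fun _ => Nat) (FPL_s8_161 i) (FPL_s8_33 i) (Nat.beq (Nat.land (Nat.shiftRight i 7) 1) 0)
noncomputable def FPL_s7_34 (i : Nat) : Nat := Bool.rec (motive := fun _ => Nat) (FPL_s8_162 i) (FPL_s8_34 i) (Nat.beq (Nat.land (Nat.shiftRight i 7) 1) 0)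
noncomputable def FPL_s7_35 (i : Nat) : Nat := Bool.rec (motive := fun _ => Nat) (FPL_s8_163 i) (FPL_s8_35 i) (Nat.beq (Nat.land (Nat.shiftRight i 7) 1) 0)
noncomputable def FPL_s7_36 (i : Nat) : Nat := Bool.rec (motive := fun _ => Nat) (FPL_s8_164 i) (FPL_s8_36 i) (Nat.beq (Nat.land (Nat.shiftRight i 7) 1) 0)
noncomputable def FPL_s7_37 (i : Nat) : Nat := Bool.rec (motive := fun _ => Nat) (FPL_s8_165 i) (FPL_s8_37 i) (Nat.beq (Nat.land (Nat.shiftRight i 7) 1) 0)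
noncomputable def FPL_s7_38 (i : Nat) : Nat := Bool.rec (motive := fun _ => Nat) (FPL_s8_166 i) (FPL_s8_38 i) (Nat.beq (Nat.land (Nat.shiftRight i 7) 1) 0)
noncomputable def FPL_s7_39 (i : Nat) : Nat := Bool.rec (motive := fun _ => Nat) (FPL_s8_167 i) (FPL_s8_39 i) (Nat.beq (Nat.land (Nat.shiftRight i 7) 1) 0)
noncomputable def FPL_s7_40 (i : Nat) : Nat := Bool.rec (motive := fun _ => Nat) (FPL_s8_168 i) (FPL_s8_40 i) (Nat.beq (Nat.land (Nat.shiftRight i 7) 1) 0)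
noncomputable def FPL_s7_41 (i : Nat) : Nat := Bool.rec (motive := fun _ => Nat) (FPL_s8_169 i) (FPL_s8_41 i) (Nat.beq (Nat.land (Nat.shiftRight i 7) 1) 0)
noncomputable def FPL_s7_42 (i : Nat) : Nat := Bool.rec (motive := fun _ => Nat) (FPL_s8_170 i) (FPL_s8_42 i) (Nat.beq (Nat.land (Nat.shiftRight i 7) 1) 0)
noncomputable def FPL_s7_43 (i : Nat) : Nat := Bool.rec (motive := fun _ => Nat) (FPL_s8_171 i) (FPL_s8_43 i) (Nat.beq (Nat.land (Nat.shiftRight i 7) 1) 0)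
noncomputable def FPL_s7_44 (i : Nat) : Nat := Bool.rec (motive := fun _ => Nat) (FPL_s8_172 i) (FPL_s8_44 i) (Nat.beq (Nat.land (Nat.shiftRight i 7) 1) 0)
noncomputable def FPL_s7_45 (i : Nat) : Nat := Bool.rec (motive := fun _ => Nat) (FPL_s8_173 i) (FPL_s8_45 i) (Nat.beq (Nat.land (Nat.shiftRight i 7) 1) 0)
noncomputable def FPL_s7_46 (i : Nat) : Nat := Bool.rec (motive := fun _ => Nat) (FPL_s8_174 i) (FPL_s8_46 i) (Nat.beq (Nat.land (Nat.shiftRight i 7) 1) 0)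
noncomputable def FPL_s7_47 (i : Nat) : Nat := Bool.rec (motive := fun _ => Nat) (FPL_s8_175 i) (FPL_s8_47 i) (Nat.beq (Nat.land (Nat.shiftRight i 7) 1) 0)
noncomputable def FPL_s7_48 (i : Nat) : Nat := Bool.rec (motive := fun _ => Nat) (FPL_s8_176 i) (FPL_s8_48 i) (Nat.beq (Nat.land (Nat.shiftRight i 7) 1) 0)
noncomputable def FPL_s7_49 (i : Nat) : Nat := Bool.rec (motive := fun _ => Nat) (FPL_s8_177 i) (FPL_s8_49 i) (Nat.beq (Nat.land (Nat.shiftRight i 7) 1) 0)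
noncomputable def FPL_s7_50 (i : Nat) : Nat := Bool.rec (motive := fun _ => Nat) (FPL_s8_178 i) (FPL_s8_50 i) (Nat.beq (Nat.land (Nat.shiftRight i 7) 1) 0)
noncomputable def FPL_s7_51 (i : Nat) : Nat := Bool.rec (motive := fun _ => Nat) (FPL_s8_179 i) (FPL_s8_51 i) (Nat.beq (Nat.land (Nat.shiftRight i 7) 1) 0)
noncomputable def FPL_s7_52 (i : Nat) : Nat := Bool.rec (motive := fun _ => Nat) (FPL_s8_180 i) (FPL_s8_52 i) (Nat.beq (Nat.land (Nat.shiftRight i 7) 1) 0)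
noncomputable def FPL_s7_53 (i : Nat) : Nat := Bool.rec (motive := fun _ => Nat) (FPL_s8_181 i) (FPL_s8_53 i) (Nat.beq (Nat.land (Nat.shiftRight i 7) 1) 0)
noncomputable def FPL_s7_54 (i : Nat) : Nat := Bool.rec (motive := fun _ => Nat) (FPL_s8_182 i) (FPL_s8_54 i) (Nat.beq (Nat.land (Nat.shiftRight i 7) 1) 0)
noncomputable def FPL_s7_55 (i : Nat) : Nat := Bool.rec (motive := fun _ => Nat) (FPL_s8_183 i) (FPL_s8_55 i) (Nat.beq (Nat.land (Nat.shiftRight i 7) 1) 0)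
noncomputable def FPL_s7_56 (i : Nat) : Nat := Bool.rec (motive := fun _ => Nat) (FPL_s8_184 i) (FPL_s8_56 i) (Nat.beq (Nat.land (Nat.shiftRight i 7) 1) 0)
noncomputable def FPL_s7_57 (i : Nat) : Nat := Bool.rec (motive := fun _ => Nat) (FPL_s8_185 i) (FPL_s8_57 i) (Nat.beq (Nat.land (Nat.shiftRight i 7) 1) 0)
noncomputable def FPL_s7_58 (i : Nat) : Nat := Bool.rec (motive := fun _ => Nat) (FPL_s8_186 i) (FPL_s8_58 i) (Nat.beq (Nat.land (Nat.shiftRight i 7) 1) 0)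
noncomputable def FPL_s7_59 (i : Nat) : Nat := Bool.rec (motive := fun _ => Nat) (FPL_s8_187 i) (FPL_s8_59 i) (Nat.beq (Nat.land (Nat.shiftRight i 7) 1) 0)
noncomputable def FPL_s7_60 (i : Nat) : Nat := Bool.rec (motive := fun _ => Nat) (FPL_s8_188 i) (FPL_s8_60 i) (Nat.beq (Nat.land (Nat.shiftRight i 7) 1) 0)
noncomputable def FPL_s7_61 (i : Nat) : Nat := Bool.rec (motive := fun _ => Nat) (FPL_s8_189 i) (FPL_s8_61 i) (Nat.beq (Nat.land (Nat.shiftRight i 7) 1) 0)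
noncomputable def FPL_s7_62 (i : Nat) : Nat := Bool.rec (motive := fun _ => Nat) (FPL_s8_190 i) (FPL_s8_62 i) (Nat.beq (Nat.land (Nat.shiftRight i 7) 1) 0)
noncomputable def FPL_s7_63 (i : Nat) : Nat := Bool.rec (motive := fun _ => Nat) (FPL_s8_191 i) (FPL_s8_63 i) (Nat.beq (Nat.land (Nat.shiftRight i 7) 1) 0)
noncomputable def FPL_s7_64 (i : Nat) : Nat := Bool.rec (motive := fun _ => Nat) (FPL_s8_192 i) (FPL_s8_64 i) (Nat.beq (Nat.land (Nat.shiftRight i 7) 1) 0)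
noncomputable def FPL_s7_65 (i : Nat) : Nat := Bool.rec (motive := fun _ => Nat) (FPL_s8_193 i) (FPL_s8_65 i) (Nat.beq (Nat.land (Nat.shiftRight i 7) 1) 0)
noncomputable def FPL_s7_66 (i : Nat) : Nat := Bool.rec (motive := fun _ => Nat) (FPL_s8_194 i) (FPL_s8_66 i) (Nat.beq (Nat.land (Nat.shiftRight i 7) 1) 0)
noncomputable def FPL_s7_67 (i : Nat) : Nat := Bool.rec (motive := fun _ => Nat) (FPL_s8_195 i) (FPL_s8_67 i) (Nat.beq (Nat.land (Nat.shiftRight i 7) 1) 0)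
noncomputable def FPL_s7_68 (i : Nat) : Nat := Bool.rec (motive := fun _ => Nat) (FPL_s8_196 i) (FPL_s8_68 i) (Nat.beq (Nat.land (Nat.shiftRight i 7) 1) 0)
noncomputable def FPL_s7_69 (i : Nat) : Nat := Bool.rec (motive := fun _ => Nat) (FPL_s8_197 i) (FPL_s8_69 i) (Nat.beq (Nat.land (Nat.shiftRight i 7) 1) 0)
noncomputable def FPL_s7_70 (i : Nat) : Nat := Bool.rec (motive := fun _ => Nat) (FPL_s8_198 i) (FPL_s8_70 i) (Nat.beq (Nat.land (Nat.shiftRight i 7) 1) 0)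
noncomputable def FPL_s7_71 (i : Nat) : Nat := Bool.rec (motive := fun _ => Nat) (FPL_s8_199 i) (FPL_s8_71 i) (Nat.beq (Nat.land (Nat.shiftRight i 7) 1) 0)
noncomputable def FPL_s7_72 (i : Nat) : Nat := Bool.rec (motive := fun _ => Nat) (FPL_s8_200 i) (FPL_s8_72 i) (Nat.beq (Nat.land (Nat.shiftRight i 7) 1) 0)
noncomputable def FPL_s7_73 (i : Nat) : Nat := Bool.rec (motive := fun _ => Nat) (FPL_s8_201 i) (FPL_s8_73 i) (Nat.beq (Nat.land (Nat.shiftRight i 7) 1) 0)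
noncomputable def FPL_s7_74 (i : Nat) : Nat := Bool.rec (motive := fun _ => Nat) (FPL_s8_202 i) (FPL_s8_74 i) (Nat.beq (Nat.land (Nat.shiftRight i 7) 1) 0)
noncomputable def FPL_s7_75 (i : Nat) : Nat := Bool.rec (motive := fun _ => Nat) (FPL_s8_203 i) (FPL_s8_75 i) (Nat.beq (Nat.land (Nat.shiftRight i 7) 1) 0)
noncomputable def FPL_s7_76 (i : Nat) : Nat := Bool.rec (motive := fun _ => Nat) (FPL_s8_204 i) (FPL_s8_76 i) (Nat.beq (Nat.land (Nat.shiftRight i 7) 1) 0)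
noncomputable def FPL_s7_77 (i : Nat) : Nat := Bool.rec (motive := fun _ => Nat) (FPL_s8_205 i) (FPL_s8_77 i) (Nat.beq (Nat.land (Nat.shiftRight i 7) 1) 0)
noncomputable def FPL_s7_78 (i : Nat) : Nat := Bool.rec (motive := fun _ => Nat) (FPL_s8_206 i) (FPL_s8_78 i) (Nat.beq (Nat.land (Nat.shiftRight i 7) 1) 0)
noncomputable def FPL_s7_79 (i : Nat) : Nat := Bool.rec (motive := fun _ => Nat) (FPL_s8_207 i) (FPL_s8_79 i) (Nat.beq (Nat.land (Nat.shiftRight i 7) 1) 0)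
noncomputable def FPL_s7_80 (i : Nat) : Nat := Bool.rec (motive := fun _ => Nat) (FPL_s8_208 i) (FPL_s8_80 i) (Nat.beq (Nat.land (Nat.shiftRight i 7) 1) 0)
noncomputable def FPL_s7_81 (i : Nat) : Nat := Bool.rec (motive := fun _ => Nat) (FPL_s8_209 i) (FPL_s8_81 i) (Nat.beq (Nat.land (Nat.shiftRight i 7) 1) 0)
noncomputable def FPL_s7_82 (i : Nat) : Nat := Bool.rec (motive := fun _ => Nat) (FPL_s8_210 i) (FPL_s8_82 i) (Nat.beq (Nat.land (Nat.shiftRight i 7) 1) 0)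
noncomputable def FPL_s7_83 (i : Nat) : Nat := Bool.rec (motive := fun _ => Nat) (FPL_s8_211 i) (FPL_s8_83 i) (Nat.beq (Nat.land (Nat.shiftRight i 7) 1) 0)
noncomputable def FPL_s7_84 (i : Nat) : Nat := Bool.rec (motive := fun _ => Nat) (FPL_s8_212 i) (FPL_s8_84 i) (Nat.beq (Nat.land (Nat.shiftRight i 7) 1) 0)
noncomputable def FPL_s7_85 (i : Nat) : Nat := Bool.rec (motive := fun _ => Nat) (FPL_s8_213 i) (FPL_s8_85 i) (Nat.beq (Nat.land (Nat.shiftRight i 7) 1) 0)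
noncomputable def FPL_s7_86 (i : Nat) : Nat := Bool.rec (motive := fun _ => Nat) (FPL_s8_214 i) (FPL_s8_86 i) (Nat.beq (Nat.land (Nat.shiftRight i 7) 1) 0)
noncomputable def FPL_s7_87 (i : Nat) : Nat := Bool.rec (motive := fun _ => Nat) (FPL_s8_215 i) (FPL_s8_87 i) (Nat.beq (Nat.land (Nat.shiftRight i 7) 1) 0)
noncomputable def FPL_s7_88 (i : Nat) : Nat := Bool.rec (motive := fun _ => Nat) (FPL_s8_216 i) (FPL_s8_88 i) (Nat.beq (Nat.land (Nat.shiftRight i 7) 1) 0)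
noncomputable def FPL_s7_89 (i : Nat) : Nat := Bool.rec (motive := fun _ => Nat) (FPL_s8_217 i) (FPL_s8_89 i) (Nat.beq (Nat.land (Nat.shiftRight i 7) 1) 0)
noncomputable def FPL_s7_90 (i : Nat) : Nat := Bool.rec (motive := fun _ => Nat) (FPL_s8_218 i) (FPL_s8_90 i) (Nat.beq (Nat.land (Nat.shiftRight i 7) 1) 0)
noncomputable def FPL_s7_91 (i : Nat) : Nat := Bool.rec (motive := fun _ => Nat) (FPL_s8_219 i) (FPL_s8_91 i) (Nat.beq (Nat.land (Nat.shiftRight i 7) 1) 0)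
noncomputable def FPL_s7_92 (i : Nat) : Nat := Bool.rec (motive := fun _ => Nat) (FPL_s8_220 i) (FPL_s8_92 i) (Nat.beq (Nat.land (Nat.shiftRight i 7) 1) 0)
noncomputable def FPL_s7_93 (i : Nat) : Nat := Bool.rec (motive := fun _ => Nat) (FPL_s8_221 i) (FPL_s8_93 i) (Nat.beq (Nat.land (Nat.shiftRight i 7) 1) 0)
noncomputable def FPL_s7_94 (i : Nat) : Nat := Bool.rec (motive := fun _ => Nat) (FPL_s8_222 i) (FPL_s8_94 i) (Nat.beq (Nat.land (Nat.shiftRight i 7) 1) 0)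
noncomputable def FPL_s7_95 (i : Nat) : Nat := Bool.rec (motive := fun _ => Nat) (FPL_s8_223 i) (FPL_s8_95 i) (Nat.beq (Nat.land (Nat.shiftRight i 7) 1) 0)
noncomputable def FPL_s7_96 (i : Nat) : Nat := Bool.rec (motive := fun _ => Nat) (FPL_s8_224 i) (FPL_s8_96 i) (Nat.beq (Nat.land (Nat.shiftRight i 7) 1) 0)
noncomputable def FPL_s7_97 (i : Nat) : Nat := Bool.rec (motive := fun _ => Nat) (FPL_s8_225 i) (FPL_s8_97 i) (Nat.beq (Nat.land (Nat.shiftRight i 7) 1) 0)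
noncomputable def FPL_s7_98 (i : Nat) : Nat := Bool.rec (motive := fun _ => Nat) (FPL_s8_226 i) (FPL_s8_98 i) (Nat.beq (Nat.land (Nat.shiftRight i 7) 1) 0)
noncomputable def FPL_s7_99 (i : Nat) : Nat := Bool.rec (motive := fun _ => Nat) (FPL_s8_227 i) (FPL_s8_99 i) (Nat.beq (Nat.land (Nat.shiftRight i 7) 1) 0)
noncomputable def FPL_s7_100 (i : Nat) : Nat := Bool.rec (motive := fun _ => Nat) (FPL_s8_228 i) (FPL_s8_100 i) (Nat.beq (Nat.land (Nat.shiftRight i 7) 1) 0)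
noncomputable def FPL_s7_101 (i : Nat) : Nat := Bool.rec (motive := fun _ => Nat) (FPL_s8_229 i) (FPL_s8_101 i) (Nat.beq (Nat.land (Nat.shiftRight i 7) 1) 0)
noncomputable def FPL_s7_102 (i : Nat) : Nat := Bool.rec (motive := fun _ => Nat) (FPL_s8_230 i) (FPL_s8_102 i) (Nat.beq (Nat.land (Nat.shiftRight i 7) 1) 0)
noncomputable def FPL_s7_103 (i : Nat) : Nat := Bool.rec (motive := fun _ => Nat) (FPL_s8_231 i) (FPL_s8_103 i) (Nat.beq (Nat.land (Nat.shiftRight i 7) 1) 0)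
noncomputable def FPL_s7_104 (i : Nat) : Nat := Bool.rec (motive := fun _ => Nat) (FPL_s8_232 i) (FPL_s8_104 i) (Nat.beq (Nat.land (Nat.shiftRight i 7) 1) 0)
noncomputable def FPL_s7_105 (i : Nat) : Nat := Bool.rec (motive := fun _ => Nat) (FPL_s8_233 i) (FPL_s8_105 i) (Nat.beq (Nat.land (Nat.shiftRight i 7) 1) 0)
noncomputable def FPL_s7_106 (i : Nat) : Nat := Bool.rec (motive := fun _ => Nat) (FPL_s8_234 i) (FPL_s8_106 i) (Nat.beq (Nat.land (Nat.shiftRight i 7) 1) 0)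
noncomputable def FPL_s7_107 (i : Nat) : Nat := Bool.rec (motive := fun _ => Nat) (FPL_s8_235 i) (FPL_s8_107 i) (Nat.beq (Nat.land (Nat.shiftRight i 7) 1) 0)
noncomputable def FPL_s7_108 (i : Nat) : Nat := Bool.rec (motive := fun _ => Nat) (FPL_s8_236 i) (FPL_s8_108 i) (Nat.beq (Nat.land (Nat.shiftRight i 7) 1) 0)
noncomputable def FPL_s7_109 (i : Nat) : Nat := Bool.rec (motive := fun _ => Nat) (FPL_s8_237 i) (FPL_s8_109 i) (Nat.beq (Nat.land (Nat.shiftRight i 7) 1) 0)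
noncomputable def FPL_s7_110 (i : Nat) : Nat := Bool.rec (motive := fun _ => Nat) (FPL_s8_238 i) (FPL_s8_110 i) (Nat.beq (Nat.land (Nat.shiftRight i 7) 1) 0)
noncomputable def FPL_s7_111 (i : Nat) : Nat := Bool.rec (motive := fun _ => Nat) (FPL_s8_239 i) (FPL_s8_111 i) (Nat.beq (Nat.land (Nat.shiftRight i 7) 1) 0)
noncomputable def FPL_s7_112 (i : Nat) : Nat := Bool.rec (motive := fun _ => Nat) (FPL_s8_240 i) (FPL_s8_112 i) (Nat.beq (Nat.land (Nat.shiftRight i 7) 1) 0)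
noncomputable def FPL_s7_113 (i : Nat) : Nat := Bool.rec (motive := fun _ => Nat) (FPL_s8_241 i) (FPL_s8_113 i) (Nat.beq (Nat.land (Nat.shiftRight i 7) 1) 0)
noncomputable def FPL_s7_114 (i : Nat) : Nat := Bool.rec (motive := fun _ => Nat) (FPL_s8_242 i) (FPL_s8_114 i) (Nat.beq (Nat.land (Nat.shiftRight i 7) 1) 0)
noncomputable def FPL_s7_115 (i : Nat) : Nat := Bool.rec (motive := fun _ => Nat) (FPL_s8_243 i) (FPL_s8_115 i) (Nat.beq (Nat.land (Nat.shiftRight i 7) 1) 0)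
noncomputable def FPL_s7_116 (i : Nat) : Nat := Bool.rec (motive := fun _ => Nat) (FPL_s8_244 i) (FPL_s8_116 i) (Nat.beq (Nat.land (Nat.shiftRight i 7) 1) 0)
noncomputable def FPL_s7_117 (i : Nat) : Nat := Bool.rec (motive := fun _ => Nat) (FPL_s8_245 i) (FPL_s8_117 i) (Nat.beq (Nat.land (Nat.shiftRight i 7) 1) 0)
noncomputable def FPL_s7_118 (i : Nat) : Nat := Bool.rec (motive := fun _ => Nat) (FPL_s8_246 i) (FPL_s8_118 i) (Nat.beq (Nat.land (Nat.shiftRight i 7) 1) 0)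
noncomputable def FPL_s7_119 (i : Nat) : Nat := Bool.rec (motive := fun _ => Nat) (FPL_s8_247 i) (FPL_s8_119 i) (Nat.beq (Nat.land (Nat.shiftRight i 7) 1) 0)
noncomputable def FPL_s7_120 (i : Nat) : Nat := Bool.rec (motive := fun _ => Nat) (FPL_s8_248 i) (FPL_s8_120 i) (Nat.beq (Nat.land (Nat.shiftRight i 7) 1) 0)
noncomputable def FPL_s7_121 (i : Nat) : Nat := Bool.rec (motive := fun _ => Nat) (FPL_s8_249 i) (FPL_s8_121 i) (Nat.beq (Nat.land (Nat.shiftRight i 7) 1) 0)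
noncomputable def FPL_s7_122 (i : Nat) : Nat := Bool.rec (motive := fun _ => Nat) (FPL_s8_250 i) (FPL_s8_122 i) (Nat.beq (Nat.land (Nat.shiftRight i 7) 1) 0)
noncomputable def FPL_s7_123 (i : Nat) : Nat := Bool.rec (motive := fun _ => Nat) (FPL_s8_251 i) (FPL_s8_123 i) (Nat.beq (Nat.land (Nat.shiftRight i 7) 1) 0)
noncomputable def FPL_s7_124 (i : Nat) : Nat := Bool.rec (motive := fun _ => Nat) (FPL_s8_252 i) (FPL_s8_124 i) (Nat.beq (Nat.land (Nat.shiftRight i 7) 1) 0)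
noncomputable def FPL_s7_125 (i : Nat) : Nat := Bool.rec (motive := fun _ => Nat) (FPL_s8_253 i) (FPL_s8_125 i) (Nat.beq (Nat.land (Nat.shiftRight i 7) 1) 0)
noncomputable def FPL_s7_126 (i : Nat) : Nat := Bool.rec (motive := fun _ => Nat) (FPL_s8_254 i) (FPL_s8_126 i) (Nat.beq (Nat.land (Nat.shiftRight i 7) 1) 0)
noncomputable def FPL_s7_127 (i : Nat) : Nat := Bool.rec (motive := fun _ => Nat) (FPL_s8_255 i) (FPL_s8_127 i) (Nat.beq (Nat.land (Nat.shiftRight i 7) 1) 0)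
noncomputable def FPL_s6_0 (i : Nat) : Nat := Bool.rec (motive := fun _ => Nat) (FPL_s7_64 i) (FPL_s7_0 i) (Nat.beq (Nat.land (Nat.shiftRight i 6) 1) 0)
noncomputable def FPL_s6_1 (i : Nat) : Nat := Bool.rec (motive := fun _ => Nat) (FPL_s7_65 i) (FPL_s7_1 i) (Nat.beq (Nat.land (Nat.shiftRight i 6) 1) 0)
noncomputable def FPL_s6_2 (i : Nat) : Nat := Bool.rec (motive := fun _ => Nat) (FPL_s7_66 i) (FPL_s7_2 i) (Nat.beq (Nat.land (Nat.shiftRight i 6) 1) 0)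
noncomputable def FPL_s6_3 (i : Nat) : Nat := Bool.rec (motive := fun _ => Nat) (FPL_s7_67 i) (FPL_s7_3 i) (Nat.beq (Nat.land (Nat.shiftRight i 6) 1) 0)
noncomputable def FPL_s6_4 (i : Nat) : Nat := Bool.rec (motive := fun _ => Nat) (FPL_s7_68 i) (FPL_s7_4 i) (Nat.beq (Nat.land (Nat.shiftRight i 6) 1) 0)
noncomputable def FPL_s6_5 (i : Nat) : Nat := Bool.rec (motive := fun _ => Nat) (FPL_s7_69 i) (FPL_s7_5 i) (Nat.beq (Nat.land (Nat.shiftRight i 6) 1) 0)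
noncomputable def FPL_s6_6 (i : Nat) : Nat := Bool.rec (motive := fun _ => Nat) (FPL_s7_70 i) (FPL_s7_6 i) (Nat.beq (Nat.land (Nat.shiftRight i 6) 1) 0)
noncomputable def FPL_s6_7 (i : Nat) : Nat := Bool.rec (motive := fun _ => Nat) (FPL_s7_71 i) (FPL_s7_7 i) (Nat.beq (Nat.land (Nat.shiftRight i 6) 1) 0)
noncomputable def FPL_s6_8 (i : Nat) : Nat := Bool.rec (motive := fun _ => Nat) (FPL_s7_72 i) (FPL_s7_8 i) (Nat.beq (Nat.land (Nat.shiftRight i 6) 1) 0)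
noncomputable def FPL_s6_9 (i : Nat) : Nat := Bool.rec (motive := fun _ => Nat) (FPL_s7_73 i) (FPL_s7_9 i) (Nat.beq (Nat.land (Nat.shiftRight i 6) 1) 0)
noncomputable def FPL_s6_10 (i : Nat) : Nat := Bool.rec (motive := fun _ => Nat) (FPL_s7_74 i) (FPL_s7_10 i) (Nat.beq (Nat.land (Nat.shiftRight i 6) 1) 0)
noncomputable def FPL_s6_11 (i : Nat) : Nat := Bool.rec (motive := fun _ => Nat) (FPL_s7_75 i) (FPL_s7_11 i) (Nat.beq (Nat.land (Nat.shiftRight i 6) 1) 0)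
noncomputable def FPL_s6_12 (i : Nat) : Nat := Bool.rec (motive := fun _ => Nat) (FPL_s7_76 i) (FPL_s7_12 i) (Nat.beq (Nat.land (Nat.shiftRight i 6) 1) 0)
noncomputable def FPL_s6_13 (i : Nat) : Nat := Bool.rec (motive := fun _ => Nat) (FPL_s7_77 i) (FPL_s7_13 i) (Nat.beq (Nat.land (Nat.shiftRight i 6) 1) 0)
noncomputable def FPL_s6_14 (i : Nat) : Nat := Bool.rec (motive := fun _ => Nat) (FPL_s7_78 i) (FPL_s7_14 i) (Nat.beq (Nat.land (Nat.shiftRight i 6) 1) 0)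
noncomputable def FPL_s6_15 (i : Nat) : Nat := Bool.rec (motive := fun _ => Nat) (FPL_s7_79 i) (FPL_s7_15 i) (Nat.beq (Nat.land (Nat.shiftRight i 6) 1) 0)
noncomputable def FPL_s6_16 (i : Nat) : Nat := Bool.rec (motive := fun _ => Nat) (FPL_s7_80 i) (FPL_s7_16 i) (Nat.beq (Nat.land (Nat.shiftRight i 6) 1) 0)
noncomputable def FPL_s6_17 (i : Nat) : Nat := Bool.rec (motive := fun _ => Nat) (FPL_s7_81 i) (FPL_s7_17 i) (Nat.beq (Nat.land (Nat.shiftRight i 6) 1) 0)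
noncomputable def FPL_s6_18 (i : Nat) : Nat := Bool.rec (motive := fun _ => Nat) (FPL_s7_82 i) (FPL_s7_18 i) (Nat.beq (Nat.land (Nat.shiftRight i 6) 1) 0)
noncomputable def FPL_s6_19 (i : Nat) : Nat := Bool.rec (motive := fun _ => Nat) (FPL_s7_83 i) (FPL_s7_19 i) (Nat.beq (Nat.land (Nat.shiftRight i 6) 1) 0)
noncomputable def FPL_s6_20 (i : Nat) : Nat := Bool.rec (motive := fun _ => Nat) (FPL_s7_84 i) (FPL_s7_20 i) (Nat.beq (Nat.land (Nat.shiftRight i 6) 1) 0)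
noncomputable def FPL_s6_21 (i : Nat) : Nat := Bool.rec (motive := fun _ => Nat) (FPL_s7_85 i) (FPL_s7_21 i) (Nat.beq (Nat.land (Nat.shiftRight i 6) 1) 0)
noncomputable def FPL_s6_22 (i : Nat) : Nat := Bool.rec (motive := fun _ => Nat) (FPL_s7_86 i) (FPL_s7_22 i) (Nat.beq (Nat.land (Nat.shiftRight i 6) 1) 0)
noncomputable def FPL_s6_23 (i : Nat) : Nat := Bool.rec (motive := fun _ => Nat) (FPL_s7_87 i) (FPL_s7_23 i) (Nat.beq (Nat.land (Nat.shiftRight i 6) 1) 0)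
noncomputable def FPL_s6_24 (i : Nat) : Nat := Bool.rec (motive := fun _ => Nat) (FPL_s7_88 i) (FPL_s7_24 i) (Nat.beq (Nat.land (Nat.shiftRight i 6) 1) 0)
noncomputable def FPL_s6_25 (i : Nat) : Nat := Bool.rec (motive := fun _ => Nat) (FPL_s7_89 i) (FPL_s7_25 i) (Nat.beq (Nat.land (Nat.shiftRight i 6) 1) 0)
noncomputable def FPL_s6_26 (i : Nat) : Nat := Bool.rec (motive := fun _ => Nat) (FPL_s7_90 i) (FPL_s7_26 i) (Nat.beq (Nat.land (Nat.shiftRight i 6) 1) 0)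
noncomputable def FPL_s6_27 (i : Nat) : Nat := Bool.rec (motive := fun _ => Nat) (FPL_s7_91 i) (FPL_s7_27 i) (Nat.beq (Nat.land (Nat.shiftRight i 6) 1) 0)
noncomputable def FPL_s6_28 (i : Nat) : Nat := Bool.rec (motive := fun _ => Nat) (FPL_s7_92 i) (FPL_s7_28 i) (Nat.beq (Nat.land (Nat.shiftRight i 6) 1) 0)
noncomputable def FPL_s6_29 (i : Nat) : Nat := Bool.rec (motive := fun _ => Nat) (FPL_s7_93 i) (FPL_s7_29 i) (Nat.beq (Nat.land (Nat.shiftRight i 6) 1) 0)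
noncomputable def FPL_s6_30 (i : Nat) : Nat := Bool.rec (motive := fun _ => Nat) (FPL_s7_94 i) (FPL_s7_30 i) (Nat.beq (Nat.land (Nat.shiftRight i 6) 1) 0)
noncomputable def FPL_s6_31 (i : Nat) : Nat := Bool.rec (motive := fun _ => Nat) (FPL_s7_95 i) (FPL_s7_31 i) (Nat.beq (Nat.land (Nat.shiftRight i 6) 1) 0)
noncomputable def FPL_s6_32 (i : Nat) : Nat := Bool.rec (motive := fun _ => Nat) (FPL_s7_96 i) (FPL_s7_32 i) (Nat.beq (Nat.land (Nat.shiftRight i 6) 1) 0)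
noncomputable def FPL_s6_33 (i : Nat) : Nat := Bool.rec (motive := fun _ => Nat) (FPL_s7_97 i) (FPL_s7_33 i) (Nat.beq (Nat.land (Nat.shiftRight i 6) 1) 0)
noncomputable def FPL_s6_34 (i : Nat) : Nat := Bool.rec (motive := fun _ => Nat) (FPL_s7_98 i) (FPL_s7_34 i) (Nat.beq (Nat.land (Nat.shiftRight i 6) 1) 0)
noncomputable def FPL_s6_35 (i : Nat) : Nat := Bool.rec (motive := fun _ => Nat) (FPL_s7_99 i) (FPL_s7_35 i) (Nat.beq (Nat.land (Nat.shiftRight i 6) 1) 0)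
noncomputable def FPL_s6_36 (i : Nat) : Nat := Bool.rec (motive := fun _ => Nat) (FPL_s7_100 i) (FPL_s7_36 i) (Nat.beq (Nat.land (Nat.shiftRight i 6) 1) 0)
noncomputable def FPL_s6_37 (i : Nat) : Nat := Bool.rec (motive := fun _ => Nat) (FPL_s7_101 i) (FPL_s7_37 i) (Nat.beq (Nat.land (Nat.shiftRight i 6) 1) 0)
noncomputable def FPL_s6_38 (i : Nat) : Nat := Bool.rec (motive := fun _ => Nat) (FPL_s7_102 i) (FPL_s7_38 i) (Nat.beq (Nat.land (Nat.shiftRight i 6) 1) 0)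
noncomputable def FPL_s6_39 (i : Nat) : Nat := Bool.rec (motive := fun _ => Nat) (FPL_s7_103 i) (FPL_s7_39 i) (Nat.beq (Nat.land (Nat.shiftRight i 6) 1) 0)
noncomputable def FPL_s6_40 (i : Nat) : Nat := Bool.rec (motive := fun _ => Nat) (FPL_s7_104 i) (FPL_s7_40 i) (Nat.beq (Nat.land (Nat.shiftRight i 6) 1) 0)
noncomputable def FPL_s6_41 (i : Nat) : Nat := Bool.rec (motive := fun _ => Nat) (FPL_s7_105 i) (FPL_s7_41 i) (Nat.beq (Nat.land (Nat.shiftRight i 6) 1) 0)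
noncomputable def FPL_s6_42 (i : Nat) : Nat := Bool.rec (motive := fun _ => Nat) (FPL_s7_106 i) (FPL_s7_42 i) (Nat.beq (Nat.land (Nat.shiftRight i 6) 1) 0)
noncomputable def FPL_s6_43 (i : Nat) : Nat := Bool.rec (motive := fun _ => Nat) (FPL_s7_107 i) (FPL_s7_43 i) (Nat.beq (Nat.land (Nat.shiftRight i 6) 1) 0)
noncomputable def FPL_s6_44 (i : Nat) : Nat := Bool.rec (motive := fun _ => Nat) (FPL_s7_108 i) (FPL_s7_44 i) (Nat.beq (Nat.land (Nat.shiftRight i 6) 1) 0)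
noncomputable def FPL_s6_45 (i : Nat) : Nat := Bool.rec (motive := fun _ => Nat) (FPL_s7_109 i) (FPL_s7_45 i) (Nat.beq (Nat.land (Nat.shiftRight i 6) 1) 0)
noncomputable def FPL_s6_46 (i : Nat) : Nat := Bool.rec (motive := fun _ => Nat) (FPL_s7_110 i) (FPL_s7_46 i) (Nat.beq (Nat.land (Nat.shiftRight i 6) 1) 0)
noncomputable def FPL_s6_47 (i : Nat) : Nat := Bool.rec (motive := fun _ => Nat) (FPL_s7_111 i) (FPL_s7_47 i) (Nat.beq (Nat.land (Nat.shiftRight i 6) 1) 0)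
noncomputable def FPL_s6_48 (i : Nat) : Nat := Bool.rec (motive := fun _ => Nat) (FPL_s7_112 i) (FPL_s7_48 i) (Nat.beq (Nat.land (Nat.shiftRight i 6) 1) 0)
noncomputable def FPL_s6_49 (i : Nat) : Nat := Bool.rec (motive := fun _ => Nat) (FPL_s7_113 i) (FPL_s7_49 i) (Nat.beq (Nat.land (Nat.shiftRight i 6) 1) 0)
noncomputable def FPL_s6_50 (i : Nat) : Nat := Bool.rec (motive := fun _ => Nat) (FPL_s7_114 i) (FPL_s7_50 i) (Nat.beq (Nat.land (Nat.shiftRight i 6) 1) 0)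
noncomputable def FPL_s6_51 (i : Nat) : Nat := Bool.rec (motive := fun _ => Nat) (FPL_s7_115 i) (FPL_s7_51 i) (Nat.beq (Nat.land (Nat.shiftRight i 6) 1) 0)
noncomputable def FPL_s6_52 (i : Nat) : Nat := Bool.rec (motive := fun _ => Nat) (FPL_s7_116 i) (FPL_s7_52 i) (Nat.beq (Nat.land (Nat.shiftRight i 6) 1) 0)
noncomputable def FPL_s6_53 (i : Nat) : Nat := Bool.rec (motive := fun _ => Nat) (FPL_s7_117 i) (FPL_s7_53 i) (Nat.beq (Nat.land (Nat.shiftRight i 6) 1) 0)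
noncomputable def FPL_s6_54 (i : Nat) : Nat := Bool.rec (motive := fun _ => Nat) (FPL_s7_118 i) (FPL_s7_54 i) (Nat.beq (Nat.land (Nat.shiftRight i 6) 1) 0)
noncomputable def FPL_s6_55 (i : Nat) : Nat := Bool.rec (motive := fun _ => Nat) (FPL_s7_119 i) (FPL_s7_55 i) (Nat.beq (Nat.land (Nat.shiftRight i 6) 1) 0)
noncomputable def FPL_s6_56 (i : Nat) : Nat := Bool.rec (motive := fun _ => Nat) (FPL_s7_120 i) (FPL_s7_56 i) (Nat.beq (Nat.land (Nat.shiftRight i 6) 1) 0)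
noncomputable def FPL_s6_57 (i : Nat) : Nat := Bool.rec (motive := fun _ => Nat) (FPL_s7_121 i) (FPL_s7_57 i) (Nat.beq (Nat.land (Nat.shiftRight i 6) 1) 0)
noncomputable def FPL_s6_58 (i : Nat) : Nat := Bool.rec (motive := fun _ => Nat) (FPL_s7_122 i) (FPL_s7_58 i) (Nat.beq (Nat.land (Nat.shiftRight i 6) 1) 0)
noncomputable def FPL_s6_59 (i : Nat) : Nat := Bool.rec (motive := fun _ => Nat) (FPL_s7_123 i) (FPL_s7_59 i) (Nat.beq (Nat.land (Nat.shiftRight i 6) 1) 0)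
noncomputable def FPL_s6_60 (i : Nat) : Nat := Bool.rec (motive := fun _ => Nat) (FPL_s7_124 i) (FPL_s7_60 i) (Nat.beq (Nat.land (Nat.shiftRight i 6) 1) 0)
noncomputable def FPL_s6_61 (i : Nat) : Nat := Bool.rec (motive := fun _ => Nat) (FPL_s7_125 i) (FPL_s7_61 i) (Nat.beq (Nat.land (Nat.shiftRight i 6) 1) 0)
noncomputable def FPL_s6_62 (i : Nat) : Nat := Bool.rec (motive := fun _ => Nat) (FPL_s7_126 i) (FPL_s7_62 i) (Nat.beq (Nat.land (Nat.shiftRight i 6) 1) 0)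
noncomputable def FPL_s6_63 (i : Nat) : Nat := Bool.rec (motive := fun _ => Nat) (FPL_s7_127 i) (FPL_s7_63 i) (Nat.beq (Nat.land (Nat.shiftRight i 6) 1) 0)
noncomputable def FPL_s5_0 (i : Nat) : Nat := Bool.rec (motive := fun _ => Nat) (FPL_s6_32 i) (FPL_s6_0 i) (Nat.beq (Nat.land (Nat.shiftRight i 5) 1) 0)
noncomputable def FPL_s5_1 (i : Nat) : Nat := Bool.rec (motive := fun _ => Nat) (FPL_s6_33 i) (FPL_s6_1 i) (Nat.beq (Nat.land (Nat.shiftRight i 5) 1) 0)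
noncomputable def FPL_s5_2 (i : Nat) : Nat := Bool.rec (motive := fun _ => Nat) (FPL_s6_34 i) (FPL_s6_2 i) (Nat.beq (Nat.land (Nat.shiftRight i 5) 1) 0)
noncomputable def FPL_s5_3 (i : Nat) : Nat := Bool.rec (motive := fun _ => Nat) (FPL_s6_35 i) (FPL_s6_3 i) (Nat.beq (Nat.land (Nat.shiftRight i 5) 1) 0)
noncomputable def FPL_s5_4 (i : Nat) : Nat := Bool.rec (motive := fun _ => Nat) (FPL_s6_36 i) (FPL_s6_4 i) (Nat.beq (Nat.land (Nat.shiftRight i 5) 1) 0)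
noncomputable def FPL_s5_5 (i : Nat) : Nat := Bool.rec (motive := fun _ => Nat) (FPL_s6_37 i) (FPL_s6_5 i) (Nat.beq (Nat.land (Nat.shiftRight i 5) 1) 0)
noncomputable def FPL_s5_6 (i : Nat) : Nat := Bool.rec (motive := fun _ => Nat) (FPL_s6_38 i) (FPL_s6_6 i) (Nat.beq (Nat.land (Nat.shiftRight i 5) 1) 0)
noncomputable def FPL_s5_7 (i : Nat) : Nat := Bool.rec (motive := fun _ => Nat) (FPL_s6_39 i) (FPL_s6_7 i) (Nat.beq (Nat.land (Nat.shiftRight i 5) 1) 0)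
noncomputable def FPL_s5_8 (i : Nat) : Nat := Bool.rec (motive := fun _ => Nat) (FPL_s6_40 i) (FPL_s6_8 i) (Nat.beq (Nat.land (Nat.shiftRight i 5) 1) 0)
noncomputable def FPL_s5_9 (i : Nat) : Nat := Bool.rec (motive := fun _ => Nat) (FPL_s6_41 i) (FPL_s6_9 i) (Nat.beq (Nat.land (Nat.shiftRight i 5) 1) 0)
noncomputable def FPL_s5_10 (i : Nat) : Nat := Bool.rec (motive := fun _ => Nat) (FPL_s6_42 i) (FPL_s6_10 i) (Nat.beq (Nat.land (Nat.shiftRight i 5) 1) 0)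
noncomputable def FPL_s5_11 (i : Nat) : Nat := Bool.rec (motive := fun _ => Nat) (FPL_s6_43 i) (FPL_s6_11 i) (Nat.beq (Nat.land (Nat.shiftRight i 5) 1) 0)
noncomputable def FPL_s5_12 (i : Nat) : Nat := Bool.rec (motive := fun _ => Nat) (FPL_s6_44 i) (FPL_s6_12 i) (Nat.beq (Nat.land (Nat.shiftRight i 5) 1) 0)
noncomputable def FPL_s5_13 (i : Nat) : Nat := Bool.rec (motive := fun _ => Nat) (FPL_s6_45 i) (FPL_s6_13 i) (Nat.beq (Nat.land (Nat.shiftRight i 5) 1) 0)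
noncomputable def FPL_s5_14 (i : Nat) : Nat := Bool.rec (motive := fun _ => Nat) (FPL_s6_46 i) (FPL_s6_14 i) (Nat.beq (Nat.land (Nat.shiftRight i 5) 1) 0)
noncomputable def FPL_s5_15 (i : Nat) : Nat := Bool.rec (motive := fun _ => Nat) (FPL_s6_47 i) (FPL_s6_15 i) (Nat.beq (Nat.land (Nat.shiftRight i 5) 1) 0)
noncomputable def FPL_s5_16 (i : Nat) : Nat := Bool.rec (motive := fun _ => Nat) (FPL_s6_48 i) (FPL_s6_16 i) (Nat.beq (Nat.land (Nat.shiftRight i 5) 1) 0)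
noncomputable def FPL_s5_17 (i : Nat) : Nat := Bool.rec (motive := fun _ => Nat) (FPL_s6_49 i) (FPL_s6_17 i) (Nat.beq (Nat.land (Nat.shiftRight i 5) 1) 0)
noncomputable def FPL_s5_18 (i : Nat) : Nat := Bool.rec (motive := fun _ => Nat) (FPL_s6_50 i) (FPL_s6_18 i) (Nat.beq (Nat.land (Nat.shiftRight i 5) 1) 0)
noncomputable def FPL_s5_19 (i : Nat) : Nat := Bool.rec (motive := fun _ => Nat) (FPL_s6_51 i) (FPL_s6_19 i) (Nat.beq (Nat.land (Nat.shiftRight i 5) 1) 0)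
noncomputable def FPL_s5_20 (i : Nat) : Nat := Bool.rec (motive := fun _ => Nat) (FPL_s6_52 i) (FPL_s6_20 i) (Nat.beq (Nat.land (Nat.shiftRight i 5) 1) 0)
noncomputable def FPL_s5_21 (i : Nat) : Nat := Bool.rec (motive := fun _ => Nat) (FPL_s6_53 i) (FPL_s6_21 i) (Nat.beq (Nat.land (Nat.shiftRight i 5) 1) 0)
noncomputable def FPL_s5_22 (i : Nat) : Nat := Bool.rec (motive := fun _ => Nat) (FPL_s6_54 i) (FPL_s6_22 i) (Nat.beq (Nat.land (Nat.shiftRight i 5) 1) 0)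
noncomputable def FPL_s5_23 (i : Nat) : Nat := Bool.rec (motive := fun _ => Nat) (FPL_s6_55 i) (FPL_s6_23 i) (Nat.beq (Nat.land (Nat.shiftRight i 5) 1) 0)
noncomputable def FPL_s5_24 (i : Nat) : Nat := Bool.rec (motive := fun _ => Nat) (FPL_s6_56 i) (FPL_s6_24 i) (Nat.beq (Nat.land (Nat.shiftRight i 5) 1) 0)
noncomputable def FPL_s5_25 (i : Nat) : Nat := Bool.rec (motive := fun _ => Nat) (FPL_s6_57 i) (FPL_s6_25 i) (Nat.beq (Nat.land (Nat.shiftRight i 5) 1) 0)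
noncomputable def FPL_s5_26 (i : Nat) : Nat := Bool.rec (motive := fun _ => Nat) (FPL_s6_58 i) (FPL_s6_26 i) (Nat.beq (Nat.land (Nat.shiftRight i 5) 1) 0)
noncomputable def FPL_s5_27 (i : Nat) : Nat := Bool.rec (motive := fun _ => Nat) (FPL_s6_59 i) (FPL_s6_27 i) (Nat.beq (Nat.land (Nat.shiftRight i 5) 1) 0)
noncomputable def FPL_s5_28 (i : Nat) : Nat := Bool.rec (motive := fun _ => Nat) (FPL_s6_60 i) (FPL_s6_28 i) (Nat.beq (Nat.land (Nat.shiftRight i 5) 1) 0)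
noncomputable def FPL_s5_29 (i : Nat) : Nat := Bool.rec (motive := fun _ => Nat) (FPL_s6_61 i) (FPL_s6_29 i) (Nat.beq (Nat.land (Nat.shiftRight i 5) 1) 0)
noncomputable def FPL_s5_30 (i : Nat) : Nat := Bool.rec (motive := fun _ => Nat) (FPL_s6_62 i) (FPL_s6_30 i) (Nat.beq (Nat.land (Nat.shiftRight i 5) 1) 0)
noncomputable def FPL_s5_31 (i : Nat) : Nat := Bool.rec (motive := fun _ => Nat) (FPL_s6_63 i) (FPL_s6_31 i) (Nat.beq (Nat.land (Nat.shiftRight i 5) 1) 0)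
noncomputable def FPL_s4_0 (i : Nat) : Nat := Bool.rec (motive := fun _ => Nat) (FPL_s5_16 i) (FPL_s5_0 i) (Nat.beq (Nat.land (Nat.shiftRight i 4) 1) 0)
noncomputable def FPL_s4_1 (i : Nat) : Nat := Bool.rec (motive := fun _ => Nat) (FPL_s5_17 i) (FPL_s5_1 i) (Nat.beq (Nat.land (Nat.shiftRight i 4) 1) 0)
noncomputable def FPL_s4_2 (i : Nat) : Nat := Bool.rec (motive := fun _ => Nat) (FPL_s5_18 i) (FPL_s5_2 i) (Nat.beq (Nat.land (Nat.shiftRight i 4) 1) 0)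
noncomputable def FPL_s4_3 (i : Nat) : Nat := Bool.rec (motive := fun _ => Nat) (FPL_s5_19 i) (FPL_s5_3 i) (Nat.beq (Nat.land (Nat.shiftRight i 4) 1) 0)
noncomputable def FPL_s4_4 (i : Nat) : Nat := Bool.rec (motive := fun _ => Nat) (FPL_s5_20 i) (FPL_s5_4 i) (Nat.beq (Nat.land (Nat.shiftRight i 4) 1) 0)
noncomputable def FPL_s4_5 (i : Nat) : Nat := Bool.rec (motive := fun _ => Nat) (FPL_s5_21 i) (FPL_s5_5 i) (Nat.beq (Nat.land (Nat.shiftRight i 4) 1) 0)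
noncomputable def FPL_s4_6 (i : Nat) : Nat := Bool.rec (motive := fun _ => Nat) (FPL_s5_22 i) (FPL_s5_6 i) (Nat.beq (Nat.land (Nat.shiftRight i 4) 1) 0)
noncomputable def FPL_s4_7 (i : Nat) : Nat := Bool.rec (motive := fun _ => Nat) (FPL_s5_23 i) (FPL_s5_7 i) (Nat.beq (Nat.land (Nat.shiftRight i 4) 1) 0)
noncomputable def FPL_s4_8 (i : Nat) : Nat := Bool.rec (motive := fun _ => Nat) (FPL_s5_24 i) (FPL_s5_8 i) (Nat.beq (Nat.land (Nat.shiftRight i 4) 1) 0)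
noncomputable def FPL_s4_9 (i : Nat) : Nat := Bool.rec (motive := fun _ => Nat) (FPL_s5_25 i) (FPL_s5_9 i) (Nat.beq (Nat.land (Nat.shiftRight i 4) 1) 0)
noncomputable def FPL_s4_10 (i : Nat) : Nat := Bool.rec (motive := fun _ => Nat) (FPL_s5_26 i) (FPL_s5_10 i) (Nat.beq (Nat.land (Nat.shiftRight i 4) 1) 0)
noncomputable def FPL_s4_11 (i : Nat) : Nat := Bool.rec (motive := fun _ => Nat) (FPL_s5_27 i) (FPL_s5_11 i) (Nat.beq (Nat.land (Nat.shiftRight i 4) 1) 0)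
noncomputable def FPL_s4_12 (i : Nat) : Nat := Bool.rec (motive := fun _ => Nat) (FPL_s5_28 i) (FPL_s5_12 i) (Nat.beq (Nat.land (Nat.shiftRight i 4) 1) 0)
noncomputable def FPL_s4_13 (i : Nat) : Nat := Bool.rec (motive := fun _ => Nat) (FPL_s5_29 i) (FPL_s5_13 i) (Nat.beq (Nat.land (Nat.shiftRight i 4) 1) 0)
noncomputable def FPL_s4_14 (i : Nat) : Nat := Bool.rec (motive := fun _ => Nat) (FPL_s5_30 i) (FPL_s5_14 i) (Nat.beq (Nat.land (Nat.shiftRight i 4) 1) 0)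
noncomputable def FPL_s4_15 (i : Nat) : Nat := Bool.rec (motive := fun _ => Nat) (FPL_s5_31 i) (FPL_s5_15 i) (Nat.beq (Nat.land (Nat.shiftRight i 4) 1) 0)
noncomputable def FPL_s3_0 (i : Nat) : Nat := Bool.rec (motive := fun _ => Nat) (FPL_s4_8 i) (FPL_s4_0 i) (Nat.beq (Nat.land (Nat.shiftRight i 3) 1) 0)
noncomputable def FPL_s3_1 (i : Nat) : Nat := Bool.rec (motive := fun _ => Nat) (FPL_s4_9 i) (FPL_s4_1 i) (Nat.beq (Nat.land (Nat.shiftRight i 3) 1) 0)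
noncomputable def FPL_s3_2 (i : Nat) : Nat := Bool.rec (motive := fun _ => Nat) (FPL_s4_10 i) (FPL_s4_2 i) (Nat.beq (Nat.land (Nat.shiftRight i 3) 1) 0)
noncomputable def FPL_s3_3 (i : Nat) : Nat := Bool.rec (motive := fun _ => Nat) (FPL_s4_11 i) (FPL_s4_3 i) (Nat.beq (Nat.land (Nat.shiftRight i 3) 1) 0)
noncomputable def FPL_s3_4 (i : Nat) : Nat := Bool.rec (motive := fun _ => Nat) (FPL_s4_12 i) (FPL_s4_4 i) (Nat.beq (Nat.land (Nat.shiftRight i 3) 1) 0)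
noncomputable def FPL_s3_5 (i : Nat) : Nat := Bool.rec (motive := fun _ => Nat) (FPL_s4_13 i) (FPL_s4_5 i) (Nat.beq (Nat.land (Nat.shiftRight i 3) 1) 0)
noncomputable def FPL_s3_6 (i : Nat) : Nat := Bool.rec (motive := fun _ => Nat) (FPL_s4_14 i) (FPL_s4_6 i) (Nat.beq (Nat.land (Nat.shiftRight i 3) 1) 0)
noncomputable def FPL_s3_7 (i : Nat) : Nat := Bool.rec (motive := fun _ => Nat) (FPL_s4_15 i) (FPL_s4_7 i) (Nat.beq (Nat.land (Nat.shiftRight i 3) 1) 0)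
noncomputable def FPL_s2_0 (i : Nat) : Nat := Bool.rec (motive := fun _ => Nat) (FPL_s3_4 i) (FPL_s3_0 i) (Nat.beq (Nat.land (Nat.shiftRight i 2) 1) 0)
noncomputable def FPL_s2_1 (i : Nat) : Nat := Bool.rec (motive := fun _ => Nat) (FPL_s3_5 i) (FPL_s3_1 i) (Nat.beq (Nat.land (Nat.shiftRight i 2) 1) 0)
noncomputable def FPL_s2_2 (i : Nat) : Nat := Bool.rec (motive := fun _ => Nat) (FPL_s3_6 i) (FPL_s3_2 i) (Nat.beq (Nat.land (Nat.shiftRight i 2) 1) 0)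
noncomputable def FPL_s2_3 (i : Nat) : Nat := Bool.rec (motive := fun _ => Nat) (FPL_s3_7 i) (FPL_s3_3 i) (Nat.beq (Nat.land (Nat.shiftRight i 2) 1) 0)
noncomputable def FPL_s1_0 (i : Nat) : Nat := Bool.rec (motive := fun _ => Nat) (FPL_s2_2 i) (FPL_s2_0 i) (Nat.beq (Nat.land (Nat.shiftRight i 1) 1) 0)
noncomputable def FPL_s1_1 (i : Nat) : Nat := Bool.rec (motive := fun _ => Nat) (FPL_s2_3 i) (FPL_s2_1 i) (Nat.beq (Nat.land (Nat.shiftRight i 1) 1) 0)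
noncomputable def FPL_s0_0 (i : Nat) : Nat := Bool.rec (motive := fun _ => Nat) (FPL_s1_1 i) (FPL_s1_0 i) (Nat.beq (Nat.land (Nat.shiftRight i 0) 1) 0)
noncomputable def FPL (p : Nat) : Nat :=
  Nat.land (Nat.shiftRight (FPL_s0_0 (Nat.shiftRight p 10)) (Nat.mul (Nat.land p 1023) 25)) 33554431

noncomputable def DD : Frs := ⟨1, 164688, FPL, 32, 64, 5, 593775, [1655, 140, 228, 1900]⟩

noncomputable def SPK_s3_0 (i : Nat) : Nat := Bool.rec (motive := fun _ => Nat) SPK_p8 SPK_p0 (Nat.beq (Nat.land (Nat.shiftRight i 3) 1) 0)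
noncomputable def SPK_s3_1 (i : Nat) : Nat := Bool.rec (motive := fun _ => Nat) SPK_p9 SPK_p1 (Nat.beq (Nat.land (Nat.shiftRight i 3) 1) 0)
noncomputable def SPK_s3_2 (i : Nat) : Nat := Bool.rec (motive := fun _ => Nat) SPK_p10 SPK_p2 (Nat.beq (Nat.land (Nat.shiftRight i 3) 1) 0)
noncomputable def SPK_s3_3 (i : Nat) : Nat := Bool.rec (motive := fun _ => Nat) SPK_p11 SPK_p3 (Nat.beq (Nat.land (Nat.shiftRight i 3) 1) 0)
noncomputable def SPK_s3_4 (i : Nat) : Nat := Bool.rec (motive := fun _ => Nat) SPK_p12 SPK_p4 (Nat.beq (Nat.land (Nat.shiftRight i 3) 1) 0)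
noncomputable def SPK_s3_5 (i : Nat) : Nat := Bool.rec (motive := fun _ => Nat) SPK_p13 SPK_p5 (Nat.beq (Nat.land (Nat.shiftRight i 3) 1) 0)
noncomputable def SPK_s3_6 (i : Nat) : Nat := Bool.rec (motive := fun _ => Nat) SPK_p14 SPK_p6 (Nat.beq (Nat.land (Nat.shiftRight i 3) 1) 0)
noncomputable def SPK_s3_7 (i : Nat) : Nat := Bool.rec (motive := fun _ => Nat) SPK_p15 SPK_p7 (Nat.beq (Nat.land (Nat.shiftRight i 3) 1) 0)
noncomputable def SPK_s2_0 (i : Nat) : Nat := Bool.rec (motive := fun _ => Nat) (SPK_s3_4 i) (SPK_s3_0 i) (Nat.beq (Nat.land (Nat.shiftRight i 2) 1) 0)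
noncomputable def SPK_s2_1 (i : Nat) : Nat := Bool.rec (motive := fun _ => Nat) (SPK_s3_5 i) (SPK_s3_1 i) (Nat.beq (Nat.land (Nat.shiftRight i 2) 1) 0)
noncomputable def SPK_s2_2 (i : Nat) : Nat := Bool.rec (motive := fun _ => Nat) (SPK_s3_6 i) (SPK_s3_2 i) (Nat.beq (Nat.land (Nat.shiftRight i 2) 1) 0)
noncomputable def SPK_s2_3 (i : Nat) : Nat := Bool.rec (motive := fun _ => Nat) (SPK_s3_7 i) (SPK_s3_3 i) (Nat.beq (Nat.land (Nat.shiftRight i 2) 1) 0)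
noncomputable def SPK_s1_0 (i : Nat) : Nat := Bool.rec (motive := fun _ => Nat) (SPK_s2_2 i) (SPK_s2_0 i) (Nat.beq (Nat.land (Nat.shiftRight i 1) 1) 0)
noncomputable def SPK_s1_1 (i : Nat) : Nat := Bool.rec (motive := fun _ => Nat) (SPK_s2_3 i) (SPK_s2_1 i) (Nat.beq (Nat.land (Nat.shiftRight i 1) 1) 0)
noncomputable def SPK_s0_0 (i : Nat) : Nat := Bool.rec (motive := fun _ => Nat) (SPK_s1_1 i) (SPK_s1_0 i) (Nat.beq (Nat.land (Nat.shiftRight i 0) 1) 0)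
noncomputable def SPK (p : Nat) : Nat :=
  Nat.land (Nat.shiftRight (SPK_s0_0 (Nat.shiftRight p 10)) (Nat.mul (Nat.land p 1023) 31)) 2147483647

noncomputable def SCN_s0_0 (_ : Nat) : Nat := SCN_p0
noncomputable def SCN (p : Nat) : Nat :=
  Nat.land (Nat.shiftRight (SCN_s0_0 (Nat.shiftRight p 8)) (Nat.mul (Nat.land p 255) 13)) 8191

noncomputable def WPT_s0_0 (_ : Nat) : Nat := WPT_p0
noncomputable def WPT (p : Nat) : Nat :=
  Nat.land (Nat.shiftRight (WPT_s0_0 (Nat.shiftRight p 10)) (Nat.mul (Nat.land p 1023) 12)) 4095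

noncomputable def WPI_s2_0 (i : Nat) : Nat := Bool.rec (motive := fun _ => Nat) WPI_p4 WPI_p0 (Nat.beq (Nat.land (Nat.shiftRight i 2) 1) 0)
noncomputable def WPI_s2_1 (i : Nat) : Nat := Bool.rec (motive := fun _ => Nat) WPI_p5 WPI_p1 (Nat.beq (Nat.land (Nat.shiftRight i 2) 1) 0)
noncomputable def WPI_s2_2 (i : Nat) : Nat := Bool.rec (motive := fun _ => Nat) 0 WPI_p2 (Nat.beq (Nat.land (Nat.shiftRight i 2) 1) 0)
noncomputable def WPI_s2_3 (i : Nat) : Nat := Bool.rec (motive := fun _ => Nat) 0 WPI_p3 (Nat.beq (Nat.land (Nat.shiftRight i 2) 1) 0)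
noncomputable def WPI_s1_0 (i : Nat) : Nat := Bool.rec (motive := fun _ => Nat) (WPI_s2_2 i) (WPI_s2_0 i) (Nat.beq (Nat.land (Nat.shiftRight i 1) 1) 0)
noncomputable def WPI_s1_1 (i : Nat) : Nat := Bool.rec (motive := fun _ => Nat) (WPI_s2_3 i) (WPI_s2_1 i) (Nat.beq (Nat.land (Nat.shiftRight i 1) 1) 0)
noncomputable def WPI_s0_0 (i : Nat) : Nat := Bool.rec (motive := fun _ => Nat) (WPI_s1_1 i) (WPI_s1_0 i) (Nat.beq (Nat.land (Nat.shiftRight i 0) 1) 0)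
noncomputable def WPI (p : Nat) : Nat :=
  Nat.land (Nat.shiftRight (WPI_s0_0 (Nat.shiftRight p 11)) (Nat.mul (Nat.land p 2047) 9)) 511

def sqL : List Nat := [0, 1, 1, 2, 0, 0, 0, 0, 16, 32, 320, 1024, 0, 609]
def wlL : List Nat := [0, 0, 0, 0, 1, 1, 1, 1, 1, 1, 1, 1, 2, 2]
def wsL : List Nat := [1, 2, 4, 8, 1, 2, 4, 8, 16, 32, 64, 128, 1, 2]
def wbL : List Nat := [4, 6, 0]
def wmL : List Nat := [16, 256, 4]
noncomputable def SS : PcD where
  off := 96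
  a := 14
  sq := fun k => sqL.getD k 0
  cn := SCN
  wl := fun k => wlL.getD k 0
  ws := fun k => wsL.getD k 0
  wb := fun k => wbL.getD k 0
  wpt := fun l i => WPT (Nat.add (Nat.mul l 256) i)
  wpi := fun l q => WPI (Nat.add (Nat.mul l 4060) q)
  wm := fun k => wmL.getD k 0
  lv := 3
  pk := SPK

noncomputable def OPL0_s9_0 (i : Nat) : Nat := Bool.rec (motive := fun _ => Nat) OPL0_p512 OPL0_p0 (Nat.beq (Nat.land (Nat.shiftRight i 9) 1) 0)
noncomputable def OPL0_s9_1 (i : Nat) : Nat := Bool.rec (motive := fun _ => Nat) OPL0_p513 OPL0_p1 (Nat.beq (Nat.land (Nat.shiftRight i 9) 1) 0)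
noncomputable def OPL0_s9_2 (i : Nat) : Nat := Bool.rec (motive := fun _ => Nat) OPL0_p514 OPL0_p2 (Nat.beq (Nat.land (Nat.shiftRight i 9) 1) 0)
noncomputable def OPL0_s9_3 (i : Nat) : Nat := Bool.rec (motive := fun _ => Nat) OPL0_p515 OPL0_p3 (Nat.beq (Nat.land (Nat.shiftRight i 9) 1) 0)
noncomputable def OPL0_s9_4 (i : Nat) : Nat := Bool.rec (motive := fun _ => Nat) OPL0_p516 OPL0_p4 (Nat.beq (Nat.land (Nat.shiftRight i 9) 1) 0)
noncomputable def OPL0_s9_5 (i : Nat) : Nat := Bool.rec (motive := fun _ => Nat) OPL0_p517 OPL0_p5 (Nat.beq (Nat.land (Nat.shiftRight i 9) 1) 0)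
noncomputable def OPL0_s9_6 (i : Nat) : Nat := Bool.rec (motive := fun _ => Nat) OPL0_p518 OPL0_p6 (Nat.beq (Nat.land (Nat.shiftRight i 9) 1) 0)
noncomputable def OPL0_s9_7 (i : Nat) : Nat := Bool.rec (motive := fun _ => Nat) OPL0_p519 OPL0_p7 (Nat.beq (Nat.land (Nat.shiftRight i 9) 1) 0)
noncomputable def OPL0_s9_8 (i : Nat) : Nat := Bool.rec (motive := fun _ => Nat) OPL0_p520 OPL0_p8 (Nat.beq (Nat.land (Nat.shiftRight i 9) 1) 0)
noncomputable def OPL0_s9_9 (i : Nat) : Nat := Bool.rec (motive := fun _ => Nat) OPL0_p521 OPL0_p9 (Nat.beq (Nat.land (Nat.shiftRight i 9) 1) 0)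
noncomputable def OPL0_s9_10 (i : Nat) : Nat := Bool.rec (motive := fun _ => Nat) OPL0_p522 OPL0_p10 (Nat.beq (Nat.land (Nat.shiftRight i 9) 1) 0)
noncomputable def OPL0_s9_11 (i : Nat) : Nat := Bool.rec (motive := fun _ => Nat) OPL0_p523 OPL0_p11 (Nat.beq (Nat.land (Nat.shiftRight i 9) 1) 0)
noncomputable def OPL0_s9_12 (i : Nat) : Nat := Bool.rec (motive := fun _ => Nat) OPL0_p524 OPL0_p12 (Nat.beq (Nat.land (Nat.shiftRight i 9) 1) 0)
noncomputable def OPL0_s9_13 (i : Nat) : Nat := Bool.rec (motive := fun _ => Nat) OPL0_p525 OPL0_p13 (Nat.beq (Nat.land (Nat.shiftRight i 9) 1) 0)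
noncomputable def OPL0_s9_14 (i : Nat) : Nat := Bool.rec (motive := fun _ => Nat) OPL0_p526 OPL0_p14 (Nat.beq (Nat.land (Nat.shiftRight i 9) 1) 0)
noncomputable def OPL0_s9_15 (i : Nat) : Nat := Bool.rec (motive := fun _ => Nat) OPL0_p527 OPL0_p15 (Nat.beq (Nat.land (Nat.shiftRight i 9) 1) 0)
noncomputable def OPL0_s9_16 (i : Nat) : Nat := Bool.rec (motive := fun _ => Nat) OPL0_p528 OPL0_p16 (Nat.beq (Nat.land (Nat.shiftRight i 9) 1) 0)
noncomputable def OPL0_s9_17 (i : Nat) : Nat := Bool.rec (motive := fun _ => Nat) OPL0_p529 OPL0_p17 (Nat.beq (Nat.land (Nat.shiftRight i 9) 1) 0)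
noncomputable def OPL0_s9_18 (i : Nat) : Nat := Bool.rec (motive := fun _ => Nat) OPL0_p530 OPL0_p18 (Nat.beq (Nat.land (Nat.shiftRight i 9) 1) 0)
noncomputable def OPL0_s9_19 (i : Nat) : Nat := Bool.rec (motive := fun _ => Nat) OPL0_p531 OPL0_p19 (Nat.beq (Nat.land (Nat.shiftRight i 9) 1) 0)
noncomputable def OPL0_s9_20 (i : Nat) : Nat := Bool.rec (motive := fun _ => Nat) OPL0_p532 OPL0_p20 (Nat.beq (Nat.land (Nat.shiftRight i 9) 1) 0)
noncomputable def OPL0_s9_21 (i : Nat) : Nat := Bool.rec (motive := fun _ => Nat) OPL0_p533 OPL0_p21 (Nat.beq (Nat.land (Nat.shiftRight i 9) 1) 0)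
noncomputable def OPL0_s9_22 (i : Nat) : Nat := Bool.rec (motive := fun _ => Nat) OPL0_p534 OPL0_p22 (Nat.beq (Nat.land (Nat.shiftRight i 9) 1) 0)
noncomputable def OPL0_s9_23 (i : Nat) : Nat := Bool.rec (motive := fun _ => Nat) OPL0_p535 OPL0_p23 (Nat.beq (Nat.land (Nat.shiftRight i 9) 1) 0)
noncomputable def OPL0_s9_24 (i : Nat) : Nat := Bool.rec (motive := fun _ => Nat) OPL0_p536 OPL0_p24 (Nat.beq (Nat.land (Nat.shiftRight i 9) 1) 0)
noncomputable def OPL0_s9_25 (i : Nat) : Nat := Bool.rec (motive := fun _ => Nat) OPL0_p537 OPL0_p25 (Nat.beq (Nat.land (Nat.shiftRight i 9) 1) 0)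
noncomputable def OPL0_s9_26 (i : Nat) : Nat := Bool.rec (motive := fun _ => Nat) OPL0_p538 OPL0_p26 (Nat.beq (Nat.land (Nat.shiftRight i 9) 1) 0)
noncomputable def OPL0_s9_27 (i : Nat) : Nat := Bool.rec (motive := fun _ => Nat) OPL0_p539 OPL0_p27 (Nat.beq (Nat.land (Nat.shiftRight i 9) 1) 0)
noncomputable def OPL0_s9_28 (i : Nat) : Nat := Bool.rec (motive := fun _ => Nat) OPL0_p540 OPL0_p28 (Nat.beq (Nat.land (Nat.shiftRight i 9) 1) 0)
noncomputable def OPL0_s9_29 (i : Nat) : Nat := Bool.rec (motive := fun _ => Nat) OPL0_p541 OPL0_p29 (Nat.beq (Nat.land (Nat.shiftRight i 9) 1) 0)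
noncomputable def OPL0_s9_30 (i : Nat) : Nat := Bool.rec (motive := fun _ => Nat) OPL0_p542 OPL0_p30 (Nat.beq (Nat.land (Nat.shiftRight i 9) 1) 0)
noncomputable def OPL0_s9_31 (i : Nat) : Nat := Bool.rec (motive := fun _ => Nat) OPL0_p543 OPL0_p31 (Nat.beq (Nat.land (Nat.shiftRight i 9) 1) 0)
noncomputable def OPL0_s9_32 (i : Nat) : Nat := Bool.rec (motive := fun _ => Nat) OPL0_p544 OPL0_p32 (Nat.beq (Nat.land (Nat.shiftRight i 9) 1) 0)
noncomputable def OPL0_s9_33 (i : Nat) : Nat := Bool.rec (motive := fun _ => Nat) OPL0_p545 OPL0_p33 (Nat.beq (Nat.land (Nat.shiftRight i 9) 1) 0)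
noncomputable def OPL0_s9_34 (i : Nat) : Nat := Bool.rec (motive := fun _ => Nat) OPL0_p546 OPL0_p34 (Nat.beq (Nat.land (Nat.shiftRight i 9) 1) 0)
noncomputable def OPL0_s9_35 (i : Nat) : Nat := Bool.rec (motive := fun _ => Nat) OPL0_p547 OPL0_p35 (Nat.beq (Nat.land (Nat.shiftRight i 9) 1) 0)
noncomputable def OPL0_s9_36 (i : Nat) : Nat := Bool.rec (motive := fun _ => Nat) OPL0_p548 OPL0_p36 (Nat.beq (Nat.land (Nat.shiftRight i 9) 1) 0)
noncomputable def OPL0_s9_37 (i : Nat) : Nat := Bool.rec (motive := fun _ => Nat) OPL0_p549 OPL0_p37 (Nat.beq (Nat.land (Nat.shiftRight i 9) 1) 0)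
noncomputable def OPL0_s9_38 (i : Nat) : Nat := Bool.rec (motive := fun _ => Nat) OPL0_p550 OPL0_p38 (Nat.beq (Nat.land (Nat.shiftRight i 9) 1) 0)
noncomputable def OPL0_s9_39 (i : Nat) : Nat := Bool.rec (motive := fun _ => Nat) OPL0_p551 OPL0_p39 (Nat.beq (Nat.land (Nat.shiftRight i 9) 1) 0)
noncomputable def OPL0_s9_40 (i : Nat) : Nat := Bool.rec (motive := fun _ => Nat) OPL0_p552 OPL0_p40 (Nat.beq (Nat.land (Nat.shiftRight i 9) 1) 0)
noncomputable def OPL0_s9_41 (i : Nat) : Nat := Bool.rec (motive := fun _ => Nat) OPL0_p553 OPL0_p41 (Nat.beq (Nat.land (Nat.shiftRight i 9) 1) 0)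
noncomputable def OPL0_s9_42 (i : Nat) : Nat := Bool.rec (motive := fun _ => Nat) OPL0_p554 OPL0_p42 (Nat.beq (Nat.land (Nat.shiftRight i 9) 1) 0)
noncomputable def OPL0_s9_43 (i : Nat) : Nat := Bool.rec (motive := fun _ => Nat) OPL0_p555 OPL0_p43 (Nat.beq (Nat.land (Nat.shiftRight i 9) 1) 0)
noncomputable def OPL0_s9_44 (i : Nat) : Nat := Bool.rec (motive := fun _ => Nat) OPL0_p556 OPL0_p44 (Nat.beq (Nat.land (Nat.shiftRight i 9) 1) 0)
noncomputable def OPL0_s9_45 (i : Nat) : Nat := Bool.rec (motive := fun _ => Nat) OPL0_p557 OPL0_p45 (Nat.beq (Nat.land (Nat.shiftRight i 9) 1) 0)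
noncomputable def OPL0_s9_46 (i : Nat) : Nat := Bool.rec (motive := fun _ => Nat) OPL0_p558 OPL0_p46 (Nat.beq (Nat.land (Nat.shiftRight i 9) 1) 0)
noncomputable def OPL0_s9_47 (i : Nat) : Nat := Bool.rec (motive := fun _ => Nat) OPL0_p559 OPL0_p47 (Nat.beq (Nat.land (Nat.shiftRight i 9) 1) 0)
noncomputable def OPL0_s9_48 (i : Nat) : Nat := Bool.rec (motive := fun _ => Nat) OPL0_p560 OPL0_p48 (Nat.beq (Nat.land (Nat.shiftRight i 9) 1) 0)
noncomputable def OPL0_s9_49 (i : Nat) : Nat := Bool.rec (motive := fun _ => Nat) OPL0_p561 OPL0_p49 (Nat.beq (Nat.land (Nat.shiftRight i 9) 1) 0)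
noncomputable def OPL0_s9_50 (i : Nat) : Nat := Bool.rec (motive := fun _ => Nat) OPL0_p562 OPL0_p50 (Nat.beq (Nat.land (Nat.shiftRight i 9) 1) 0)
noncomputable def OPL0_s9_51 (i : Nat) : Nat := Bool.rec (motive := fun _ => Nat) OPL0_p563 OPL0_p51 (Nat.beq (Nat.land (Nat.shiftRight i 9) 1) 0)
noncomputable def OPL0_s9_52 (i : Nat) : Nat := Bool.rec (motive := fun _ => Nat) OPL0_p564 OPL0_p52 (Nat.beq (Nat.land (Nat.shiftRight i 9) 1) 0)
noncomputable def OPL0_s9_53 (i : Nat) : Nat := Bool.rec (motive := fun _ => Nat) OPL0_p565 OPL0_p53 (Nat.beq (Nat.land (Nat.shiftRight i 9) 1) 0)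
noncomputable def OPL0_s9_54 (i : Nat) : Nat := Bool.rec (motive := fun _ => Nat) OPL0_p566 OPL0_p54 (Nat.beq (Nat.land (Nat.shiftRight i 9) 1) 0)
noncomputable def OPL0_s9_55 (i : Nat) : Nat := Bool.rec (motive := fun _ => Nat) OPL0_p567 OPL0_p55 (Nat.beq (Nat.land (Nat.shiftRight i 9) 1) 0)
noncomputable def OPL0_s9_56 (i : Nat) : Nat := Bool.rec (motive := fun _ => Nat) OPL0_p568 OPL0_p56 (Nat.beq (Nat.land (Nat.shiftRight i 9) 1) 0)
noncomputable def OPL0_s9_57 (i : Nat) : Nat := Bool.rec (motive := fun _ => Nat) OPL0_p569 OPL0_p57 (Nat.beq (Nat.land (Nat.shiftRight i 9) 1) 0)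
noncomputable def OPL0_s9_58 (i : Nat) : Nat := Bool.rec (motive := fun _ => Nat) OPL0_p570 OPL0_p58 (Nat.beq (Nat.land (Nat.shiftRight i 9) 1) 0)
noncomputable def OPL0_s9_59 (i : Nat) : Nat := Bool.rec (motive := fun _ => Nat) OPL0_p571 OPL0_p59 (Nat.beq (Nat.land (Nat.shiftRight i 9) 1) 0)
noncomputable def OPL0_s9_60 (i : Nat) : Nat := Bool.rec (motive := fun _ => Nat) OPL0_p572 OPL0_p60 (Nat.beq (Nat.land (Nat.shiftRight i 9) 1) 0)
noncomputable def OPL0_s9_61 (i : Nat) : Nat := Bool.rec (motive := fun _ => Nat) OPL0_p573 OPL0_p61 (Nat.beq (Nat.land (Nat.shiftRight i 9) 1) 0)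
noncomputable def OPL0_s9_62 (i : Nat) : Nat := Bool.rec (motive := fun _ => Nat) OPL0_p574 OPL0_p62 (Nat.beq (Nat.land (Nat.shiftRight i 9) 1) 0)
noncomputable def OPL0_s9_63 (i : Nat) : Nat := Bool.rec (motive := fun _ => Nat) OPL0_p575 OPL0_p63 (Nat.beq (Nat.land (Nat.shiftRight i 9) 1) 0)
noncomputable def OPL0_s9_64 (i : Nat) : Nat := Bool.rec (motive := fun _ => Nat) OPL0_p576 OPL0_p64 (Nat.beq (Nat.land (Nat.shiftRight i 9) 1) 0)
noncomputable def OPL0_s9_65 (i : Nat) : Nat := Bool.rec (motive := fun _ => Nat) OPL0_p577 OPL0_p65 (Nat.beq (Nat.land (Nat.shiftRight i 9) 1) 0)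
noncomputable def OPL0_s9_66 (i : Nat) : Nat := Bool.rec (motive := fun _ => Nat) OPL0_p578 OPL0_p66 (Nat.beq (Nat.land (Nat.shiftRight i 9) 1) 0)
noncomputable def OPL0_s9_67 (i : Nat) : Nat := Bool.rec (motive := fun _ => Nat) OPL0_p579 OPL0_p67 (Nat.beq (Nat.land (Nat.shiftRight i 9) 1) 0)
noncomputable def OPL0_s9_68 (i : Nat) : Nat := Bool.rec (motive := fun _ => Nat) 0 OPL0_p68 (Nat.beq (Nat.land (Nat.shiftRight i 9) 1) 0)
noncomputable def OPL0_s9_69 (i : Nat) : Nat := Bool.rec (motive := fun _ => Nat) 0 OPL0_p69 (Nat.beq (Nat.land (Nat.shiftRight i 9) 1) 0)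
noncomputable def OPL0_s9_70 (i : Nat) : Nat := Bool.rec (motive := fun _ => Nat) 0 OPL0_p70 (Nat.beq (Nat.land (Nat.shiftRight i 9) 1) 0)
noncomputable def OPL0_s9_71 (i : Nat) : Nat := Bool.rec (motive := fun _ => Nat) 0 OPL0_p71 (Nat.beq (Nat.land (Nat.shiftRight i 9) 1) 0)
noncomputable def OPL0_s9_72 (i : Nat) : Nat := Bool.rec (motive := fun _ => Nat) 0 OPL0_p72 (Nat.beq (Nat.land (Nat.shiftRight i 9) 1) 0)
noncomputable def OPL0_s9_73 (i : Nat) : Nat := Bool.rec (motive := fun _ => Nat) 0 OPL0_p73 (Nat.beq (Nat.land (Nat.shiftRight i 9) 1) 0)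
noncomputable def OPL0_s9_74 (i : Nat) : Nat := Bool.rec (motive := fun _ => Nat) 0 OPL0_p74 (Nat.beq (Nat.land (Nat.shiftRight i 9) 1) 0)
noncomputable def OPL0_s9_75 (i : Nat) : Nat := Bool.rec (motive := fun _ => Nat) 0 OPL0_p75 (Nat.beq (Nat.land (Nat.shiftRight i 9) 1) 0)
noncomputable def OPL0_s9_76 (i : Nat) : Nat := Bool.rec (motive := fun _ => Nat) 0 OPL0_p76 (Nat.beq (Nat.land (Nat.shiftRight i 9) 1) 0)
noncomputable def OPL0_s9_77 (i : Nat) : Nat := Bool.rec (motive := fun _ => Nat) 0 OPL0_p77 (Nat.beq (Nat.land (Nat.shiftRight i 9) 1) 0)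
noncomputable def OPL0_s9_78 (i : Nat) : Nat := Bool.rec (motive := fun _ => Nat) 0 OPL0_p78 (Nat.beq (Nat.land (Nat.shiftRight i 9) 1) 0)
noncomputable def OPL0_s9_79 (i : Nat) : Nat := Bool.rec (motive := fun _ => Nat) 0 OPL0_p79 (Nat.beq (Nat.land (Nat.shiftRight i 9) 1) 0)
noncomputable def OPL0_s9_80 (i : Nat) : Nat := Bool.rec (motive := fun _ => Nat) 0 OPL0_p80 (Nat.beq (Nat.land (Nat.shiftRight i 9) 1) 0)
noncomputable def OPL0_s9_81 (i : Nat) : Nat := Bool.rec (motive := fun _ => Nat) 0 OPL0_p81 (Nat.beq (Nat.land (Nat.shiftRight i 9) 1) 0)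
noncomputable def OPL0_s9_82 (i : Nat) : Nat := Bool.rec (motive := fun _ => Nat) 0 OPL0_p82 (Nat.beq (Nat.land (Nat.shiftRight i 9) 1) 0)
noncomputable def OPL0_s9_83 (i : Nat) : Nat := Bool.rec (motive := fun _ => Nat) 0 OPL0_p83 (Nat.beq (Nat.land (Nat.shiftRight i 9) 1) 0)
noncomputable def OPL0_s9_84 (i : Nat) : Nat := Bool.rec (motive := fun _ => Nat) 0 OPL0_p84 (Nat.beq (Nat.land (Nat.shiftRight i 9) 1) 0)
noncomputable def OPL0_s9_85 (i : Nat) : Nat := Bool.rec (motive := fun _ => Nat) 0 OPL0_p85 (Nat.beq (Nat.land (Nat.shiftRight i 9) 1) 0)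
noncomputable def OPL0_s9_86 (i : Nat) : Nat := Bool.rec (motive := fun _ => Nat) 0 OPL0_p86 (Nat.beq (Nat.land (Nat.shiftRight i 9) 1) 0)
noncomputable def OPL0_s9_87 (i : Nat) : Nat := Bool.rec (motive := fun _ => Nat) 0 OPL0_p87 (Nat.beq (Nat.land (Nat.shiftRight i 9) 1) 0)
noncomputable def OPL0_s9_88 (i : Nat) : Nat := Bool.rec (motive := fun _ => Nat) 0 OPL0_p88 (Nat.beq (Nat.land (Nat.shiftRight i 9) 1) 0)
noncomputable def OPL0_s9_89 (i : Nat) : Nat := Bool.rec (motive := fun _ => Nat) 0 OPL0_p89 (Nat.beq (Nat.land (Nat.shiftRight i 9) 1) 0)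
noncomputable def OPL0_s9_90 (i : Nat) : Nat := Bool.rec (motive := fun _ => Nat) 0 OPL0_p90 (Nat.beq (Nat.land (Nat.shiftRight i 9) 1) 0)
noncomputable def OPL0_s9_91 (i : Nat) : Nat := Bool.rec (motive := fun _ => Nat) 0 OPL0_p91 (Nat.beq (Nat.land (Nat.shiftRight i 9) 1) 0)
noncomputable def OPL0_s9_92 (i : Nat) : Nat := Bool.rec (motive := fun _ => Nat) 0 OPL0_p92 (Nat.beq (Nat.land (Nat.shiftRight i 9) 1) 0)
noncomputable def OPL0_s9_93 (i : Nat) : Nat := Bool.rec (motive := fun _ => Nat) 0 OPL0_p93 (Nat.beq (Nat.land (Nat.shiftRight i 9) 1) 0)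
noncomputable def OPL0_s9_94 (i : Nat) : Nat := Bool.rec (motive := fun _ => Nat) 0 OPL0_p94 (Nat.beq (Nat.land (Nat.shiftRight i 9) 1) 0)
noncomputable def OPL0_s9_95 (i : Nat) : Nat := Bool.rec (motive := fun _ => Nat) 0 OPL0_p95 (Nat.beq (Nat.land (Nat.shiftRight i 9) 1) 0)
noncomputable def OPL0_s9_96 (i : Nat) : Nat := Bool.rec (motive := fun _ => Nat) 0 OPL0_p96 (Nat.beq (Nat.land (Nat.shiftRight i 9) 1) 0)
noncomputable def OPL0_s9_97 (i : Nat) : Nat := Bool.rec (motive := fun _ => Nat) 0 OPL0_p97 (Nat.beq (Nat.land (Nat.shiftRight i 9) 1) 0)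
noncomputable def OPL0_s9_98 (i : Nat) : Nat := Bool.rec (motive := fun _ => Nat) 0 OPL0_p98 (Nat.beq (Nat.land (Nat.shiftRight i 9) 1) 0)
noncomputable def OPL0_s9_99 (i : Nat) : Nat := Bool.rec (motive := fun _ => Nat) 0 OPL0_p99 (Nat.beq (Nat.land (Nat.shiftRight i 9) 1) 0)
noncomputable def OPL0_s9_100 (i : Nat) : Nat := Bool.rec (motive := fun _ => Nat) 0 OPL0_p100 (Nat.beq (Nat.land (Nat.shiftRight i 9) 1) 0)
noncomputable def OPL0_s9_101 (i : Nat) : Nat := Bool.rec (motive := fun _ => Nat) 0 OPL0_p101 (Nat.beq (Nat.land (Nat.shiftRight i 9) 1) 0)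
noncomputable def OPL0_s9_102 (i : Nat) : Nat := Bool.rec (motive := fun _ => Nat) 0 OPL0_p102 (Nat.beq (Nat.land (Nat.shiftRight i 9) 1) 0)
noncomputable def OPL0_s9_103 (i : Nat) : Nat := Bool.rec (motive := fun _ => Nat) 0 OPL0_p103 (Nat.beq (Nat.land (Nat.shiftRight i 9) 1) 0)
noncomputable def OPL0_s9_104 (i : Nat) : Nat := Bool.rec (motive := fun _ => Nat) 0 OPL0_p104 (Nat.beq (Nat.land (Nat.shiftRight i 9) 1) 0)
noncomputable def OPL0_s9_105 (i : Nat) : Nat := Bool.rec (motive := fun _ => Nat) 0 OPL0_p105 (Nat.beq (Nat.land (Nat.shiftRight i 9) 1) 0)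
noncomputable def OPL0_s9_106 (i : Nat) : Nat := Bool.rec (motive := fun _ => Nat) 0 OPL0_p106 (Nat.beq (Nat.land (Nat.shiftRight i 9) 1) 0)
noncomputable def OPL0_s9_107 (i : Nat) : Nat := Bool.rec (motive := fun _ => Nat) 0 OPL0_p107 (Nat.beq (Nat.land (Nat.shiftRight i 9) 1) 0)
noncomputable def OPL0_s9_108 (i : Nat) : Nat := Bool.rec (motive := fun _ => Nat) 0 OPL0_p108 (Nat.beq (Nat.land (Nat.shiftRight i 9) 1) 0)
noncomputable def OPL0_s9_109 (i : Nat) : Nat := Bool.rec (motive := fun _ => Nat) 0 OPL0_p109 (Nat.beq (Nat.land (Nat.shiftRight i 9) 1) 0)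
noncomputable def OPL0_s9_110 (i : Nat) : Nat := Bool.rec (motive := fun _ => Nat) 0 OPL0_p110 (Nat.beq (Nat.land (Nat.shiftRight i 9) 1) 0)
noncomputable def OPL0_s9_111 (i : Nat) : Nat := Bool.rec (motive := fun _ => Nat) 0 OPL0_p111 (Nat.beq (Nat.land (Nat.shiftRight i 9) 1) 0)
noncomputable def OPL0_s9_112 (i : Nat) : Nat := Bool.rec (motive := fun _ => Nat) 0 OPL0_p112 (Nat.beq (Nat.land (Nat.shiftRight i 9) 1) 0)
noncomputable def OPL0_s9_113 (i : Nat) : Nat := Bool.rec (motive := fun _ => Nat) 0 OPL0_p113 (Nat.beq (Nat.land (Nat.shiftRight i 9) 1) 0)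
noncomputable def OPL0_s9_114 (i : Nat) : Nat := Bool.rec (motive := fun _ => Nat) 0 OPL0_p114 (Nat.beq (Nat.land (Nat.shiftRight i 9) 1) 0)
noncomputable def OPL0_s9_115 (i : Nat) : Nat := Bool.rec (motive := fun _ => Nat) 0 OPL0_p115 (Nat.beq (Nat.land (Nat.shiftRight i 9) 1) 0)
noncomputable def OPL0_s9_116 (i : Nat) : Nat := Bool.rec (motive := fun _ => Nat) 0 OPL0_p116 (Nat.beq (Nat.land (Nat.shiftRight i 9) 1) 0)
noncomputable def OPL0_s9_117 (i : Nat) : Nat := Bool.rec (motive := fun _ => Nat) 0 OPL0_p117 (Nat.beq (Nat.land (Nat.shiftRight i 9) 1) 0)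
noncomputable def OPL0_s9_118 (i : Nat) : Nat := Bool.rec (motive := fun _ => Nat) 0 OPL0_p118 (Nat.beq (Nat.land (Nat.shiftRight i 9) 1) 0)
noncomputable def OPL0_s9_119 (i : Nat) : Nat := Bool.rec (motive := fun _ => Nat) 0 OPL0_p119 (Nat.beq (Nat.land (Nat.shiftRight i 9) 1) 0)
noncomputable def OPL0_s9_120 (i : Nat) : Nat := Bool.rec (motive := fun _ => Nat) 0 OPL0_p120 (Nat.beq (Nat.land (Nat.shiftRight i 9) 1) 0)
noncomputable def OPL0_s9_121 (i : Nat) : Nat := Bool.rec (motive := fun _ => Nat) 0 OPL0_p121 (Nat.beq (Nat.land (Nat.shiftRight i 9) 1) 0)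
noncomputable def OPL0_s9_122 (i : Nat) : Nat := Bool.rec (motive := fun _ => Nat) 0 OPL0_p122 (Nat.beq (Nat.land (Nat.shiftRight i 9) 1) 0)
noncomputable def OPL0_s9_123 (i : Nat) : Nat := Bool.rec (motive := fun _ => Nat) 0 OPL0_p123 (Nat.beq (Nat.land (Nat.shiftRight i 9) 1) 0)
noncomputable def OPL0_s9_124 (i : Nat) : Nat := Bool.rec (motive := fun _ => Nat) 0 OPL0_p124 (Nat.beq (Nat.land (Nat.shiftRight i 9) 1) 0)
noncomputable def OPL0_s9_125 (i : Nat) : Nat := Bool.rec (motive := fun _ => Nat) 0 OPL0_p125 (Nat.beq (Nat.land (Nat.shiftRight i 9) 1) 0)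
noncomputable def OPL0_s9_126 (i : Nat) : Nat := Bool.rec (motive := fun _ => Nat) 0 OPL0_p126 (Nat.beq (Nat.land (Nat.shiftRight i 9) 1) 0)
noncomputable def OPL0_s9_127 (i : Nat) : Nat := Bool.rec (motive := fun _ => Nat) 0 OPL0_p127 (Nat.beq (Nat.land (Nat.shiftRight i 9) 1) 0)
noncomputable def OPL0_s9_128 (i : Nat) : Nat := Bool.rec (motive := fun _ => Nat) 0 OPL0_p128 (Nat.beq (Nat.land (Nat.shiftRight i 9) 1) 0)
noncomputable def OPL0_s9_129 (i : Nat) : Nat := Bool.rec (motive := fun _ => Nat) 0 OPL0_p129 (Nat.beq (Nat.land (Nat.shiftRight i 9) 1) 0)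
noncomputable def OPL0_s9_130 (i : Nat) : Nat := Bool.rec (motive := fun _ => Nat) 0 OPL0_p130 (Nat.beq (Nat.land (Nat.shiftRight i 9) 1) 0)
noncomputable def OPL0_s9_131 (i : Nat) : Nat := Bool.rec (motive := fun _ => Nat) 0 OPL0_p131 (Nat.beq (Nat.land (Nat.shiftRight i 9) 1) 0)
noncomputable def OPL0_s9_132 (i : Nat) : Nat := Bool.rec (motive := fun _ => Nat) 0 OPL0_p132 (Nat.beq (Nat.land (Nat.shiftRight i 9) 1) 0)
noncomputable def OPL0_s9_133 (i : Nat) : Nat := Bool.rec (motive := fun _ => Nat) 0 OPL0_p133 (Nat.beq (Nat.land (Nat.shiftRight i 9) 1) 0)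
noncomputable def OPL0_s9_134 (i : Nat) : Nat := Bool.rec (motive := fun _ => Nat) 0 OPL0_p134 (Nat.beq (Nat.land (Nat.shiftRight i 9) 1) 0)
noncomputable def OPL0_s9_135 (i : Nat) : Nat := Bool.rec (motive := fun _ => Nat) 0 OPL0_p135 (Nat.beq (Nat.land (Nat.shiftRight i 9) 1) 0)
noncomputable def OPL0_s9_136 (i : Nat) : Nat := Bool.rec (motive := fun _ => Nat) 0 OPL0_p136 (Nat.beq (Nat.land (Nat.shiftRight i 9) 1) 0)
noncomputable def OPL0_s9_137 (i : Nat) : Nat := Bool.rec (motive := fun _ => Nat) 0 OPL0_p137 (Nat.beq (Nat.land (Nat.shiftRight i 9) 1) 0)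
noncomputable def OPL0_s9_138 (i : Nat) : Nat := Bool.rec (motive := fun _ => Nat) 0 OPL0_p138 (Nat.beq (Nat.land (Nat.shiftRight i 9) 1) 0)
noncomputable def OPL0_s9_139 (i : Nat) : Nat := Bool.rec (motive := fun _ => Nat) 0 OPL0_p139 (Nat.beq (Nat.land (Nat.shiftRight i 9) 1) 0)
noncomputable def OPL0_s9_140 (i : Nat) : Nat := Bool.rec (motive := fun _ => Nat) 0 OPL0_p140 (Nat.beq (Nat.land (Nat.shiftRight i 9) 1) 0)
noncomputable def OPL0_s9_141 (i : Nat) : Nat := Bool.rec (motive := fun _ => Nat) 0 OPL0_p141 (Nat.beq (Nat.land (Nat.shiftRight i 9) 1) 0)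
noncomputable def OPL0_s9_142 (i : Nat) : Nat := Bool.rec (motive := fun _ => Nat) 0 OPL0_p142 (Nat.beq (Nat.land (Nat.shiftRight i 9) 1) 0)
noncomputable def OPL0_s9_143 (i : Nat) : Nat := Bool.rec (motive := fun _ => Nat) 0 OPL0_p143 (Nat.beq (Nat.land (Nat.shiftRight i 9) 1) 0)
noncomputable def OPL0_s9_144 (i : Nat) : Nat := Bool.rec (motive := fun _ => Nat) 0 OPL0_p144 (Nat.beq (Nat.land (Nat.shiftRight i 9) 1) 0)
noncomputable def OPL0_s9_145 (i : Nat) : Nat := Bool.rec (motive := fun _ => Nat) 0 OPL0_p145 (Nat.beq (Nat.land (Nat.shiftRight i 9) 1) 0)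
noncomputable def OPL0_s9_146 (i : Nat) : Nat := Bool.rec (motive := fun _ => Nat) 0 OPL0_p146 (Nat.beq (Nat.land (Nat.shiftRight i 9) 1) 0)
noncomputable def OPL0_s9_147 (i : Nat) : Nat := Bool.rec (motive := fun _ => Nat) 0 OPL0_p147 (Nat.beq (Nat.land (Nat.shiftRight i 9) 1) 0)
noncomputable def OPL0_s9_148 (i : Nat) : Nat := Bool.rec (motive := fun _ => Nat) 0 OPL0_p148 (Nat.beq (Nat.land (Nat.shiftRight i 9) 1) 0)
noncomputable def OPL0_s9_149 (i : Nat) : Nat := Bool.rec (motive := fun _ => Nat) 0 OPL0_p149 (Nat.beq (Nat.land (Nat.shiftRight i 9) 1) 0)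
noncomputable def OPL0_s9_150 (i : Nat) : Nat := Bool.rec (motive := fun _ => Nat) 0 OPL0_p150 (Nat.beq (Nat.land (Nat.shiftRight i 9) 1) 0)
noncomputable def OPL0_s9_151 (i : Nat) : Nat := Bool.rec (motive := fun _ => Nat) 0 OPL0_p151 (Nat.beq (Nat.land (Nat.shiftRight i 9) 1) 0)
noncomputable def OPL0_s9_152 (i : Nat) : Nat := Bool.rec (motive := fun _ => Nat) 0 OPL0_p152 (Nat.beq (Nat.land (Nat.shiftRight i 9) 1) 0)
noncomputable def OPL0_s9_153 (i : Nat) : Nat := Bool.rec (motive := fun _ => Nat) 0 OPL0_p153 (Nat.beq (Nat.land (Nat.shiftRight i 9) 1) 0)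
noncomputable def OPL0_s9_154 (i : Nat) : Nat := Bool.rec (motive := fun _ => Nat) 0 OPL0_p154 (Nat.beq (Nat.land (Nat.shiftRight i 9) 1) 0)
noncomputable def OPL0_s9_155 (i : Nat) : Nat := Bool.rec (motive := fun _ => Nat) 0 OPL0_p155 (Nat.beq (Nat.land (Nat.shiftRight i 9) 1) 0)
noncomputable def OPL0_s9_156 (i : Nat) : Nat := Bool.rec (motive := fun _ => Nat) 0 OPL0_p156 (Nat.beq (Nat.land (Nat.shiftRight i 9) 1) 0)
noncomputable def OPL0_s9_157 (i : Nat) : Nat := Bool.rec (motive := fun _ => Nat) 0 OPL0_p157 (Nat.beq (Nat.land (Nat.shiftRight i 9) 1) 0)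
noncomputable def OPL0_s9_158 (i : Nat) : Nat := Bool.rec (motive := fun _ => Nat) 0 OPL0_p158 (Nat.beq (Nat.land (Nat.shiftRight i 9) 1) 0)
noncomputable def OPL0_s9_159 (i : Nat) : Nat := Bool.rec (motive := fun _ => Nat) 0 OPL0_p159 (Nat.beq (Nat.land (Nat.shiftRight i 9) 1) 0)
noncomputable def OPL0_s9_160 (i : Nat) : Nat := Bool.rec (motive := fun _ => Nat) 0 OPL0_p160 (Nat.beq (Nat.land (Nat.shiftRight i 9) 1) 0)
noncomputable def OPL0_s9_161 (i : Nat) : Nat := Bool.rec (motive := fun _ => Nat) 0 OPL0_p161 (Nat.beq (Nat.land (Nat.shiftRight i 9) 1) 0)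
noncomputable def OPL0_s9_162 (i : Nat) : Nat := Bool.rec (motive := fun _ => Nat) 0 OPL0_p162 (Nat.beq (Nat.land (Nat.shiftRight i 9) 1) 0)
noncomputable def OPL0_s9_163 (i : Nat) : Nat := Bool.rec (motive := fun _ => Nat) 0 OPL0_p163 (Nat.beq (Nat.land (Nat.shiftRight i 9) 1) 0)
noncomputable def OPL0_s9_164 (i : Nat) : Nat := Bool.rec (motive := fun _ => Nat) 0 OPL0_p164 (Nat.beq (Nat.land (Nat.shiftRight i 9) 1) 0)
noncomputable def OPL0_s9_165 (i : Nat) : Nat := Bool.rec (motive := fun _ => Nat) 0 OPL0_p165 (Nat.beq (Nat.land (Nat.shiftRight i 9) 1) 0)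
noncomputable def OPL0_s9_166 (i : Nat) : Nat := Bool.rec (motive := fun _ => Nat) 0 OPL0_p166 (Nat.beq (Nat.land (Nat.shiftRight i 9) 1) 0)
noncomputable def OPL0_s9_167 (i : Nat) : Nat := Bool.rec (motive := fun _ => Nat) 0 OPL0_p167 (Nat.beq (Nat.land (Nat.shiftRight i 9) 1) 0)
noncomputable def OPL0_s9_168 (i : Nat) : Nat := Bool.rec (motive := fun _ => Nat) 0 OPL0_p168 (Nat.beq (Nat.land (Nat.shiftRight i 9) 1) 0)
noncomputable def OPL0_s9_169 (i : Nat) : Nat := Bool.rec (motive := fun _ => Nat) 0 OPL0_p169 (Nat.beq (Nat.land (Nat.shiftRight i 9) 1) 0)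
noncomputable def OPL0_s9_170 (i : Nat) : Nat := Bool.rec (motive := fun _ => Nat) 0 OPL0_p170 (Nat.beq (Nat.land (Nat.shiftRight i 9) 1) 0)
noncomputable def OPL0_s9_171 (i : Nat) : Nat := Bool.rec (motive := fun _ => Nat) 0 OPL0_p171 (Nat.beq (Nat.land (Nat.shiftRight i 9) 1) 0)
noncomputable def OPL0_s9_172 (i : Nat) : Nat := Bool.rec (motive := fun _ => Nat) 0 OPL0_p172 (Nat.beq (Nat.land (Nat.shiftRight i 9) 1) 0)
noncomputable def OPL0_s9_173 (i : Nat) : Nat := Bool.rec (motive := fun _ => Nat) 0 OPL0_p173 (Nat.beq (Nat.land (Nat.shiftRight i 9) 1) 0)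
noncomputable def OPL0_s9_174 (i : Nat) : Nat := Bool.rec (motive := fun _ => Nat) 0 OPL0_p174 (Nat.beq (Nat.land (Nat.shiftRight i 9) 1) 0)
noncomputable def OPL0_s9_175 (i : Nat) : Nat := Bool.rec (motive := fun _ => Nat) 0 OPL0_p175 (Nat.beq (Nat.land (Nat.shiftRight i 9) 1) 0)
noncomputable def OPL0_s9_176 (i : Nat) : Nat := Bool.rec (motive := fun _ => Nat) 0 OPL0_p176 (Nat.beq (Nat.land (Nat.shiftRight i 9) 1) 0)
noncomputable def OPL0_s9_177 (i : Nat) : Nat := Bool.rec (motive := fun _ => Nat) 0 OPL0_p177 (Nat.beq (Nat.land (Nat.shiftRight i 9) 1) 0)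
noncomputable def OPL0_s9_178 (i : Nat) : Nat := Bool.rec (motive := fun _ => Nat) 0 OPL0_p178 (Nat.beq (Nat.land (Nat.shiftRight i 9) 1) 0)
noncomputable def OPL0_s9_179 (i : Nat) : Nat := Bool.rec (motive := fun _ => Nat) 0 OPL0_p179 (Nat.beq (Nat.land (Nat.shiftRight i 9) 1) 0)
noncomputable def OPL0_s9_180 (i : Nat) : Nat := Bool.rec (motive := fun _ => Nat) 0 OPL0_p180 (Nat.beq (Nat.land (Nat.shiftRight i 9) 1) 0)
noncomputable def OPL0_s9_181 (i : Nat) : Nat := Bool.rec (motive := fun _ => Nat) 0 OPL0_p181 (Nat.beq (Nat.land (Nat.shiftRight i 9) 1) 0)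
noncomputable def OPL0_s9_182 (i : Nat) : Nat := Bool.rec (motive := fun _ => Nat) 0 OPL0_p182 (Nat.beq (Nat.land (Nat.shiftRight i 9) 1) 0)
noncomputable def OPL0_s9_183 (i : Nat) : Nat := Bool.rec (motive := fun _ => Nat) 0 OPL0_p183 (Nat.beq (Nat.land (Nat.shiftRight i 9) 1) 0)
noncomputable def OPL0_s9_184 (i : Nat) : Nat := Bool.rec (motive := fun _ => Nat) 0 OPL0_p184 (Nat.beq (Nat.land (Nat.shiftRight i 9) 1) 0)
noncomputable def OPL0_s9_185 (i : Nat) : Nat := Bool.rec (motive := fun _ => Nat) 0 OPL0_p185 (Nat.beq (Nat.land (Nat.shiftRight i 9) 1) 0)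
noncomputable def OPL0_s9_186 (i : Nat) : Nat := Bool.rec (motive := fun _ => Nat) 0 OPL0_p186 (Nat.beq (Nat.land (Nat.shiftRight i 9) 1) 0)
noncomputable def OPL0_s9_187 (i : Nat) : Nat := Bool.rec (motive := fun _ => Nat) 0 OPL0_p187 (Nat.beq (Nat.land (Nat.shiftRight i 9) 1) 0)
noncomputable def OPL0_s9_188 (i : Nat) : Nat := Bool.rec (motive := fun _ => Nat) 0 OPL0_p188 (Nat.beq (Nat.land (Nat.shiftRight i 9) 1) 0)
noncomputable def OPL0_s9_189 (i : Nat) : Nat := Bool.rec (motive := fun _ => Nat) 0 OPL0_p189 (Nat.beq (Nat.land (Nat.shiftRight i 9) 1) 0)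
noncomputable def OPL0_s9_190 (i : Nat) : Nat := Bool.rec (motive := fun _ => Nat) 0 OPL0_p190 (Nat.beq (Nat.land (Nat.shiftRight i 9) 1) 0)
noncomputable def OPL0_s9_191 (i : Nat) : Nat := Bool.rec (motive := fun _ => Nat) 0 OPL0_p191 (Nat.beq (Nat.land (Nat.shiftRight i 9) 1) 0)
noncomputable def OPL0_s9_192 (i : Nat) : Nat := Bool.rec (motive := fun _ => Nat) 0 OPL0_p192 (Nat.beq (Nat.land (Nat.shiftRight i 9) 1) 0)
noncomputable def OPL0_s9_193 (i : Nat) : Nat := Bool.rec (motive := fun _ => Nat) 0 OPL0_p193 (Nat.beq (Nat.land (Nat.shiftRight i 9) 1) 0)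
noncomputable def OPL0_s9_194 (i : Nat) : Nat := Bool.rec (motive := fun _ => Nat) 0 OPL0_p194 (Nat.beq (Nat.land (Nat.shiftRight i 9) 1) 0)
noncomputable def OPL0_s9_195 (i : Nat) : Nat := Bool.rec (motive := fun _ => Nat) 0 OPL0_p195 (Nat.beq (Nat.land (Nat.shiftRight i 9) 1) 0)
noncomputable def OPL0_s9_196 (i : Nat) : Nat := Bool.rec (motive := fun _ => Nat) 0 OPL0_p196 (Nat.beq (Nat.land (Nat.shiftRight i 9) 1) 0)
noncomputable def OPL0_s9_197 (i : Nat) : Nat := Bool.rec (motive := fun _ => Nat) 0 OPL0_p197 (Nat.beq (Nat.land (Nat.shiftRight i 9) 1) 0)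
noncomputable def OPL0_s9_198 (i : Nat) : Nat := Bool.rec (motive := fun _ => Nat) 0 OPL0_p198 (Nat.beq (Nat.land (Nat.shiftRight i 9) 1) 0)
noncomputable def OPL0_s9_199 (i : Nat) : Nat := Bool.rec (motive := fun _ => Nat) 0 OPL0_p199 (Nat.beq (Nat.land (Nat.shiftRight i 9) 1) 0)
noncomputable def OPL0_s9_200 (i : Nat) : Nat := Bool.rec (motive := fun _ => Nat) 0 OPL0_p200 (Nat.beq (Nat.land (Nat.shiftRight i 9) 1) 0)
noncomputable def OPL0_s9_201 (i : Nat) : Nat := Bool.rec (motive := fun _ => Nat) 0 OPL0_p201 (Nat.beq (Nat.land (Nat.shiftRight i 9) 1) 0)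
noncomputable def OPL0_s9_202 (i : Nat) : Nat := Bool.rec (motive := fun _ => Nat) 0 OPL0_p202 (Nat.beq (Nat.land (Nat.shiftRight i 9) 1) 0)
noncomputable def OPL0_s9_203 (i : Nat) : Nat := Bool.rec (motive := fun _ => Nat) 0 OPL0_p203 (Nat.beq (Nat.land (Nat.shiftRight i 9) 1) 0)
noncomputable def OPL0_s9_204 (i : Nat) : Nat := Bool.rec (motive := fun _ => Nat) 0 OPL0_p204 (Nat.beq (Nat.land (Nat.shiftRight i 9) 1) 0)
noncomputable def OPL0_s9_205 (i : Nat) : Nat := Bool.rec (motive := fun _ => Nat) 0 OPL0_p205 (Nat.beq (Nat.land (Nat.shiftRight i 9) 1) 0)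
noncomputable def OPL0_s9_206 (i : Nat) : Nat := Bool.rec (motive := fun _ => Nat) 0 OPL0_p206 (Nat.beq (Nat.land (Nat.shiftRight i 9) 1) 0)
noncomputable def OPL0_s9_207 (i : Nat) : Nat := Bool.rec (motive := fun _ => Nat) 0 OPL0_p207 (Nat.beq (Nat.land (Nat.shiftRight i 9) 1) 0)
noncomputable def OPL0_s9_208 (i : Nat) : Nat := Bool.rec (motive := fun _ => Nat) 0 OPL0_p208 (Nat.beq (Nat.land (Nat.shiftRight i 9) 1) 0)
noncomputable def OPL0_s9_209 (i : Nat) : Nat := Bool.rec (motive := fun _ => Nat) 0 OPL0_p209 (Nat.beq (Nat.land (Nat.shiftRight i 9) 1) 0)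
noncomputable def OPL0_s9_210 (i : Nat) : Nat := Bool.rec (motive := fun _ => Nat) 0 OPL0_p210 (Nat.beq (Nat.land (Nat.shiftRight i 9) 1) 0)
noncomputable def OPL0_s9_211 (i : Nat) : Nat := Bool.rec (motive := fun _ => Nat) 0 OPL0_p211 (Nat.beq (Nat.land (Nat.shiftRight i 9) 1) 0)
noncomputable def OPL0_s9_212 (i : Nat) : Nat := Bool.rec (motive := fun _ => Nat) 0 OPL0_p212 (Nat.beq (Nat.land (Nat.shiftRight i 9) 1) 0)
noncomputable def OPL0_s9_213 (i : Nat) : Nat := Bool.rec (motive := fun _ => Nat) 0 OPL0_p213 (Nat.beq (Nat.land (Nat.shiftRight i 9) 1) 0)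
noncomputable def OPL0_s9_214 (i : Nat) : Nat := Bool.rec (motive := fun _ => Nat) 0 OPL0_p214 (Nat.beq (Nat.land (Nat.shiftRight i 9) 1) 0)
noncomputable def OPL0_s9_215 (i : Nat) : Nat := Bool.rec (motive := fun _ => Nat) 0 OPL0_p215 (Nat.beq (Nat.land (Nat.shiftRight i 9) 1) 0)
noncomputable def OPL0_s9_216 (i : Nat) : Nat := Bool.rec (motive := fun _ => Nat) 0 OPL0_p216 (Nat.beq (Nat.land (Nat.shiftRight i 9) 1) 0)
noncomputable def OPL0_s9_217 (i : Nat) : Nat := Bool.rec (motive := fun _ => Nat) 0 OPL0_p217 (Nat.beq (Nat.land (Nat.shiftRight i 9) 1) 0)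
noncomputable def OPL0_s9_218 (i : Nat) : Nat := Bool.rec (motive := fun _ => Nat) 0 OPL0_p218 (Nat.beq (Nat.land (Nat.shiftRight i 9) 1) 0)
noncomputable def OPL0_s9_219 (i : Nat) : Nat := Bool.rec (motive := fun _ => Nat) 0 OPL0_p219 (Nat.beq (Nat.land (Nat.shiftRight i 9) 1) 0)
noncomputable def OPL0_s9_220 (i : Nat) : Nat := Bool.rec (motive := fun _ => Nat) 0 OPL0_p220 (Nat.beq (Nat.land (Nat.shiftRight i 9) 1) 0)
noncomputable def OPL0_s9_221 (i : Nat) : Nat := Bool.rec (motive := fun _ => Nat) 0 OPL0_p221 (Nat.beq (Nat.land (Nat.shiftRight i 9) 1) 0)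
noncomputable def OPL0_s9_222 (i : Nat) : Nat := Bool.rec (motive := fun _ => Nat) 0 OPL0_p222 (Nat.beq (Nat.land (Nat.shiftRight i 9) 1) 0)
noncomputable def OPL0_s9_223 (i : Nat) : Nat := Bool.rec (motive := fun _ => Nat) 0 OPL0_p223 (Nat.beq (Nat.land (Nat.shiftRight i 9) 1) 0)
noncomputable def OPL0_s9_224 (i : Nat) : Nat := Bool.rec (motive := fun _ => Nat) 0 OPL0_p224 (Nat.beq (Nat.land (Nat.shiftRight i 9) 1) 0)
noncomputable def OPL0_s9_225 (i : Nat) : Nat := Bool.rec (motive := fun _ => Nat) 0 OPL0_p225 (Nat.beq (Nat.land (Nat.shiftRight i 9) 1) 0)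
noncomputable def OPL0_s9_226 (i : Nat) : Nat := Bool.rec (motive := fun _ => Nat) 0 OPL0_p226 (Nat.beq (Nat.land (Nat.shiftRight i 9) 1) 0)
noncomputable def OPL0_s9_227 (i : Nat) : Nat := Bool.rec (motive := fun _ => Nat) 0 OPL0_p227 (Nat.beq (Nat.land (Nat.shiftRight i 9) 1) 0)
noncomputable def OPL0_s9_228 (i : Nat) : Nat := Bool.rec (motive := fun _ => Nat) 0 OPL0_p228 (Nat.beq (Nat.land (Nat.shiftRight i 9) 1) 0)
noncomputable def OPL0_s9_229 (i : Nat) : Nat := Bool.rec (motive := fun _ => Nat) 0 OPL0_p229 (Nat.beq (Nat.land (Nat.shiftRight i 9) 1) 0)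
noncomputable def OPL0_s9_230 (i : Nat) : Nat := Bool.rec (motive := fun _ => Nat) 0 OPL0_p230 (Nat.beq (Nat.land (Nat.shiftRight i 9) 1) 0)
noncomputable def OPL0_s9_231 (i : Nat) : Nat := Bool.rec (motive := fun _ => Nat) 0 OPL0_p231 (Nat.beq (Nat.land (Nat.shiftRight i 9) 1) 0)
noncomputable def OPL0_s9_232 (i : Nat) : Nat := Bool.rec (motive := fun _ => Nat) 0 OPL0_p232 (Nat.beq (Nat.land (Nat.shiftRight i 9) 1) 0)
noncomputable def OPL0_s9_233 (i : Nat) : Nat := Bool.rec (motive := fun _ => Nat) 0 OPL0_p233 (Nat.beq (Nat.land (Nat.shiftRight i 9) 1) 0)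
noncomputable def OPL0_s9_234 (i : Nat) : Nat := Bool.rec (motive := fun _ => Nat) 0 OPL0_p234 (Nat.beq (Nat.land (Nat.shiftRight i 9) 1) 0)
noncomputable def OPL0_s9_235 (i : Nat) : Nat := Bool.rec (motive := fun _ => Nat) 0 OPL0_p235 (Nat.beq (Nat.land (Nat.shiftRight i 9) 1) 0)
noncomputable def OPL0_s9_236 (i : Nat) : Nat := Bool.rec (motive := fun _ => Nat) 0 OPL0_p236 (Nat.beq (Nat.land (Nat.shiftRight i 9) 1) 0)
noncomputable def OPL0_s9_237 (i : Nat) : Nat := Bool.rec (motive := fun _ => Nat) 0 OPL0_p237 (Nat.beq (Nat.land (Nat.shiftRight i 9) 1) 0)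
noncomputable def OPL0_s9_238 (i : Nat) : Nat := Bool.rec (motive := fun _ => Nat) 0 OPL0_p238 (Nat.beq (Nat.land (Nat.shiftRight i 9) 1) 0)
noncomputable def OPL0_s9_239 (i : Nat) : Nat := Bool.rec (motive := fun _ => Nat) 0 OPL0_p239 (Nat.beq (Nat.land (Nat.shiftRight i 9) 1) 0)
noncomputable def OPL0_s9_240 (i : Nat) : Nat := Bool.rec (motive := fun _ => Nat) 0 OPL0_p240 (Nat.beq (Nat.land (Nat.shiftRight i 9) 1) 0)
noncomputable def OPL0_s9_241 (i : Nat) : Nat := Bool.rec (motive := fun _ => Nat) 0 OPL0_p241 (Nat.beq (Nat.land (Nat.shiftRight i 9) 1) 0)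
noncomputable def OPL0_s9_242 (i : Nat) : Nat := Bool.rec (motive := fun _ => Nat) 0 OPL0_p242 (Nat.beq (Nat.land (Nat.shiftRight i 9) 1) 0)
noncomputable def OPL0_s9_243 (i : Nat) : Nat := Bool.rec (motive := fun _ => Nat) 0 OPL0_p243 (Nat.beq (Nat.land (Nat.shiftRight i 9) 1) 0)
noncomputable def OPL0_s9_244 (i : Nat) : Nat := Bool.rec (motive := fun _ => Nat) 0 OPL0_p244 (Nat.beq (Nat.land (Nat.shiftRight i 9) 1) 0)
noncomputable def OPL0_s9_245 (i : Nat) : Nat := Bool.rec (motive := fun _ => Nat) 0 OPL0_p245 (Nat.beq (Nat.land (Nat.shiftRight i 9) 1) 0)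
noncomputable def OPL0_s9_246 (i : Nat) : Nat := Bool.rec (motive := fun _ => Nat) 0 OPL0_p246 (Nat.beq (Nat.land (Nat.shiftRight i 9) 1) 0)
noncomputable def OPL0_s9_247 (i : Nat) : Nat := Bool.rec (motive := fun _ => Nat) 0 OPL0_p247 (Nat.beq (Nat.land (Nat.shiftRight i 9) 1) 0)
noncomputable def OPL0_s9_248 (i : Nat) : Nat := Bool.rec (motive := fun _ => Nat) 0 OPL0_p248 (Nat.beq (Nat.land (Nat.shiftRight i 9) 1) 0)
noncomputable def OPL0_s9_249 (i : Nat) : Nat := Bool.rec (motive := fun _ => Nat) 0 OPL0_p249 (Nat.beq (Nat.land (Nat.shiftRight i 9) 1) 0)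
noncomputable def OPL0_s9_250 (i : Nat) : Nat := Bool.rec (motive := fun _ => Nat) 0 OPL0_p250 (Nat.beq (Nat.land (Nat.shiftRight i 9) 1) 0)
noncomputable def OPL0_s9_251 (i : Nat) : Nat := Bool.rec (motive := fun _ => Nat) 0 OPL0_p251 (Nat.beq (Nat.land (Nat.shiftRight i 9) 1) 0)
noncomputable def OPL0_s9_252 (i : Nat) : Nat := Bool.rec (motive := fun _ => Nat) 0 OPL0_p252 (Nat.beq (Nat.land (Nat.shiftRight i 9) 1) 0)
noncomputable def OPL0_s9_253 (i : Nat) : Nat := Bool.rec (motive := fun _ => Nat) 0 OPL0_p253 (Nat.beq (Nat.land (Nat.shiftRight i 9) 1) 0)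
noncomputable def OPL0_s9_254 (i : Nat) : Nat := Bool.rec (motive := fun _ => Nat) 0 OPL0_p254 (Nat.beq (Nat.land (Nat.shiftRight i 9) 1) 0)
noncomputable def OPL0_s9_255 (i : Nat) : Nat := Bool.rec (motive := fun _ => Nat) 0 OPL0_p255 (Nat.beq (Nat.land (Nat.shiftRight i 9) 1) 0)
noncomputable def OPL0_s9_256 (i : Nat) : Nat := Bool.rec (motive := fun _ => Nat) 0 OPL0_p256 (Nat.beq (Nat.land (Nat.shiftRight i 9) 1) 0)
noncomputable def OPL0_s9_257 (i : Nat) : Nat := Bool.rec (motive := fun _ => Nat) 0 OPL0_p257 (Nat.beq (Nat.land (Nat.shiftRight i 9) 1) 0)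
noncomputable def OPL0_s9_258 (i : Nat) : Nat := Bool.rec (motive := fun _ => Nat) 0 OPL0_p258 (Nat.beq (Nat.land (Nat.shiftRight i 9) 1) 0)
noncomputable def OPL0_s9_259 (i : Nat) : Nat := Bool.rec (motive := fun _ => Nat) 0 OPL0_p259 (Nat.beq (Nat.land (Nat.shiftRight i 9) 1) 0)
noncomputable def OPL0_s9_260 (i : Nat) : Nat := Bool.rec (motive := fun _ => Nat) 0 OPL0_p260 (Nat.beq (Nat.land (Nat.shiftRight i 9) 1) 0)
noncomputable def OPL0_s9_261 (i : Nat) : Nat := Bool.rec (motive := fun _ => Nat) 0 OPL0_p261 (Nat.beq (Nat.land (Nat.shiftRight i 9) 1) 0)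
noncomputable def OPL0_s9_262 (i : Nat) : Nat := Bool.rec (motive := fun _ => Nat) 0 OPL0_p262 (Nat.beq (Nat.land (Nat.shiftRight i 9) 1) 0)
noncomputable def OPL0_s9_263 (i : Nat) : Nat := Bool.rec (motive := fun _ => Nat) 0 OPL0_p263 (Nat.beq (Nat.land (Nat.shiftRight i 9) 1) 0)
noncomputable def OPL0_s9_264 (i : Nat) : Nat := Bool.rec (motive := fun _ => Nat) 0 OPL0_p264 (Nat.beq (Nat.land (Nat.shiftRight i 9) 1) 0)
noncomputable def OPL0_s9_265 (i : Nat) : Nat := Bool.rec (motive := fun _ => Nat) 0 OPL0_p265 (Nat.beq (Nat.land (Nat.shiftRight i 9) 1) 0)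
noncomputable def OPL0_s9_266 (i : Nat) : Nat := Bool.rec (motive := fun _ => Nat) 0 OPL0_p266 (Nat.beq (Nat.land (Nat.shiftRight i 9) 1) 0)
noncomputable def OPL0_s9_267 (i : Nat) : Nat := Bool.rec (motive := fun _ => Nat) 0 OPL0_p267 (Nat.beq (Nat.land (Nat.shiftRight i 9) 1) 0)
noncomputable def OPL0_s9_268 (i : Nat) : Nat := Bool.rec (motive := fun _ => Nat) 0 OPL0_p268 (Nat.beq (Nat.land (Nat.shiftRight i 9) 1) 0)
noncomputable def OPL0_s9_269 (i : Nat) : Nat := Bool.rec (motive := fun _ => Nat) 0 OPL0_p269 (Nat.beq (Nat.land (Nat.shiftRight i 9) 1) 0)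
noncomputable def OPL0_s9_270 (i : Nat) : Nat := Bool.rec (motive := fun _ => Nat) 0 OPL0_p270 (Nat.beq (Nat.land (Nat.shiftRight i 9) 1) 0)
noncomputable def OPL0_s9_271 (i : Nat) : Nat := Bool.rec (motive := fun _ => Nat) 0 OPL0_p271 (Nat.beq (Nat.land (Nat.shiftRight i 9) 1) 0)
noncomputable def OPL0_s9_272 (i : Nat) : Nat := Bool.rec (motive := fun _ => Nat) 0 OPL0_p272 (Nat.beq (Nat.land (Nat.shiftRight i 9) 1) 0)
noncomputable def OPL0_s9_273 (i : Nat) : Nat := Bool.rec (motive := fun _ => Nat) 0 OPL0_p273 (Nat.beq (Nat.land (Nat.shiftRight i 9) 1) 0)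
noncomputable def OPL0_s9_274 (i : Nat) : Nat := Bool.rec (motive := fun _ => Nat) 0 OPL0_p274 (Nat.beq (Nat.land (Nat.shiftRight i 9) 1) 0)
noncomputable def OPL0_s9_275 (i : Nat) : Nat := Bool.rec (motive := fun _ => Nat) 0 OPL0_p275 (Nat.beq (Nat.land (Nat.shiftRight i 9) 1) 0)
noncomputable def OPL0_s9_276 (i : Nat) : Nat := Bool.rec (motive := fun _ => Nat) 0 OPL0_p276 (Nat.beq (Nat.land (Nat.shiftRight i 9) 1) 0)
noncomputable def OPL0_s9_277 (i : Nat) : Nat := Bool.rec (motive := fun _ => Nat) 0 OPL0_p277 (Nat.beq (Nat.land (Nat.shiftRight i 9) 1) 0)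
noncomputable def OPL0_s9_278 (i : Nat) : Nat := Bool.rec (motive := fun _ => Nat) 0 OPL0_p278 (Nat.beq (Nat.land (Nat.shiftRight i 9) 1) 0)
noncomputable def OPL0_s9_279 (i : Nat) : Nat := Bool.rec (motive := fun _ => Nat) 0 OPL0_p279 (Nat.beq (Nat.land (Nat.shiftRight i 9) 1) 0)
noncomputable def OPL0_s9_280 (i : Nat) : Nat := Bool.rec (motive := fun _ => Nat) 0 OPL0_p280 (Nat.beq (Nat.land (Nat.shiftRight i 9) 1) 0)
noncomputable def OPL0_s9_281 (i : Nat) : Nat := Bool.rec (motive := fun _ => Nat) 0 OPL0_p281 (Nat.beq (Nat.land (Nat.shiftRight i 9) 1) 0)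
noncomputable def OPL0_s9_282 (i : Nat) : Nat := Bool.rec (motive := fun _ => Nat) 0 OPL0_p282 (Nat.beq (Nat.land (Nat.shiftRight i 9) 1) 0)
noncomputable def OPL0_s9_283 (i : Nat) : Nat := Bool.rec (motive := fun _ => Nat) 0 OPL0_p283 (Nat.beq (Nat.land (Nat.shiftRight i 9) 1) 0)
noncomputable def OPL0_s9_284 (i : Nat) : Nat := Bool.rec (motive := fun _ => Nat) 0 OPL0_p284 (Nat.beq (Nat.land (Nat.shiftRight i 9) 1) 0)
noncomputable def OPL0_s9_285 (i : Nat) : Nat := Bool.rec (motive := fun _ => Nat) 0 OPL0_p285 (Nat.beq (Nat.land (Nat.shiftRight i 9) 1) 0)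
noncomputable def OPL0_s9_286 (i : Nat) : Nat := Bool.rec (motive := fun _ => Nat) 0 OPL0_p286 (Nat.beq (Nat.land (Nat.shiftRight i 9) 1) 0)
noncomputable def OPL0_s9_287 (i : Nat) : Nat := Bool.rec (motive := fun _ => Nat) 0 OPL0_p287 (Nat.beq (Nat.land (Nat.shiftRight i 9) 1) 0)
noncomputable def OPL0_s9_288 (i : Nat) : Nat := Bool.rec (motive := fun _ => Nat) 0 OPL0_p288 (Nat.beq (Nat.land (Nat.shiftRight i 9) 1) 0)
noncomputable def OPL0_s9_289 (i : Nat) : Nat := Bool.rec (motive := fun _ => Nat) 0 OPL0_p289 (Nat.beq (Nat.land (Nat.shiftRight i 9) 1) 0)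
noncomputable def OPL0_s9_290 (i : Nat) : Nat := Bool.rec (motive := fun _ => Nat) 0 OPL0_p290 (Nat.beq (Nat.land (Nat.shiftRight i 9) 1) 0)
noncomputable def OPL0_s9_291 (i : Nat) : Nat := Bool.rec (motive := fun _ => Nat) 0 OPL0_p291 (Nat.beq (Nat.land (Nat.shiftRight i 9) 1) 0)
noncomputable def OPL0_s9_292 (i : Nat) : Nat := Bool.rec (motive := fun _ => Nat) 0 OPL0_p292 (Nat.beq (Nat.land (Nat.shiftRight i 9) 1) 0)
noncomputable def OPL0_s9_293 (i : Nat) : Nat := Bool.rec (motive := fun _ => Nat) 0 OPL0_p293 (Nat.beq (Nat.land (Nat.shiftRight i 9) 1) 0)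
noncomputable def OPL0_s9_294 (i : Nat) : Nat := Bool.rec (motive := fun _ => Nat) 0 OPL0_p294 (Nat.beq (Nat.land (Nat.shiftRight i 9) 1) 0)
noncomputable def OPL0_s9_295 (i : Nat) : Nat := Bool.rec (motive := fun _ => Nat) 0 OPL0_p295 (Nat.beq (Nat.land (Nat.shiftRight i 9) 1) 0)
noncomputable def OPL0_s9_296 (i : Nat) : Nat := Bool.rec (motive := fun _ => Nat) 0 OPL0_p296 (Nat.beq (Nat.land (Nat.shiftRight i 9) 1) 0)
noncomputable def OPL0_s9_297 (i : Nat) : Nat := Bool.rec (motive := fun _ => Nat) 0 OPL0_p297 (Nat.beq (Nat.land (Nat.shiftRight i 9) 1) 0)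
noncomputable def OPL0_s9_298 (i : Nat) : Nat := Bool.rec (motive := fun _ => Nat) 0 OPL0_p298 (Nat.beq (Nat.land (Nat.shiftRight i 9) 1) 0)
noncomputable def OPL0_s9_299 (i : Nat) : Nat := Bool.rec (motive := fun _ => Nat) 0 OPL0_p299 (Nat.beq (Nat.land (Nat.shiftRight i 9) 1) 0)
noncomputable def OPL0_s9_300 (i : Nat) : Nat := Bool.rec (motive := fun _ => Nat) 0 OPL0_p300 (Nat.beq (Nat.land (Nat.shiftRight i 9) 1) 0)
noncomputable def OPL0_s9_301 (i : Nat) : Nat := Bool.rec (motive := fun _ => Nat) 0 OPL0_p301 (Nat.beq (Nat.land (Nat.shiftRight i 9) 1) 0)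
noncomputable def OPL0_s9_302 (i : Nat) : Nat := Bool.rec (motive := fun _ => Nat) 0 OPL0_p302 (Nat.beq (Nat.land (Nat.shiftRight i 9) 1) 0)
noncomputable def OPL0_s9_303 (i : Nat) : Nat := Bool.rec (motive := fun _ => Nat) 0 OPL0_p303 (Nat.beq (Nat.land (Nat.shiftRight i 9) 1) 0)
noncomputable def OPL0_s9_304 (i : Nat) : Nat := Bool.rec (motive := fun _ => Nat) 0 OPL0_p304 (Nat.beq (Nat.land (Nat.shiftRight i 9) 1) 0)
noncomputable def OPL0_s9_305 (i : Nat) : Nat := Bool.rec (motive := fun _ => Nat) 0 OPL0_p305 (Nat.beq (Nat.land (Nat.shiftRight i 9) 1) 0)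
noncomputable def OPL0_s9_306 (i : Nat) : Nat := Bool.rec (motive := fun _ => Nat) 0 OPL0_p306 (Nat.beq (Nat.land (Nat.shiftRight i 9) 1) 0)
noncomputable def OPL0_s9_307 (i : Nat) : Nat := Bool.rec (motive := fun _ => Nat) 0 OPL0_p307 (Nat.beq (Nat.land (Nat.shiftRight i 9) 1) 0)
noncomputable def OPL0_s9_308 (i : Nat) : Nat := Bool.rec (motive := fun _ => Nat) 0 OPL0_p308 (Nat.beq (Nat.land (Nat.shiftRight i 9) 1) 0)
noncomputable def OPL0_s9_309 (i : Nat) : Nat := Bool.rec (motive := fun _ => Nat) 0 OPL0_p309 (Nat.beq (Nat.land (Nat.shiftRight i 9) 1) 0)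
noncomputable def OPL0_s9_310 (i : Nat) : Nat := Bool.rec (motive := fun _ => Nat) 0 OPL0_p310 (Nat.beq (Nat.land (Nat.shiftRight i 9) 1) 0)
noncomputable def OPL0_s9_311 (i : Nat) : Nat := Bool.rec (motive := fun _ => Nat) 0 OPL0_p311 (Nat.beq (Nat.land (Nat.shiftRight i 9) 1) 0)
noncomputable def OPL0_s9_312 (i : Nat) : Nat := Bool.rec (motive := fun _ => Nat) 0 OPL0_p312 (Nat.beq (Nat.land (Nat.shiftRight i 9) 1) 0)
noncomputable def OPL0_s9_313 (i : Nat) : Nat := Bool.rec (motive := fun _ => Nat) 0 OPL0_p313 (Nat.beq (Nat.land (Nat.shiftRight i 9) 1) 0)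
noncomputable def OPL0_s9_314 (i : Nat) : Nat := Bool.rec (motive := fun _ => Nat) 0 OPL0_p314 (Nat.beq (Nat.land (Nat.shiftRight i 9) 1) 0)
noncomputable def OPL0_s9_315 (i : Nat) : Nat := Bool.rec (motive := fun _ => Nat) 0 OPL0_p315 (Nat.beq (Nat.land (Nat.shiftRight i 9) 1) 0)
noncomputable def OPL0_s9_316 (i : Nat) : Nat := Bool.rec (motive := fun _ => Nat) 0 OPL0_p316 (Nat.beq (Nat.land (Nat.shiftRight i 9) 1) 0)
noncomputable def OPL0_s9_317 (i : Nat) : Nat := Bool.rec (motive := fun _ => Nat) 0 OPL0_p317 (Nat.beq (Nat.land (Nat.shiftRight i 9) 1) 0)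
noncomputable def OPL0_s9_318 (i : Nat) : Nat := Bool.rec (motive := fun _ => Nat) 0 OPL0_p318 (Nat.beq (Nat.land (Nat.shiftRight i 9) 1) 0)
noncomputable def OPL0_s9_319 (i : Nat) : Nat := Bool.rec (motive := fun _ => Nat) 0 OPL0_p319 (Nat.beq (Nat.land (Nat.shiftRight i 9) 1) 0)
noncomputable def OPL0_s9_320 (i : Nat) : Nat := Bool.rec (motive := fun _ => Nat) 0 OPL0_p320 (Nat.beq (Nat.land (Nat.shiftRight i 9) 1) 0)
noncomputable def OPL0_s9_321 (i : Nat) : Nat := Bool.rec (motive := fun _ => Nat) 0 OPL0_p321 (Nat.beq (Nat.land (Nat.shiftRight i 9) 1) 0)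
noncomputable def OPL0_s9_322 (i : Nat) : Nat := Bool.rec (motive := fun _ => Nat) 0 OPL0_p322 (Nat.beq (Nat.land (Nat.shiftRight i 9) 1) 0)
noncomputable def OPL0_s9_323 (i : Nat) : Nat := Bool.rec (motive := fun _ => Nat) 0 OPL0_p323 (Nat.beq (Nat.land (Nat.shiftRight i 9) 1) 0)
noncomputable def OPL0_s9_324 (i : Nat) : Nat := Bool.rec (motive := fun _ => Nat) 0 OPL0_p324 (Nat.beq (Nat.land (Nat.shiftRight i 9) 1) 0)
noncomputable def OPL0_s9_325 (i : Nat) : Nat := Bool.rec (motive := fun _ => Nat) 0 OPL0_p325 (Nat.beq (Nat.land (Nat.shiftRight i 9) 1) 0)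
noncomputable def OPL0_s9_326 (i : Nat) : Nat := Bool.rec (motive := fun _ => Nat) 0 OPL0_p326 (Nat.beq (Nat.land (Nat.shiftRight i 9) 1) 0)
noncomputable def OPL0_s9_327 (i : Nat) : Nat := Bool.rec (motive := fun _ => Nat) 0 OPL0_p327 (Nat.beq (Nat.land (Nat.shiftRight i 9) 1) 0)
noncomputable def OPL0_s9_328 (i : Nat) : Nat := Bool.rec (motive := fun _ => Nat) 0 OPL0_p328 (Nat.beq (Nat.land (Nat.shiftRight i 9) 1) 0)
noncomputable def OPL0_s9_329 (i : Nat) : Nat := Bool.rec (motive := fun _ => Nat) 0 OPL0_p329 (Nat.beq (Nat.land (Nat.shiftRight i 9) 1) 0)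
noncomputable def OPL0_s9_330 (i : Nat) : Nat := Bool.rec (motive := fun _ => Nat) 0 OPL0_p330 (Nat.beq (Nat.land (Nat.shiftRight i 9) 1) 0)
noncomputable def OPL0_s9_331 (i : Nat) : Nat := Bool.rec (motive := fun _ => Nat) 0 OPL0_p331 (Nat.beq (Nat.land (Nat.shiftRight i 9) 1) 0)
noncomputable def OPL0_s9_332 (i : Nat) : Nat := Bool.rec (motive := fun _ => Nat) 0 OPL0_p332 (Nat.beq (Nat.land (Nat.shiftRight i 9) 1) 0)
noncomputable def OPL0_s9_333 (i : Nat) : Nat := Bool.rec (motive := fun _ => Nat) 0 OPL0_p333 (Nat.beq (Nat.land (Nat.shiftRight i 9) 1) 0)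
noncomputable def OPL0_s9_334 (i : Nat) : Nat := Bool.rec (motive := fun _ => Nat) 0 OPL0_p334 (Nat.beq (Nat.land (Nat.shiftRight i 9) 1) 0)
noncomputable def OPL0_s9_335 (i : Nat) : Nat := Bool.rec (motive := fun _ => Nat) 0 OPL0_p335 (Nat.beq (Nat.land (Nat.shiftRight i 9) 1) 0)
noncomputable def OPL0_s9_336 (i : Nat) : Nat := Bool.rec (motive := fun _ => Nat) 0 OPL0_p336 (Nat.beq (Nat.land (Nat.shiftRight i 9) 1) 0)
noncomputable def OPL0_s9_337 (i : Nat) : Nat := Bool.rec (motive := fun _ => Nat) 0 OPL0_p337 (Nat.beq (Nat.land (Nat.shiftRight i 9) 1) 0)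
noncomputable def OPL0_s9_338 (i : Nat) : Nat := Bool.rec (motive := fun _ => Nat) 0 OPL0_p338 (Nat.beq (Nat.land (Nat.shiftRight i 9) 1) 0)
noncomputable def OPL0_s9_339 (i : Nat) : Nat := Bool.rec (motive := fun _ => Nat) 0 OPL0_p339 (Nat.beq (Nat.land (Nat.shiftRight i 9) 1) 0)
noncomputable def OPL0_s9_340 (i : Nat) : Nat := Bool.rec (motive := fun _ => Nat) 0 OPL0_p340 (Nat.beq (Nat.land (Nat.shiftRight i 9) 1) 0)
noncomputable def OPL0_s9_341 (i : Nat) : Nat := Bool.rec (motive := fun _ => Nat) 0 OPL0_p341 (Nat.beq (Nat.land (Nat.shiftRight i 9) 1) 0)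
noncomputable def OPL0_s9_342 (i : Nat) : Nat := Bool.rec (motive := fun _ => Nat) 0 OPL0_p342 (Nat.beq (Nat.land (Nat.shiftRight i 9) 1) 0)
noncomputable def OPL0_s9_343 (i : Nat) : Nat := Bool.rec (motive := fun _ => Nat) 0 OPL0_p343 (Nat.beq (Nat.land (Nat.shiftRight i 9) 1) 0)
noncomputable def OPL0_s9_344 (i : Nat) : Nat := Bool.rec (motive := fun _ => Nat) 0 OPL0_p344 (Nat.beq (Nat.land (Nat.shiftRight i 9) 1) 0)
noncomputable def OPL0_s9_345 (i : Nat) : Nat := Bool.rec (motive := fun _ => Nat) 0 OPL0_p345 (Nat.beq (Nat.land (Nat.shiftRight i 9) 1) 0)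
noncomputable def OPL0_s9_346 (i : Nat) : Nat := Bool.rec (motive := fun _ => Nat) 0 OPL0_p346 (Nat.beq (Nat.land (Nat.shiftRight i 9) 1) 0)
noncomputable def OPL0_s9_347 (i : Nat) : Nat := Bool.rec (motive := fun _ => Nat) 0 OPL0_p347 (Nat.beq (Nat.land (Nat.shiftRight i 9) 1) 0)
noncomputable def OPL0_s9_348 (i : Nat) : Nat := Bool.rec (motive := fun _ => Nat) 0 OPL0_p348 (Nat.beq (Nat.land (Nat.shiftRight i 9) 1) 0)
noncomputable def OPL0_s9_349 (i : Nat) : Nat := Bool.rec (motive := fun _ => Nat) 0 OPL0_p349 (Nat.beq (Nat.land (Nat.shiftRight i 9) 1) 0)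
noncomputable def OPL0_s9_350 (i : Nat) : Nat := Bool.rec (motive := fun _ => Nat) 0 OPL0_p350 (Nat.beq (Nat.land (Nat.shiftRight i 9) 1) 0)
noncomputable def OPL0_s9_351 (i : Nat) : Nat := Bool.rec (motive := fun _ => Nat) 0 OPL0_p351 (Nat.beq (Nat.land (Nat.shiftRight i 9) 1) 0)
noncomputable def OPL0_s9_352 (i : Nat) : Nat := Bool.rec (motive := fun _ => Nat) 0 OPL0_p352 (Nat.beq (Nat.land (Nat.shiftRight i 9) 1) 0)
noncomputable def OPL0_s9_353 (i : Nat) : Nat := Bool.rec (motive := fun _ => Nat) 0 OPL0_p353 (Nat.beq (Nat.land (Nat.shiftRight i 9) 1) 0)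
noncomputable def OPL0_s9_354 (i : Nat) : Nat := Bool.rec (motive := fun _ => Nat) 0 OPL0_p354 (Nat.beq (Nat.land (Nat.shiftRight i 9) 1) 0)
noncomputable def OPL0_s9_355 (i : Nat) : Nat := Bool.rec (motive := fun _ => Nat) 0 OPL0_p355 (Nat.beq (Nat.land (Nat.shiftRight i 9) 1) 0)
noncomputable def OPL0_s9_356 (i : Nat) : Nat := Bool.rec (motive := fun _ => Nat) 0 OPL0_p356 (Nat.beq (Nat.land (Nat.shiftRight i 9) 1) 0)
noncomputable def OPL0_s9_357 (i : Nat) : Nat := Bool.rec (motive := fun _ => Nat) 0 OPL0_p357 (Nat.beq (Nat.land (Nat.shiftRight i 9) 1) 0)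
noncomputable def OPL0_s9_358 (i : Nat) : Nat := Bool.rec (motive := fun _ => Nat) 0 OPL0_p358 (Nat.beq (Nat.land (Nat.shiftRight i 9) 1) 0)
noncomputable def OPL0_s9_359 (i : Nat) : Nat := Bool.rec (motive := fun _ => Nat) 0 OPL0_p359 (Nat.beq (Nat.land (Nat.shiftRight i 9) 1) 0)
noncomputable def OPL0_s9_360 (i : Nat) : Nat := Bool.rec (motive := fun _ => Nat) 0 OPL0_p360 (Nat.beq (Nat.land (Nat.shiftRight i 9) 1) 0)
noncomputable def OPL0_s9_361 (i : Nat) : Nat := Bool.rec (motive := fun _ => Nat) 0 OPL0_p361 (Nat.beq (Nat.land (Nat.shiftRight i 9) 1) 0)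
noncomputable def OPL0_s9_362 (i : Nat) : Nat := Bool.rec (motive := fun _ => Nat) 0 OPL0_p362 (Nat.beq (Nat.land (Nat.shiftRight i 9) 1) 0)
noncomputable def OPL0_s9_363 (i : Nat) : Nat := Bool.rec (motive := fun _ => Nat) 0 OPL0_p363 (Nat.beq (Nat.land (Nat.shiftRight i 9) 1) 0)
noncomputable def OPL0_s9_364 (i : Nat) : Nat := Bool.rec (motive := fun _ => Nat) 0 OPL0_p364 (Nat.beq (Nat.land (Nat.shiftRight i 9) 1) 0)
noncomputable def OPL0_s9_365 (i : Nat) : Nat := Bool.rec (motive := fun _ => Nat) 0 OPL0_p365 (Nat.beq (Nat.land (Nat.shiftRight i 9) 1) 0)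
noncomputable def OPL0_s9_366 (i : Nat) : Nat := Bool.rec (motive := fun _ => Nat) 0 OPL0_p366 (Nat.beq (Nat.land (Nat.shiftRight i 9) 1) 0)
noncomputable def OPL0_s9_367 (i : Nat) : Nat := Bool.rec (motive := fun _ => Nat) 0 OPL0_p367 (Nat.beq (Nat.land (Nat.shiftRight i 9) 1) 0)
noncomputable def OPL0_s9_368 (i : Nat) : Nat := Bool.rec (motive := fun _ => Nat) 0 OPL0_p368 (Nat.beq (Nat.land (Nat.shiftRight i 9) 1) 0)
noncomputable def OPL0_s9_369 (i : Nat) : Nat := Bool.rec (motive := fun _ => Nat) 0 OPL0_p369 (Nat.beq (Nat.land (Nat.shiftRight i 9) 1) 0)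
noncomputable def OPL0_s9_370 (i : Nat) : Nat := Bool.rec (motive := fun _ => Nat) 0 OPL0_p370 (Nat.beq (Nat.land (Nat.shiftRight i 9) 1) 0)
noncomputable def OPL0_s9_371 (i : Nat) : Nat := Bool.rec (motive := fun _ => Nat) 0 OPL0_p371 (Nat.beq (Nat.land (Nat.shiftRight i 9) 1) 0)
noncomputable def OPL0_s9_372 (i : Nat) : Nat := Bool.rec (motive := fun _ => Nat) 0 OPL0_p372 (Nat.beq (Nat.land (Nat.shiftRight i 9) 1) 0)
noncomputable def OPL0_s9_373 (i : Nat) : Nat := Bool.rec (motive := fun _ => Nat) 0 OPL0_p373 (Nat.beq (Nat.land (Nat.shiftRight i 9) 1) 0)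
noncomputable def OPL0_s9_374 (i : Nat) : Nat := Bool.rec (motive := fun _ => Nat) 0 OPL0_p374 (Nat.beq (Nat.land (Nat.shiftRight i 9) 1) 0)
noncomputable def OPL0_s9_375 (i : Nat) : Nat := Bool.rec (motive := fun _ => Nat) 0 OPL0_p375 (Nat.beq (Nat.land (Nat.shiftRight i 9) 1) 0)
noncomputable def OPL0_s9_376 (i : Nat) : Nat := Bool.rec (motive := fun _ => Nat) 0 OPL0_p376 (Nat.beq (Nat.land (Nat.shiftRight i 9) 1) 0)
noncomputable def OPL0_s9_377 (i : Nat) : Nat := Bool.rec (motive := fun _ => Nat) 0 OPL0_p377 (Nat.beq (Nat.land (Nat.shiftRight i 9) 1) 0)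
noncomputable def OPL0_s9_378 (i : Nat) : Nat := Bool.rec (motive := fun _ => Nat) 0 OPL0_p378 (Nat.beq (Nat.land (Nat.shiftRight i 9) 1) 0)
noncomputable def OPL0_s9_379 (i : Nat) : Nat := Bool.rec (motive := fun _ => Nat) 0 OPL0_p379 (Nat.beq (Nat.land (Nat.shiftRight i 9) 1) 0)
noncomputable def OPL0_s9_380 (i : Nat) : Nat := Bool.rec (motive := fun _ => Nat) 0 OPL0_p380 (Nat.beq (Nat.land (Nat.shiftRight i 9) 1) 0)
noncomputable def OPL0_s9_381 (i : Nat) : Nat := Bool.rec (motive := fun _ => Nat) 0 OPL0_p381 (Nat.beq (Nat.land (Nat.shiftRight i 9) 1) 0)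
noncomputable def OPL0_s9_382 (i : Nat) : Nat := Bool.rec (motive := fun _ => Nat) 0 OPL0_p382 (Nat.beq (Nat.land (Nat.shiftRight i 9) 1) 0)
noncomputable def OPL0_s9_383 (i : Nat) : Nat := Bool.rec (motive := fun _ => Nat) 0 OPL0_p383 (Nat.beq (Nat.land (Nat.shiftRight i 9) 1) 0)
noncomputable def OPL0_s9_384 (i : Nat) : Nat := Bool.rec (motive := fun _ => Nat) 0 OPL0_p384 (Nat.beq (Nat.land (Nat.shiftRight i 9) 1) 0)
noncomputable def OPL0_s9_385 (i : Nat) : Nat := Bool.rec (motive := fun _ => Nat) 0 OPL0_p385 (Nat.beq (Nat.land (Nat.shiftRight i 9) 1) 0)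
noncomputable def OPL0_s9_386 (i : Nat) : Nat := Bool.rec (motive := fun _ => Nat) 0 OPL0_p386 (Nat.beq (Nat.land (Nat.shiftRight i 9) 1) 0)
noncomputable def OPL0_s9_387 (i : Nat) : Nat := Bool.rec (motive := fun _ => Nat) 0 OPL0_p387 (Nat.beq (Nat.land (Nat.shiftRight i 9) 1) 0)
noncomputable def OPL0_s9_388 (i : Nat) : Nat := Bool.rec (motive := fun _ => Nat) 0 OPL0_p388 (Nat.beq (Nat.land (Nat.shiftRight i 9) 1) 0)
noncomputable def OPL0_s9_389 (i : Nat) : Nat := Bool.rec (motive := fun _ => Nat) 0 OPL0_p389 (Nat.beq (Nat.land (Nat.shiftRight i 9) 1) 0)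
noncomputable def OPL0_s9_390 (i : Nat) : Nat := Bool.rec (motive := fun _ => Nat) 0 OPL0_p390 (Nat.beq (Nat.land (Nat.shiftRight i 9) 1) 0)
noncomputable def OPL0_s9_391 (i : Nat) : Nat := Bool.rec (motive := fun _ => Nat) 0 OPL0_p391 (Nat.beq (Nat.land (Nat.shiftRight i 9) 1) 0)
noncomputable def OPL0_s9_392 (i : Nat) : Nat := Bool.rec (motive := fun _ => Nat) 0 OPL0_p392 (Nat.beq (Nat.land (Nat.shiftRight i 9) 1) 0)
noncomputable def OPL0_s9_393 (i : Nat) : Nat := Bool.rec (motive := fun _ => Nat) 0 OPL0_p393 (Nat.beq (Nat.land (Nat.shiftRight i 9) 1) 0)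
noncomputable def OPL0_s9_394 (i : Nat) : Nat := Bool.rec (motive := fun _ => Nat) 0 OPL0_p394 (Nat.beq (Nat.land (Nat.shiftRight i 9) 1) 0)
noncomputable def OPL0_s9_395 (i : Nat) : Nat := Bool.rec (motive := fun _ => Nat) 0 OPL0_p395 (Nat.beq (Nat.land (Nat.shiftRight i 9) 1) 0)
noncomputable def OPL0_s9_396 (i : Nat) : Nat := Bool.rec (motive := fun _ => Nat) 0 OPL0_p396 (Nat.beq (Nat.land (Nat.shiftRight i 9) 1) 0)
noncomputable def OPL0_s9_397 (i : Nat) : Nat := Bool.rec (motive := fun _ => Nat) 0 OPL0_p397 (Nat.beq (Nat.land (Nat.shiftRight i 9) 1) 0)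
noncomputable def OPL0_s9_398 (i : Nat) : Nat := Bool.rec (motive := fun _ => Nat) 0 OPL0_p398 (Nat.beq (Nat.land (Nat.shiftRight i 9) 1) 0)
noncomputable def OPL0_s9_399 (i : Nat) : Nat := Bool.rec (motive := fun _ => Nat) 0 OPL0_p399 (Nat.beq (Nat.land (Nat.shiftRight i 9) 1) 0)
noncomputable def OPL0_s9_400 (i : Nat) : Nat := Bool.rec (motive := fun _ => Nat) 0 OPL0_p400 (Nat.beq (Nat.land (Nat.shiftRight i 9) 1) 0)
noncomputable def OPL0_s9_401 (i : Nat) : Nat := Bool.rec (motive := fun _ => Nat) 0 OPL0_p401 (Nat.beq (Nat.land (Nat.shiftRight i 9) 1) 0)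
noncomputable def OPL0_s9_402 (i : Nat) : Nat := Bool.rec (motive := fun _ => Nat) 0 OPL0_p402 (Nat.beq (Nat.land (Nat.shiftRight i 9) 1) 0)
noncomputable def OPL0_s9_403 (i : Nat) : Nat := Bool.rec (motive := fun _ => Nat) 0 OPL0_p403 (Nat.beq (Nat.land (Nat.shiftRight i 9) 1) 0)
noncomputable def OPL0_s9_404 (i : Nat) : Nat := Bool.rec (motive := fun _ => Nat) 0 OPL0_p404 (Nat.beq (Nat.land (Nat.shiftRight i 9) 1) 0)
noncomputable def OPL0_s9_405 (i : Nat) : Nat := Bool.rec (motive := fun _ => Nat) 0 OPL0_p405 (Nat.beq (Nat.land (Nat.shiftRight i 9) 1) 0)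
noncomputable def OPL0_s9_406 (i : Nat) : Nat := Bool.rec (motive := fun _ => Nat) 0 OPL0_p406 (Nat.beq (Nat.land (Nat.shiftRight i 9) 1) 0)
noncomputable def OPL0_s9_407 (i : Nat) : Nat := Bool.rec (motive := fun _ => Nat) 0 OPL0_p407 (Nat.beq (Nat.land (Nat.shiftRight i 9) 1) 0)
noncomputable def OPL0_s9_408 (i : Nat) : Nat := Bool.rec (motive := fun _ => Nat) 0 OPL0_p408 (Nat.beq (Nat.land (Nat.shiftRight i 9) 1) 0)
noncomputable def OPL0_s9_409 (i : Nat) : Nat := Bool.rec (motive := fun _ => Nat) 0 OPL0_p409 (Nat.beq (Nat.land (Nat.shiftRight i 9) 1) 0)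
noncomputable def OPL0_s9_410 (i : Nat) : Nat := Bool.rec (motive := fun _ => Nat) 0 OPL0_p410 (Nat.beq (Nat.land (Nat.shiftRight i 9) 1) 0)
noncomputable def OPL0_s9_411 (i : Nat) : Nat := Bool.rec (motive := fun _ => Nat) 0 OPL0_p411 (Nat.beq (Nat.land (Nat.shiftRight i 9) 1) 0)
noncomputable def OPL0_s9_412 (i : Nat) : Nat := Bool.rec (motive := fun _ => Nat) 0 OPL0_p412 (Nat.beq (Nat.land (Nat.shiftRight i 9) 1) 0)
noncomputable def OPL0_s9_413 (i : Nat) : Nat := Bool.rec (motive := fun _ => Nat) 0 OPL0_p413 (Nat.beq (Nat.land (Nat.shiftRight i 9) 1) 0)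
noncomputable def OPL0_s9_414 (i : Nat) : Nat := Bool.rec (motive := fun _ => Nat) 0 OPL0_p414 (Nat.beq (Nat.land (Nat.shiftRight i 9) 1) 0)
noncomputable def OPL0_s9_415 (i : Nat) : Nat := Bool.rec (motive := fun _ => Nat) 0 OPL0_p415 (Nat.beq (Nat.land (Nat.shiftRight i 9) 1) 0)
noncomputable def OPL0_s9_416 (i : Nat) : Nat := Bool.rec (motive := fun _ => Nat) 0 OPL0_p416 (Nat.beq (Nat.land (Nat.shiftRight i 9) 1) 0)
noncomputable def OPL0_s9_417 (i : Nat) : Nat := Bool.rec (motive := fun _ => Nat) 0 OPL0_p417 (Nat.beq (Nat.land (Nat.shiftRight i 9) 1) 0)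
noncomputable def OPL0_s9_418 (i : Nat) : Nat := Bool.rec (motive := fun _ => Nat) 0 OPL0_p418 (Nat.beq (Nat.land (Nat.shiftRight i 9) 1) 0)
noncomputable def OPL0_s9_419 (i : Nat) : Nat := Bool.rec (motive := fun _ => Nat) 0 OPL0_p419 (Nat.beq (Nat.land (Nat.shiftRight i 9) 1) 0)
noncomputable def OPL0_s9_420 (i : Nat) : Nat := Bool.rec (motive := fun _ => Nat) 0 OPL0_p420 (Nat.beq (Nat.land (Nat.shiftRight i 9) 1) 0)
noncomputable def OPL0_s9_421 (i : Nat) : Nat := Bool.rec (motive := fun _ => Nat) 0 OPL0_p421 (Nat.beq (Nat.land (Nat.shiftRight i 9) 1) 0)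
noncomputable def OPL0_s9_422 (i : Nat) : Nat := Bool.rec (motive := fun _ => Nat) 0 OPL0_p422 (Nat.beq (Nat.land (Nat.shiftRight i 9) 1) 0)
noncomputable def OPL0_s9_423 (i : Nat) : Nat := Bool.rec (motive := fun _ => Nat) 0 OPL0_p423 (Nat.beq (Nat.land (Nat.shiftRight i 9) 1) 0)
noncomputable def OPL0_s9_424 (i : Nat) : Nat := Bool.rec (motive := fun _ => Nat) 0 OPL0_p424 (Nat.beq (Nat.land (Nat.shiftRight i 9) 1) 0)
noncomputable def OPL0_s9_425 (i : Nat) : Nat := Bool.rec (motive := fun _ => Nat) 0 OPL0_p425 (Nat.beq (Nat.land (Nat.shiftRight i 9) 1) 0)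
noncomputable def OPL0_s9_426 (i : Nat) : Nat := Bool.rec (motive := fun _ => Nat) 0 OPL0_p426 (Nat.beq (Nat.land (Nat.shiftRight i 9) 1) 0)
noncomputable def OPL0_s9_427 (i : Nat) : Nat := Bool.rec (motive := fun _ => Nat) 0 OPL0_p427 (Nat.beq (Nat.land (Nat.shiftRight i 9) 1) 0)
noncomputable def OPL0_s9_428 (i : Nat) : Nat := Bool.rec (motive := fun _ => Nat) 0 OPL0_p428 (Nat.beq (Nat.land (Nat.shiftRight i 9) 1) 0)
noncomputable def OPL0_s9_429 (i : Nat) : Nat := Bool.rec (motive := fun _ => Nat) 0 OPL0_p429 (Nat.beq (Nat.land (Nat.shiftRight i 9) 1) 0)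
noncomputable def OPL0_s9_430 (i : Nat) : Nat := Bool.rec (motive := fun _ => Nat) 0 OPL0_p430 (Nat.beq (Nat.land (Nat.shiftRight i 9) 1) 0)
noncomputable def OPL0_s9_431 (i : Nat) : Nat := Bool.rec (motive := fun _ => Nat) 0 OPL0_p431 (Nat.beq (Nat.land (Nat.shiftRight i 9) 1) 0)
noncomputable def OPL0_s9_432 (i : Nat) : Nat := Bool.rec (motive := fun _ => Nat) 0 OPL0_p432 (Nat.beq (Nat.land (Nat.shiftRight i 9) 1) 0)
noncomputable def OPL0_s9_433 (i : Nat) : Nat := Bool.rec (motive := fun _ => Nat) 0 OPL0_p433 (Nat.beq (Nat.land (Nat.shiftRight i 9) 1) 0)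
noncomputable def OPL0_s9_434 (i : Nat) : Nat := Bool.rec (motive := fun _ => Nat) 0 OPL0_p434 (Nat.beq (Nat.land (Nat.shiftRight i 9) 1) 0)
noncomputable def OPL0_s9_435 (i : Nat) : Nat := Bool.rec (motive := fun _ => Nat) 0 OPL0_p435 (Nat.beq (Nat.land (Nat.shiftRight i 9) 1) 0)
noncomputable def OPL0_s9_436 (i : Nat) : Nat := Bool.rec (motive := fun _ => Nat) 0 OPL0_p436 (Nat.beq (Nat.land (Nat.shiftRight i 9) 1) 0)
noncomputable def OPL0_s9_437 (i : Nat) : Nat := Bool.rec (motive := fun _ => Nat) 0 OPL0_p437 (Nat.beq (Nat.land (Nat.shiftRight i 9) 1) 0)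
noncomputable def OPL0_s9_438 (i : Nat) : Nat := Bool.rec (motive := fun _ => Nat) 0 OPL0_p438 (Nat.beq (Nat.land (Nat.shiftRight i 9) 1) 0)
noncomputable def OPL0_s9_439 (i : Nat) : Nat := Bool.rec (motive := fun _ => Nat) 0 OPL0_p439 (Nat.beq (Nat.land (Nat.shiftRight i 9) 1) 0)
noncomputable def OPL0_s9_440 (i : Nat) : Nat := Bool.rec (motive := fun _ => Nat) 0 OPL0_p440 (Nat.beq (Nat.land (Nat.shiftRight i 9) 1) 0)
noncomputable def OPL0_s9_441 (i : Nat) : Nat := Bool.rec (motive := fun _ => Nat) 0 OPL0_p441 (Nat.beq (Nat.land (Nat.shiftRight i 9) 1) 0)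
noncomputable def OPL0_s9_442 (i : Nat) : Nat := Bool.rec (motive := fun _ => Nat) 0 OPL0_p442 (Nat.beq (Nat.land (Nat.shiftRight i 9) 1) 0)
noncomputable def OPL0_s9_443 (i : Nat) : Nat := Bool.rec (motive := fun _ => Nat) 0 OPL0_p443 (Nat.beq (Nat.land (Nat.shiftRight i 9) 1) 0)
noncomputable def OPL0_s9_444 (i : Nat) : Nat := Bool.rec (motive := fun _ => Nat) 0 OPL0_p444 (Nat.beq (Nat.land (Nat.shiftRight i 9) 1) 0)
noncomputable def OPL0_s9_445 (i : Nat) : Nat := Bool.rec (motive := fun _ => Nat) 0 OPL0_p445 (Nat.beq (Nat.land (Nat.shiftRight i 9) 1) 0)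
noncomputable def OPL0_s9_446 (i : Nat) : Nat := Bool.rec (motive := fun _ => Nat) 0 OPL0_p446 (Nat.beq (Nat.land (Nat.shiftRight i 9) 1) 0)
noncomputable def OPL0_s9_447 (i : Nat) : Nat := Bool.rec (motive := fun _ => Nat) 0 OPL0_p447 (Nat.beq (Nat.land (Nat.shiftRight i 9) 1) 0)
noncomputable def OPL0_s9_448 (i : Nat) : Nat := Bool.rec (motive := fun _ => Nat) 0 OPL0_p448 (Nat.beq (Nat.land (Nat.shiftRight i 9) 1) 0)
noncomputable def OPL0_s9_449 (i : Nat) : Nat := Bool.rec (motive := fun _ => Nat) 0 OPL0_p449 (Nat.beq (Nat.land (Nat.shiftRight i 9) 1) 0)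
noncomputable def OPL0_s9_450 (i : Nat) : Nat := Bool.rec (motive := fun _ => Nat) 0 OPL0_p450 (Nat.beq (Nat.land (Nat.shiftRight i 9) 1) 0)
noncomputable def OPL0_s9_451 (i : Nat) : Nat := Bool.rec (motive := fun _ => Nat) 0 OPL0_p451 (Nat.beq (Nat.land (Nat.shiftRight i 9) 1) 0)
noncomputable def OPL0_s9_452 (i : Nat) : Nat := Bool.rec (motive := fun _ => Nat) 0 OPL0_p452 (Nat.beq (Nat.land (Nat.shiftRight i 9) 1) 0)
noncomputable def OPL0_s9_453 (i : Nat) : Nat := Bool.rec (motive := fun _ => Nat) 0 OPL0_p453 (Nat.beq (Nat.land (Nat.shiftRight i 9) 1) 0)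
noncomputable def OPL0_s9_454 (i : Nat) : Nat := Bool.rec (motive := fun _ => Nat) 0 OPL0_p454 (Nat.beq (Nat.land (Nat.shiftRight i 9) 1) 0)
noncomputable def OPL0_s9_455 (i : Nat) : Nat := Bool.rec (motive := fun _ => Nat) 0 OPL0_p455 (Nat.beq (Nat.land (Nat.shiftRight i 9) 1) 0)
noncomputable def OPL0_s9_456 (i : Nat) : Nat := Bool.rec (motive := fun _ => Nat) 0 OPL0_p456 (Nat.beq (Nat.land (Nat.shiftRight i 9) 1) 0)
noncomputable def OPL0_s9_457 (i : Nat) : Nat := Bool.rec (motive := fun _ => Nat) 0 OPL0_p457 (Nat.beq (Nat.land (Nat.shiftRight i 9) 1) 0)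
noncomputable def OPL0_s9_458 (i : Nat) : Nat := Bool.rec (motive := fun _ => Nat) 0 OPL0_p458 (Nat.beq (Nat.land (Nat.shiftRight i 9) 1) 0)
noncomputable def OPL0_s9_459 (i : Nat) : Nat := Bool.rec (motive := fun _ => Nat) 0 OPL0_p459 (Nat.beq (Nat.land (Nat.shiftRight i 9) 1) 0)
noncomputable def OPL0_s9_460 (i : Nat) : Nat := Bool.rec (motive := fun _ => Nat) 0 OPL0_p460 (Nat.beq (Nat.land (Nat.shiftRight i 9) 1) 0)
noncomputable def OPL0_s9_461 (i : Nat) : Nat := Bool.rec (motive := fun _ => Nat) 0 OPL0_p461 (Nat.beq (Nat.land (Nat.shiftRight i 9) 1) 0)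
noncomputable def OPL0_s9_462 (i : Nat) : Nat := Bool.rec (motive := fun _ => Nat) 0 OPL0_p462 (Nat.beq (Nat.land (Nat.shiftRight i 9) 1) 0)
noncomputable def OPL0_s9_463 (i : Nat) : Nat := Bool.rec (motive := fun _ => Nat) 0 OPL0_p463 (Nat.beq (Nat.land (Nat.shiftRight i 9) 1) 0)
noncomputable def OPL0_s9_464 (i : Nat) : Nat := Bool.rec (motive := fun _ => Nat) 0 OPL0_p464 (Nat.beq (Nat.land (Nat.shiftRight i 9) 1) 0)
noncomputable def OPL0_s9_465 (i : Nat) : Nat := Bool.rec (motive := fun _ => Nat) 0 OPL0_p465 (Nat.beq (Nat.land (Nat.shiftRight i 9) 1) 0)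
noncomputable def OPL0_s9_466 (i : Nat) : Nat := Bool.rec (motive := fun _ => Nat) 0 OPL0_p466 (Nat.beq (Nat.land (Nat.shiftRight i 9) 1) 0)
noncomputable def OPL0_s9_467 (i : Nat) : Nat := Bool.rec (motive := fun _ => Nat) 0 OPL0_p467 (Nat.beq (Nat.land (Nat.shiftRight i 9) 1) 0)
noncomputable def OPL0_s9_468 (i : Nat) : Nat := Bool.rec (motive := fun _ => Nat) 0 OPL0_p468 (Nat.beq (Nat.land (Nat.shiftRight i 9) 1) 0)
noncomputable def OPL0_s9_469 (i : Nat) : Nat := Bool.rec (motive := fun _ => Nat) 0 OPL0_p469 (Nat.beq (Nat.land (Nat.shiftRight i 9) 1) 0)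
noncomputable def OPL0_s9_470 (i : Nat) : Nat := Bool.rec (motive := fun _ => Nat) 0 OPL0_p470 (Nat.beq (Nat.land (Nat.shiftRight i 9) 1) 0)
noncomputable def OPL0_s9_471 (i : Nat) : Nat := Bool.rec (motive := fun _ => Nat) 0 OPL0_p471 (Nat.beq (Nat.land (Nat.shiftRight i 9) 1) 0)
noncomputable def OPL0_s9_472 (i : Nat) : Nat := Bool.rec (motive := fun _ => Nat) 0 OPL0_p472 (Nat.beq (Nat.land (Nat.shiftRight i 9) 1) 0)
noncomputable def OPL0_s9_473 (i : Nat) : Nat := Bool.rec (motive := fun _ => Nat) 0 OPL0_p473 (Nat.beq (Nat.land (Nat.shiftRight i 9) 1) 0)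
noncomputable def OPL0_s9_474 (i : Nat) : Nat := Bool.rec (motive := fun _ => Nat) 0 OPL0_p474 (Nat.beq (Nat.land (Nat.shiftRight i 9) 1) 0)
noncomputable def OPL0_s9_475 (i : Nat) : Nat := Bool.rec (motive := fun _ => Nat) 0 OPL0_p475 (Nat.beq (Nat.land (Nat.shiftRight i 9) 1) 0)
noncomputable def OPL0_s9_476 (i : Nat) : Nat := Bool.rec (motive := fun _ => Nat) 0 OPL0_p476 (Nat.beq (Nat.land (Nat.shiftRight i 9) 1) 0)
noncomputable def OPL0_s9_477 (i : Nat) : Nat := Bool.rec (motive := fun _ => Nat) 0 OPL0_p477 (Nat.beq (Nat.land (Nat.shiftRight i 9) 1) 0)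
noncomputable def OPL0_s9_478 (i : Nat) : Nat := Bool.rec (motive := fun _ => Nat) 0 OPL0_p478 (Nat.beq (Nat.land (Nat.shiftRight i 9) 1) 0)
noncomputable def OPL0_s9_479 (i : Nat) : Nat := Bool.rec (motive := fun _ => Nat) 0 OPL0_p479 (Nat.beq (Nat.land (Nat.shiftRight i 9) 1) 0)
noncomputable def OPL0_s9_480 (i : Nat) : Nat := Bool.rec (motive := fun _ => Nat) 0 OPL0_p480 (Nat.beq (Nat.land (Nat.shiftRight i 9) 1) 0)
noncomputable def OPL0_s9_481 (i : Nat) : Nat := Bool.rec (motive := fun _ => Nat) 0 OPL0_p481 (Nat.beq (Nat.land (Nat.shiftRight i 9) 1) 0)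
noncomputable def OPL0_s9_482 (i : Nat) : Nat := Bool.rec (motive := fun _ => Nat) 0 OPL0_p482 (Nat.beq (Nat.land (Nat.shiftRight i 9) 1) 0)
noncomputable def OPL0_s9_483 (i : Nat) : Nat := Bool.rec (motive := fun _ => Nat) 0 OPL0_p483 (Nat.beq (Nat.land (Nat.shiftRight i 9) 1) 0)
noncomputable def OPL0_s9_484 (i : Nat) : Nat := Bool.rec (motive := fun _ => Nat) 0 OPL0_p484 (Nat.beq (Nat.land (Nat.shiftRight i 9) 1) 0)
noncomputable def OPL0_s9_485 (i : Nat) : Nat := Bool.rec (motive := fun _ => Nat) 0 OPL0_p485 (Nat.beq (Nat.land (Nat.shiftRight i 9) 1) 0)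
noncomputable def OPL0_s9_486 (i : Nat) : Nat := Bool.rec (motive := fun _ => Nat) 0 OPL0_p486 (Nat.beq (Nat.land (Nat.shiftRight i 9) 1) 0)
noncomputable def OPL0_s9_487 (i : Nat) : Nat := Bool.rec (motive := fun _ => Nat) 0 OPL0_p487 (Nat.beq (Nat.land (Nat.shiftRight i 9) 1) 0)
noncomputable def OPL0_s9_488 (i : Nat) : Nat := Bool.rec (motive := fun _ => Nat) 0 OPL0_p488 (Nat.beq (Nat.land (Nat.shiftRight i 9) 1) 0)
noncomputable def OPL0_s9_489 (i : Nat) : Nat := Bool.rec (motive := fun _ => Nat) 0 OPL0_p489 (Nat.beq (Nat.land (Nat.shiftRight i 9) 1) 0)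
noncomputable def OPL0_s9_490 (i : Nat) : Nat := Bool.rec (motive := fun _ => Nat) 0 OPL0_p490 (Nat.beq (Nat.land (Nat.shiftRight i 9) 1) 0)
noncomputable def OPL0_s9_491 (i : Nat) : Nat := Bool.rec (motive := fun _ => Nat) 0 OPL0_p491 (Nat.beq (Nat.land (Nat.shiftRight i 9) 1) 0)
noncomputable def OPL0_s9_492 (i : Nat) : Nat := Bool.rec (motive := fun _ => Nat) 0 OPL0_p492 (Nat.beq (Nat.land (Nat.shiftRight i 9) 1) 0)
noncomputable def OPL0_s9_493 (i : Nat) : Nat := Bool.rec (motive := fun _ => Nat) 0 OPL0_p493 (Nat.beq (Nat.land (Nat.shiftRight i 9) 1) 0)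
noncomputable def OPL0_s9_494 (i : Nat) : Nat := Bool.rec (motive := fun _ => Nat) 0 OPL0_p494 (Nat.beq (Nat.land (Nat.shiftRight i 9) 1) 0)
noncomputable def OPL0_s9_495 (i : Nat) : Nat := Bool.rec (motive := fun _ => Nat) 0 OPL0_p495 (Nat.beq (Nat.land (Nat.shiftRight i 9) 1) 0)
noncomputable def OPL0_s9_496 (i : Nat) : Nat := Bool.rec (motive := fun _ => Nat) 0 OPL0_p496 (Nat.beq (Nat.land (Nat.shiftRight i 9) 1) 0)
noncomputable def OPL0_s9_497 (i : Nat) : Nat := Bool.rec (motive := fun _ => Nat) 0 OPL0_p497 (Nat.beq (Nat.land (Nat.shiftRight i 9) 1) 0)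
noncomputable def OPL0_s9_498 (i : Nat) : Nat := Bool.rec (motive := fun _ => Nat) 0 OPL0_p498 (Nat.beq (Nat.land (Nat.shiftRight i 9) 1) 0)
noncomputable def OPL0_s9_499 (i : Nat) : Nat := Bool.rec (motive := fun _ => Nat) 0 OPL0_p499 (Nat.beq (Nat.land (Nat.shiftRight i 9) 1) 0)
noncomputable def OPL0_s9_500 (i : Nat) : Nat := Bool.rec (motive := fun _ => Nat) 0 OPL0_p500 (Nat.beq (Nat.land (Nat.shiftRight i 9) 1) 0)
noncomputable def OPL0_s9_501 (i : Nat) : Nat := Bool.rec (motive := fun _ => Nat) 0 OPL0_p501 (Nat.beq (Nat.land (Nat.shiftRight i 9) 1) 0)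
noncomputable def OPL0_s9_502 (i : Nat) : Nat := Bool.rec (motive := fun _ => Nat) 0 OPL0_p502 (Nat.beq (Nat.land (Nat.shiftRight i 9) 1) 0)
noncomputable def OPL0_s9_503 (i : Nat) : Nat := Bool.rec (motive := fun _ => Nat) 0 OPL0_p503 (Nat.beq (Nat.land (Nat.shiftRight i 9) 1) 0)
noncomputable def OPL0_s9_504 (i : Nat) : Nat := Bool.rec (motive := fun _ => Nat) 0 OPL0_p504 (Nat.beq (Nat.land (Nat.shiftRight i 9) 1) 0)
noncomputable def OPL0_s9_505 (i : Nat) : Nat := Bool.rec (motive := fun _ => Nat) 0 OPL0_p505 (Nat.beq (Nat.land (Nat.shiftRight i 9) 1) 0)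
noncomputable def OPL0_s9_506 (i : Nat) : Nat := Bool.rec (motive := fun _ => Nat) 0 OPL0_p506 (Nat.beq (Nat.land (Nat.shiftRight i 9) 1) 0)
noncomputable def OPL0_s9_507 (i : Nat) : Nat := Bool.rec (motive := fun _ => Nat) 0 OPL0_p507 (Nat.beq (Nat.land (Nat.shiftRight i 9) 1) 0)
noncomputable def OPL0_s9_508 (i : Nat) : Nat := Bool.rec (motive := fun _ => Nat) 0 OPL0_p508 (Nat.beq (Nat.land (Nat.shiftRight i 9) 1) 0)
noncomputable def OPL0_s9_509 (i : Nat) : Nat := Bool.rec (motive := fun _ => Nat) 0 OPL0_p509 (Nat.beq (Nat.land (Nat.shiftRight i 9) 1) 0)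
noncomputable def OPL0_s9_510 (i : Nat) : Nat := Bool.rec (motive := fun _ => Nat) 0 OPL0_p510 (Nat.beq (Nat.land (Nat.shiftRight i 9) 1) 0)
noncomputable def OPL0_s9_511 (i : Nat) : Nat := Bool.rec (motive := fun _ => Nat) 0 OPL0_p511 (Nat.beq (Nat.land (Nat.shiftRight i 9) 1) 0)
noncomputable def OPL0_s8_0 (i : Nat) : Nat := Bool.rec (motive := fun _ => Nat) (OPL0_s9_256 i) (OPL0_s9_0 i) (Nat.beq (Nat.land (Nat.shiftRight i 8) 1) 0)
noncomputable def OPL0_s8_1 (i : Nat) : Nat := Bool.rec (motive := fun _ => Nat) (OPL0_s9_257 i) (OPL0_s9_1 i) (Nat.beq (Nat.land (Nat.shiftRight i 8) 1) 0)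
noncomputable def OPL0_s8_2 (i : Nat) : Nat := Bool.rec (motive := fun _ => Nat) (OPL0_s9_258 i) (OPL0_s9_2 i) (Nat.beq (Nat.land (Nat.shiftRight i 8) 1) 0)
noncomputable def OPL0_s8_3 (i : Nat) : Nat := Bool.rec (motive := fun _ => Nat) (OPL0_s9_259 i) (OPL0_s9_3 i) (Nat.beq (Nat.land (Nat.shiftRight i 8) 1) 0)
noncomputable def OPL0_s8_4 (i : Nat) : Nat := Bool.rec (motive := fun _ => Nat) (OPL0_s9_260 i) (OPL0_s9_4 i) (Nat.beq (Nat.land (Nat.shiftRight i 8) 1) 0)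
noncomputable def OPL0_s8_5 (i : Nat) : Nat := Bool.rec (motive := fun _ => Nat) (OPL0_s9_261 i) (OPL0_s9_5 i) (Nat.beq (Nat.land (Nat.shiftRight i 8) 1) 0)
noncomputable def OPL0_s8_6 (i : Nat) : Nat := Bool.rec (motive := fun _ => Nat) (OPL0_s9_262 i) (OPL0_s9_6 i) (Nat.beq (Nat.land (Nat.shiftRight i 8) 1) 0)
noncomputable def OPL0_s8_7 (i : Nat) : Nat := Bool.rec (motive := fun _ => Nat) (OPL0_s9_263 i) (OPL0_s9_7 i) (Nat.beq (Nat.land (Nat.shiftRight i 8) 1) 0)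
noncomputable def OPL0_s8_8 (i : Nat) : Nat := Bool.rec (motive := fun _ => Nat) (OPL0_s9_264 i) (OPL0_s9_8 i) (Nat.beq (Nat.land (Nat.shiftRight i 8) 1) 0)
noncomputable def OPL0_s8_9 (i : Nat) : Nat := Bool.rec (motive := fun _ => Nat) (OPL0_s9_265 i) (OPL0_s9_9 i) (Nat.beq (Nat.land (Nat.shiftRight i 8) 1) 0)
noncomputable def OPL0_s8_10 (i : Nat) : Nat := Bool.rec (motive := fun _ => Nat) (OPL0_s9_266 i) (OPL0_s9_10 i) (Nat.beq (Nat.land (Nat.shiftRight i 8) 1) 0)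
noncomputable def OPL0_s8_11 (i : Nat) : Nat := Bool.rec (motive := fun _ => Nat) (OPL0_s9_267 i) (OPL0_s9_11 i) (Nat.beq (Nat.land (Nat.shiftRight i 8) 1) 0)
noncomputable def OPL0_s8_12 (i : Nat) : Nat := Bool.rec (motive := fun _ => Nat) (OPL0_s9_268 i) (OPL0_s9_12 i) (Nat.beq (Nat.land (Nat.shiftRight i 8) 1) 0)
noncomputable def OPL0_s8_13 (i : Nat) : Nat := Bool.rec (motive := fun _ => Nat) (OPL0_s9_269 i) (OPL0_s9_13 i) (Nat.beq (Nat.land (Nat.shiftRight i 8) 1) 0)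
noncomputable def OPL0_s8_14 (i : Nat) : Nat := Bool.rec (motive := fun _ => Nat) (OPL0_s9_270 i) (OPL0_s9_14 i) (Nat.beq (Nat.land (Nat.shiftRight i 8) 1) 0)
noncomputable def OPL0_s8_15 (i : Nat) : Nat := Bool.rec (motive := fun _ => Nat) (OPL0_s9_271 i) (OPL0_s9_15 i) (Nat.beq (Nat.land (Nat.shiftRight i 8) 1) 0)
noncomputable def OPL0_s8_16 (i : Nat) : Nat := Bool.rec (motive := fun _ => Nat) (OPL0_s9_272 i) (OPL0_s9_16 i) (Nat.beq (Nat.land (Nat.shiftRight i 8) 1) 0)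
noncomputable def OPL0_s8_17 (i : Nat) : Nat := Bool.rec (motive := fun _ => Nat) (OPL0_s9_273 i) (OPL0_s9_17 i) (Nat.beq (Nat.land (Nat.shiftRight i 8) 1) 0)
noncomputable def OPL0_s8_18 (i : Nat) : Nat := Bool.rec (motive := fun _ => Nat) (OPL0_s9_274 i) (OPL0_s9_18 i) (Nat.beq (Nat.land (Nat.shiftRight i 8) 1) 0)
noncomputable def OPL0_s8_19 (i : Nat) : Nat := Bool.rec (motive := fun _ => Nat) (OPL0_s9_275 i) (OPL0_s9_19 i) (Nat.beq (Nat.land (Nat.shiftRight i 8) 1) 0)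
noncomputable def OPL0_s8_20 (i : Nat) : Nat := Bool.rec (motive := fun _ => Nat) (OPL0_s9_276 i) (OPL0_s9_20 i) (Nat.beq (Nat.land (Nat.shiftRight i 8) 1) 0)
noncomputable def OPL0_s8_21 (i : Nat) : Nat := Bool.rec (motive := fun _ => Nat) (OPL0_s9_277 i) (OPL0_s9_21 i) (Nat.beq (Nat.land (Nat.shiftRight i 8) 1) 0)
noncomputable def OPL0_s8_22 (i : Nat) : Nat := Bool.rec (motive := fun _ => Nat) (OPL0_s9_278 i) (OPL0_s9_22 i) (Nat.beq (Nat.land (Nat.shiftRight i 8) 1) 0)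
noncomputable def OPL0_s8_23 (i : Nat) : Nat := Bool.rec (motive := fun _ => Nat) (OPL0_s9_279 i) (OPL0_s9_23 i) (Nat.beq (Nat.land (Nat.shiftRight i 8) 1) 0)
noncomputable def OPL0_s8_24 (i : Nat) : Nat := Bool.rec (motive := fun _ => Nat) (OPL0_s9_280 i) (OPL0_s9_24 i) (Nat.beq (Nat.land (Nat.shiftRight i 8) 1) 0)
noncomputable def OPL0_s8_25 (i : Nat) : Nat := Bool.rec (motive := fun _ => Nat) (OPL0_s9_281 i) (OPL0_s9_25 i) (Nat.beq (Nat.land (Nat.shiftRight i 8) 1) 0)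
noncomputable def OPL0_s8_26 (i : Nat) : Nat := Bool.rec (motive := fun _ => Nat) (OPL0_s9_282 i) (OPL0_s9_26 i) (Nat.beq (Nat.land (Nat.shiftRight i 8) 1) 0)
noncomputable def OPL0_s8_27 (i : Nat) : Nat := Bool.rec (motive := fun _ => Nat) (OPL0_s9_283 i) (OPL0_s9_27 i) (Nat.beq (Nat.land (Nat.shiftRight i 8) 1) 0)
noncomputable def OPL0_s8_28 (i : Nat) : Nat := Bool.rec (motive := fun _ => Nat) (OPL0_s9_284 i) (OPL0_s9_28 i) (Nat.beq (Nat.land (Nat.shiftRight i 8) 1) 0)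
noncomputable def OPL0_s8_29 (i : Nat) : Nat := Bool.rec (motive := fun _ => Nat) (OPL0_s9_285 i) (OPL0_s9_29 i) (Nat.beq (Nat.land (Nat.shiftRight i 8) 1) 0)
noncomputable def OPL0_s8_30 (i : Nat) : Nat := Bool.rec (motive := fun _ => Nat) (OPL0_s9_286 i) (OPL0_s9_30 i) (Nat.beq (Nat.land (Nat.shiftRight i 8) 1) 0)
noncomputable def OPL0_s8_31 (i : Nat) : Nat := Bool.rec (motive := fun _ => Nat) (OPL0_s9_287 i) (OPL0_s9_31 i) (Nat.beq (Nat.land (Nat.shiftRight i 8) 1) 0)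
noncomputable def OPL0_s8_32 (i : Nat) : Nat := Bool.rec (motive := fun _ => Nat) (OPL0_s9_288 i) (OPL0_s9_32 i) (Nat.beq (Nat.land (Nat.shiftRight i 8) 1) 0)
noncomputable def OPL0_s8_33 (i : Nat) : Nat := Bool.rec (motive := fun _ => Nat) (OPL0_s9_289 i) (OPL0_s9_33 i) (Nat.beq (Nat.land (Nat.shiftRight i 8) 1) 0)
noncomputable def OPL0_s8_34 (i : Nat) : Nat := Bool.rec (motive := fun _ => Nat) (OPL0_s9_290 i) (OPL0_s9_34 i) (Nat.beq (Nat.land (Nat.shiftRight i 8) 1) 0)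
noncomputable def OPL0_s8_35 (i : Nat) : Nat := Bool.rec (motive := fun _ => Nat) (OPL0_s9_291 i) (OPL0_s9_35 i) (Nat.beq (Nat.land (Nat.shiftRight i 8) 1) 0)
noncomputable def OPL0_s8_36 (i : Nat) : Nat := Bool.rec (motive := fun _ => Nat) (OPL0_s9_292 i) (OPL0_s9_36 i) (Nat.beq (Nat.land (Nat.shiftRight i 8) 1) 0)
noncomputable def OPL0_s8_37 (i : Nat) : Nat := Bool.rec (motive := fun _ => Nat) (OPL0_s9_293 i) (OPL0_s9_37 i) (Nat.beq (Nat.land (Nat.shiftRight i 8) 1) 0)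
noncomputable def OPL0_s8_38 (i : Nat) : Nat := Bool.rec (motive := fun _ => Nat) (OPL0_s9_294 i) (OPL0_s9_38 i) (Nat.beq (Nat.land (Nat.shiftRight i 8) 1) 0)
noncomputable def OPL0_s8_39 (i : Nat) : Nat := Bool.rec (motive := fun _ => Nat) (OPL0_s9_295 i) (OPL0_s9_39 i) (Nat.beq (Nat.land (Nat.shiftRight i 8) 1) 0)
noncomputable def OPL0_s8_40 (i : Nat) : Nat := Bool.rec (motive := fun _ => Nat) (OPL0_s9_296 i) (OPL0_s9_40 i) (Nat.beq (Nat.land (Nat.shiftRight i 8) 1) 0)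
noncomputable def OPL0_s8_41 (i : Nat) : Nat := Bool.rec (motive := fun _ => Nat) (OPL0_s9_297 i) (OPL0_s9_41 i) (Nat.beq (Nat.land (Nat.shiftRight i 8) 1) 0)
noncomputable def OPL0_s8_42 (i : Nat) : Nat := Bool.rec (motive := fun _ => Nat) (OPL0_s9_298 i) (OPL0_s9_42 i) (Nat.beq (Nat.land (Nat.shiftRight i 8) 1) 0)
noncomputable def OPL0_s8_43 (i : Nat) : Nat := Bool.rec (motive := fun _ => Nat) (OPL0_s9_299 i) (OPL0_s9_43 i) (Nat.beq (Nat.land (Nat.shiftRight i 8) 1) 0)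
noncomputable def OPL0_s8_44 (i : Nat) : Nat := Bool.rec (motive := fun _ => Nat) (OPL0_s9_300 i) (OPL0_s9_44 i) (Nat.beq (Nat.land (Nat.shiftRight i 8) 1) 0)
noncomputable def OPL0_s8_45 (i : Nat) : Nat := Bool.rec (motive := fun _ => Nat) (OPL0_s9_301 i) (OPL0_s9_45 i) (Nat.beq (Nat.land (Nat.shiftRight i 8) 1) 0)
noncomputable def OPL0_s8_46 (i : Nat) : Nat := Bool.rec (motive := fun _ => Nat) (OPL0_s9_302 i) (OPL0_s9_46 i) (Nat.beq (Nat.land (Nat.shiftRight i 8) 1) 0)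
noncomputable def OPL0_s8_47 (i : Nat) : Nat := Bool.rec (motive := fun _ => Nat) (OPL0_s9_303 i) (OPL0_s9_47 i) (Nat.beq (Nat.land (Nat.shiftRight i 8) 1) 0)
noncomputable def OPL0_s8_48 (i : Nat) : Nat := Bool.rec (motive := fun _ => Nat) (OPL0_s9_304 i) (OPL0_s9_48 i) (Nat.beq (Nat.land (Nat.shiftRight i 8) 1) 0)
noncomputable def OPL0_s8_49 (i : Nat) : Nat := Bool.rec (motive := fun _ => Nat) (OPL0_s9_305 i) (OPL0_s9_49 i) (Nat.beq (Nat.land (Nat.shiftRight i 8) 1) 0)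
noncomputable def OPL0_s8_50 (i : Nat) : Nat := Bool.rec (motive := fun _ => Nat) (OPL0_s9_306 i) (OPL0_s9_50 i) (Nat.beq (Nat.land (Nat.shiftRight i 8) 1) 0)
noncomputable def OPL0_s8_51 (i : Nat) : Nat := Bool.rec (motive := fun _ => Nat) (OPL0_s9_307 i) (OPL0_s9_51 i) (Nat.beq (Nat.land (Nat.shiftRight i 8) 1) 0)
noncomputable def OPL0_s8_52 (i : Nat) : Nat := Bool.rec (motive := fun _ => Nat) (OPL0_s9_308 i) (OPL0_s9_52 i) (Nat.beq (Nat.land (Nat.shiftRight i 8) 1) 0)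
noncomputable def OPL0_s8_53 (i : Nat) : Nat := Bool.rec (motive := fun _ => Nat) (OPL0_s9_309 i) (OPL0_s9_53 i) (Nat.beq (Nat.land (Nat.shiftRight i 8) 1) 0)
noncomputable def OPL0_s8_54 (i : Nat) : Nat := Bool.rec (motive := fun _ => Nat) (OPL0_s9_310 i) (OPL0_s9_54 i) (Nat.beq (Nat.land (Nat.shiftRight i 8) 1) 0)
noncomputable def OPL0_s8_55 (i : Nat) : Nat := Bool.rec (motive := fun _ => Nat) (OPL0_s9_311 i) (OPL0_s9_55 i) (Nat.beq (Nat.land (Nat.shiftRight i 8) 1) 0)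
noncomputable def OPL0_s8_56 (i : Nat) : Nat := Bool.rec (motive := fun _ => Nat) (OPL0_s9_312 i) (OPL0_s9_56 i) (Nat.beq (Nat.land (Nat.shiftRight i 8) 1) 0)
noncomputable def OPL0_s8_57 (i : Nat) : Nat := Bool.rec (motive := fun _ => Nat) (OPL0_s9_313 i) (OPL0_s9_57 i) (Nat.beq (Nat.land (Nat.shiftRight i 8) 1) 0)
noncomputable def OPL0_s8_58 (i : Nat) : Nat := Bool.rec (motive := fun _ => Nat) (OPL0_s9_314 i) (OPL0_s9_58 i) (Nat.beq (Nat.land (Nat.shiftRight i 8) 1) 0)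
noncomputable def OPL0_s8_59 (i : Nat) : Nat := Bool.rec (motive := fun _ => Nat) (OPL0_s9_315 i) (OPL0_s9_59 i) (Nat.beq (Nat.land (Nat.shiftRight i 8) 1) 0)
noncomputable def OPL0_s8_60 (i : Nat) : Nat := Bool.rec (motive := fun _ => Nat) (OPL0_s9_316 i) (OPL0_s9_60 i) (Nat.beq (Nat.land (Nat.shiftRight i 8) 1) 0)
noncomputable def OPL0_s8_61 (i : Nat) : Nat := Bool.rec (motive := fun _ => Nat) (OPL0_s9_317 i) (OPL0_s9_61 i) (Nat.beq (Nat.land (Nat.shiftRight i 8) 1) 0)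
noncomputable def OPL0_s8_62 (i : Nat) : Nat := Bool.rec (motive := fun _ => Nat) (OPL0_s9_318 i) (OPL0_s9_62 i) (Nat.beq (Nat.land (Nat.shiftRight i 8) 1) 0)
noncomputable def OPL0_s8_63 (i : Nat) : Nat := Bool.rec (motive := fun _ => Nat) (OPL0_s9_319 i) (OPL0_s9_63 i) (Nat.beq (Nat.land (Nat.shiftRight i 8) 1) 0)
noncomputable def OPL0_s8_64 (i : Nat) : Nat := Bool.rec (motive := fun _ => Nat) (OPL0_s9_320 i) (OPL0_s9_64 i) (Nat.beq (Nat.land (Nat.shiftRight i 8) 1) 0)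
noncomputable def OPL0_s8_65 (i : Nat) : Nat := Bool.rec (motive := fun _ => Nat) (OPL0_s9_321 i) (OPL0_s9_65 i) (Nat.beq (Nat.land (Nat.shiftRight i 8) 1) 0)
noncomputable def OPL0_s8_66 (i : Nat) : Nat := Bool.rec (motive := fun _ => Nat) (OPL0_s9_322 i) (OPL0_s9_66 i) (Nat.beq (Nat.land (Nat.shiftRight i 8) 1) 0)
noncomputable def OPL0_s8_67 (i : Nat) : Nat := Bool.rec (motive := fun _ => Nat) (OPL0_s9_323 i) (OPL0_s9_67 i) (Nat.beq (Nat.land (Nat.shiftRight i 8) 1) 0)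
noncomputable def OPL0_s8_68 (i : Nat) : Nat := Bool.rec (motive := fun _ => Nat) (OPL0_s9_324 i) (OPL0_s9_68 i) (Nat.beq (Nat.land (Nat.shiftRight i 8) 1) 0)
noncomputable def OPL0_s8_69 (i : Nat) : Nat := Bool.rec (motive := fun _ => Nat) (OPL0_s9_325 i) (OPL0_s9_69 i) (Nat.beq (Nat.land (Nat.shiftRight i 8) 1) 0)
noncomputable def OPL0_s8_70 (i : Nat) : Nat := Bool.rec (motive := fun _ => Nat) (OPL0_s9_326 i) (OPL0_s9_70 i) (Nat.beq (Nat.land (Nat.shiftRight i 8) 1) 0)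
noncomputable def OPL0_s8_71 (i : Nat) : Nat := Bool.rec (motive := fun _ => Nat) (OPL0_s9_327 i) (OPL0_s9_71 i) (Nat.beq (Nat.land (Nat.shiftRight i 8) 1) 0)
noncomputable def OPL0_s8_72 (i : Nat) : Nat := Bool.rec (motive := fun _ => Nat) (OPL0_s9_328 i) (OPL0_s9_72 i) (Nat.beq (Nat.land (Nat.shiftRight i 8) 1) 0)
noncomputable def OPL0_s8_73 (i : Nat) : Nat := Bool.rec (motive := fun _ => Nat) (OPL0_s9_329 i) (OPL0_s9_73 i) (Nat.beq (Nat.land (Nat.shiftRight i 8) 1) 0)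
noncomputable def OPL0_s8_74 (i : Nat) : Nat := Bool.rec (motive := fun _ => Nat) (OPL0_s9_330 i) (OPL0_s9_74 i) (Nat.beq (Nat.land (Nat.shiftRight i 8) 1) 0)
noncomputable def OPL0_s8_75 (i : Nat) : Nat := Bool.rec (motive := fun _ => Nat) (OPL0_s9_331 i) (OPL0_s9_75 i) (Nat.beq (Nat.land (Nat.shiftRight i 8) 1) 0)
noncomputable def OPL0_s8_76 (i : Nat) : Nat := Bool.rec (motive := fun _ => Nat) (OPL0_s9_332 i) (OPL0_s9_76 i) (Nat.beq (Nat.land (Nat.shiftRight i 8) 1) 0)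
noncomputable def OPL0_s8_77 (i : Nat) : Nat := Bool.rec (motive := fun _ => Nat) (OPL0_s9_333 i) (OPL0_s9_77 i) (Nat.beq (Nat.land (Nat.shiftRight i 8) 1) 0)
noncomputable def OPL0_s8_78 (i : Nat) : Nat := Bool.rec (motive := fun _ => Nat) (OPL0_s9_334 i) (OPL0_s9_78 i) (Nat.beq (Nat.land (Nat.shiftRight i 8) 1) 0)
noncomputable def OPL0_s8_79 (i : Nat) : Nat := Bool.rec (motive := fun _ => Nat) (OPL0_s9_335 i) (OPL0_s9_79 i) (Nat.beq (Nat.land (Nat.shiftRight i 8) 1) 0)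
noncomputable def OPL0_s8_80 (i : Nat) : Nat := Bool.rec (motive := fun _ => Nat) (OPL0_s9_336 i) (OPL0_s9_80 i) (Nat.beq (Nat.land (Nat.shiftRight i 8) 1) 0)
noncomputable def OPL0_s8_81 (i : Nat) : Nat := Bool.rec (motive := fun _ => Nat) (OPL0_s9_337 i) (OPL0_s9_81 i) (Nat.beq (Nat.land (Nat.shiftRight i 8) 1) 0)
noncomputable def OPL0_s8_82 (i : Nat) : Nat := Bool.rec (motive := fun _ => Nat) (OPL0_s9_338 i) (OPL0_s9_82 i) (Nat.beq (Nat.land (Nat.shiftRight i 8) 1) 0)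
noncomputable def OPL0_s8_83 (i : Nat) : Nat := Bool.rec (motive := fun _ => Nat) (OPL0_s9_339 i) (OPL0_s9_83 i) (Nat.beq (Nat.land (Nat.shiftRight i 8) 1) 0)
noncomputable def OPL0_s8_84 (i : Nat) : Nat := Bool.rec (motive := fun _ => Nat) (OPL0_s9_340 i) (OPL0_s9_84 i) (Nat.beq (Nat.land (Nat.shiftRight i 8) 1) 0)
noncomputable def OPL0_s8_85 (i : Nat) : Nat := Bool.rec (motive := fun _ => Nat) (OPL0_s9_341 i) (OPL0_s9_85 i) (Nat.beq (Nat.land (Nat.shiftRight i 8) 1) 0)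
noncomputable def OPL0_s8_86 (i : Nat) : Nat := Bool.rec (motive := fun _ => Nat) (OPL0_s9_342 i) (OPL0_s9_86 i) (Nat.beq (Nat.land (Nat.shiftRight i 8) 1) 0)
noncomputable def OPL0_s8_87 (i : Nat) : Nat := Bool.rec (motive := fun _ => Nat) (OPL0_s9_343 i) (OPL0_s9_87 i) (Nat.beq (Nat.land (Nat.shiftRight i 8) 1) 0)
noncomputable def OPL0_s8_88 (i : Nat) : Nat := Bool.rec (motive := fun _ => Nat) (OPL0_s9_344 i) (OPL0_s9_88 i) (Nat.beq (Nat.land (Nat.shiftRight i 8) 1) 0)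
noncomputable def OPL0_s8_89 (i : Nat) : Nat := Bool.rec (motive := fun _ => Nat) (OPL0_s9_345 i) (OPL0_s9_89 i) (Nat.beq (Nat.land (Nat.shiftRight i 8) 1) 0)
noncomputable def OPL0_s8_90 (i : Nat) : Nat := Bool.rec (motive := fun _ => Nat) (OPL0_s9_346 i) (OPL0_s9_90 i) (Nat.beq (Nat.land (Nat.shiftRight i 8) 1) 0)
noncomputable def OPL0_s8_91 (i : Nat) : Nat := Bool.rec (motive := fun _ => Nat) (OPL0_s9_347 i) (OPL0_s9_91 i) (Nat.beq (Nat.land (Nat.shiftRight i 8) 1) 0)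
noncomputable def OPL0_s8_92 (i : Nat) : Nat := Bool.rec (motive := fun _ => Nat) (OPL0_s9_348 i) (OPL0_s9_92 i) (Nat.beq (Nat.land (Nat.shiftRight i 8) 1) 0)
noncomputable def OPL0_s8_93 (i : Nat) : Nat := Bool.rec (motive := fun _ => Nat) (OPL0_s9_349 i) (OPL0_s9_93 i) (Nat.beq (Nat.land (Nat.shiftRight i 8) 1) 0)
noncomputable def OPL0_s8_94 (i : Nat) : Nat := Bool.rec (motive := fun _ => Nat) (OPL0_s9_350 i) (OPL0_s9_94 i) (Nat.beq (Nat.land (Nat.shiftRight i 8) 1) 0)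
noncomputable def OPL0_s8_95 (i : Nat) : Nat := Bool.rec (motive := fun _ => Nat) (OPL0_s9_351 i) (OPL0_s9_95 i) (Nat.beq (Nat.land (Nat.shiftRight i 8) 1) 0)
noncomputable def OPL0_s8_96 (i : Nat) : Nat := Bool.rec (motive := fun _ => Nat) (OPL0_s9_352 i) (OPL0_s9_96 i) (Nat.beq (Nat.land (Nat.shiftRight i 8) 1) 0)
noncomputable def OPL0_s8_97 (i : Nat) : Nat := Bool.rec (motive := fun _ => Nat) (OPL0_s9_353 i) (OPL0_s9_97 i) (Nat.beq (Nat.land (Nat.shiftRight i 8) 1) 0)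
noncomputable def OPL0_s8_98 (i : Nat) : Nat := Bool.rec (motive := fun _ => Nat) (OPL0_s9_354 i) (OPL0_s9_98 i) (Nat.beq (Nat.land (Nat.shiftRight i 8) 1) 0)
noncomputable def OPL0_s8_99 (i : Nat) : Nat := Bool.rec (motive := fun _ => Nat) (OPL0_s9_355 i) (OPL0_s9_99 i) (Nat.beq (Nat.land (Nat.shiftRight i 8) 1) 0)
noncomputable def OPL0_s8_100 (i : Nat) : Nat := Bool.rec (motive := fun _ => Nat) (OPL0_s9_356 i) (OPL0_s9_100 i) (Nat.beq (Nat.land (Nat.shiftRight i 8) 1) 0)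
noncomputable def OPL0_s8_101 (i : Nat) : Nat := Bool.rec (motive := fun _ => Nat) (OPL0_s9_357 i) (OPL0_s9_101 i) (Nat.beq (Nat.land (Nat.shiftRight i 8) 1) 0)
noncomputable def OPL0_s8_102 (i : Nat) : Nat := Bool.rec (motive := fun _ => Nat) (OPL0_s9_358 i) (OPL0_s9_102 i) (Nat.beq (Nat.land (Nat.shiftRight i 8) 1) 0)
noncomputable def OPL0_s8_103 (i : Nat) : Nat := Bool.rec (motive := fun _ => Nat) (OPL0_s9_359 i) (OPL0_s9_103 i) (Nat.beq (Nat.land (Nat.shiftRight i 8) 1) 0)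
noncomputable def OPL0_s8_104 (i : Nat) : Nat := Bool.rec (motive := fun _ => Nat) (OPL0_s9_360 i) (OPL0_s9_104 i) (Nat.beq (Nat.land (Nat.shiftRight i 8) 1) 0)
noncomputable def OPL0_s8_105 (i : Nat) : Nat := Bool.rec (motive := fun _ => Nat) (OPL0_s9_361 i) (OPL0_s9_105 i) (Nat.beq (Nat.land (Nat.shiftRight i 8) 1) 0)
noncomputable def OPL0_s8_106 (i : Nat) : Nat := Bool.rec (motive := fun _ => Nat) (OPL0_s9_362 i) (OPL0_s9_106 i) (Nat.beq (Nat.land (Nat.shiftRight i 8) 1) 0)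
noncomputable def OPL0_s8_107 (i : Nat) : Nat := Bool.rec (motive := fun _ => Nat) (OPL0_s9_363 i) (OPL0_s9_107 i) (Nat.beq (Nat.land (Nat.shiftRight i 8) 1) 0)
noncomputable def OPL0_s8_108 (i : Nat) : Nat := Bool.rec (motive := fun _ => Nat) (OPL0_s9_364 i) (OPL0_s9_108 i) (Nat.beq (Nat.land (Nat.shiftRight i 8) 1) 0)
noncomputable def OPL0_s8_109 (i : Nat) : Nat := Bool.rec (motive := fun _ => Nat) (OPL0_s9_365 i) (OPL0_s9_109 i) (Nat.beq (Nat.land (Nat.shiftRight i 8) 1) 0)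
noncomputable def OPL0_s8_110 (i : Nat) : Nat := Bool.rec (motive := fun _ => Nat) (OPL0_s9_366 i) (OPL0_s9_110 i) (Nat.beq (Nat.land (Nat.shiftRight i 8) 1) 0)
noncomputable def OPL0_s8_111 (i : Nat) : Nat := Bool.rec (motive := fun _ => Nat) (OPL0_s9_367 i) (OPL0_s9_111 i) (Nat.beq (Nat.land (Nat.shiftRight i 8) 1) 0)
noncomputable def OPL0_s8_112 (i : Nat) : Nat := Bool.rec (motive := fun _ => Nat) (OPL0_s9_368 i) (OPL0_s9_112 i) (Nat.beq (Nat.land (Nat.shiftRight i 8) 1) 0)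
noncomputable def OPL0_s8_113 (i : Nat) : Nat := Bool.rec (motive := fun _ => Nat) (OPL0_s9_369 i) (OPL0_s9_113 i) (Nat.beq (Nat.land (Nat.shiftRight i 8) 1) 0)
noncomputable def OPL0_s8_114 (i : Nat) : Nat := Bool.rec (motive := fun _ => Nat) (OPL0_s9_370 i) (OPL0_s9_114 i) (Nat.beq (Nat.land (Nat.shiftRight i 8) 1) 0)
noncomputable def OPL0_s8_115 (i : Nat) : Nat := Bool.rec (motive := fun _ => Nat) (OPL0_s9_371 i) (OPL0_s9_115 i) (Nat.beq (Nat.land (Nat.shiftRight i 8) 1) 0)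
noncomputable def OPL0_s8_116 (i : Nat) : Nat := Bool.rec (motive := fun _ => Nat) (OPL0_s9_372 i) (OPL0_s9_116 i) (Nat.beq (Nat.land (Nat.shiftRight i 8) 1) 0)
noncomputable def OPL0_s8_117 (i : Nat) : Nat := Bool.rec (motive := fun _ => Nat) (OPL0_s9_373 i) (OPL0_s9_117 i) (Nat.beq (Nat.land (Nat.shiftRight i 8) 1) 0)
noncomputable def OPL0_s8_118 (i : Nat) : Nat := Bool.rec (motive := fun _ => Nat) (OPL0_s9_374 i) (OPL0_s9_118 i) (Nat.beq (Nat.land (Nat.shiftRight i 8) 1) 0)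
noncomputable def OPL0_s8_119 (i : Nat) : Nat := Bool.rec (motive := fun _ => Nat) (OPL0_s9_375 i) (OPL0_s9_119 i) (Nat.beq (Nat.land (Nat.shiftRight i 8) 1) 0)
noncomputable def OPL0_s8_120 (i : Nat) : Nat := Bool.rec (motive := fun _ => Nat) (OPL0_s9_376 i) (OPL0_s9_120 i) (Nat.beq (Nat.land (Nat.shiftRight i 8) 1) 0)
noncomputable def OPL0_s8_121 (i : Nat) : Nat := Bool.rec (motive := fun _ => Nat) (OPL0_s9_377 i) (OPL0_s9_121 i) (Nat.beq (Nat.land (Nat.shiftRight i 8) 1) 0)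
noncomputable def OPL0_s8_122 (i : Nat) : Nat := Bool.rec (motive := fun _ => Nat) (OPL0_s9_378 i) (OPL0_s9_122 i) (Nat.beq (Nat.land (Nat.shiftRight i 8) 1) 0)
noncomputable def OPL0_s8_123 (i : Nat) : Nat := Bool.rec (motive := fun _ => Nat) (OPL0_s9_379 i) (OPL0_s9_123 i) (Nat.beq (Nat.land (Nat.shiftRight i 8) 1) 0)
noncomputable def OPL0_s8_124 (i : Nat) : Nat := Bool.rec (motive := fun _ => Nat) (OPL0_s9_380 i) (OPL0_s9_124 i) (Nat.beq (Nat.land (Nat.shiftRight i 8) 1) 0)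
noncomputable def OPL0_s8_125 (i : Nat) : Nat := Bool.rec (motive := fun _ => Nat) (OPL0_s9_381 i) (OPL0_s9_125 i) (Nat.beq (Nat.land (Nat.shiftRight i 8) 1) 0)
noncomputable def OPL0_s8_126 (i : Nat) : Nat := Bool.rec (motive := fun _ => Nat) (OPL0_s9_382 i) (OPL0_s9_126 i) (Nat.beq (Nat.land (Nat.shiftRight i 8) 1) 0)
noncomputable def OPL0_s8_127 (i : Nat) : Nat := Bool.rec (motive := fun _ => Nat) (OPL0_s9_383 i) (OPL0_s9_127 i) (Nat.beq (Nat.land (Nat.shiftRight i 8) 1) 0)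
noncomputable def OPL0_s8_128 (i : Nat) : Nat := Bool.rec (motive := fun _ => Nat) (OPL0_s9_384 i) (OPL0_s9_128 i) (Nat.beq (Nat.land (Nat.shiftRight i 8) 1) 0)
noncomputable def OPL0_s8_129 (i : Nat) : Nat := Bool.rec (motive := fun _ => Nat) (OPL0_s9_385 i) (OPL0_s9_129 i) (Nat.beq (Nat.land (Nat.shiftRight i 8) 1) 0)
noncomputable def OPL0_s8_130 (i : Nat) : Nat := Bool.rec (motive := fun _ => Nat) (OPL0_s9_386 i) (OPL0_s9_130 i) (Nat.beq (Nat.land (Nat.shiftRight i 8) 1) 0)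
noncomputable def OPL0_s8_131 (i : Nat) : Nat := Bool.rec (motive := fun _ => Nat) (OPL0_s9_387 i) (OPL0_s9_131 i) (Nat.beq (Nat.land (Nat.shiftRight i 8) 1) 0)
noncomputable def OPL0_s8_132 (i : Nat) : Nat := Bool.rec (motive := fun _ => Nat) (OPL0_s9_388 i) (OPL0_s9_132 i) (Nat.beq (Nat.land (Nat.shiftRight i 8) 1) 0)
noncomputable def OPL0_s8_133 (i : Nat) : Nat := Bool.rec (motive := fun _ => Nat) (OPL0_s9_389 i) (OPL0_s9_133 i) (Nat.beq (Nat.land (Nat.shiftRight i 8) 1) 0)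
noncomputable def OPL0_s8_134 (i : Nat) : Nat := Bool.rec (motive := fun _ => Nat) (OPL0_s9_390 i) (OPL0_s9_134 i) (Nat.beq (Nat.land (Nat.shiftRight i 8) 1) 0)
noncomputable def OPL0_s8_135 (i : Nat) : Nat := Bool.rec (motive := fun _ => Nat) (OPL0_s9_391 i) (OPL0_s9_135 i) (Nat.beq (Nat.land (Nat.shiftRight i 8) 1) 0)
noncomputable def OPL0_s8_136 (i : Nat) : Nat := Bool.rec (motive := fun _ => Nat) (OPL0_s9_392 i) (OPL0_s9_136 i) (Nat.beq (Nat.land (Nat.shiftRight i 8) 1) 0)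
noncomputable def OPL0_s8_137 (i : Nat) : Nat := Bool.rec (motive := fun _ => Nat) (OPL0_s9_393 i) (OPL0_s9_137 i) (Nat.beq (Nat.land (Nat.shiftRight i 8) 1) 0)
noncomputable def OPL0_s8_138 (i : Nat) : Nat := Bool.rec (motive := fun _ => Nat) (OPL0_s9_394 i) (OPL0_s9_138 i) (Nat.beq (Nat.land (Nat.shiftRight i 8) 1) 0)
noncomputable def OPL0_s8_139 (i : Nat) : Nat := Bool.rec (motive := fun _ => Nat) (OPL0_s9_395 i) (OPL0_s9_139 i) (Nat.beq (Nat.land (Nat.shiftRight i 8) 1) 0)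
noncomputable def OPL0_s8_140 (i : Nat) : Nat := Bool.rec (motive := fun _ => Nat) (OPL0_s9_396 i) (OPL0_s9_140 i) (Nat.beq (Nat.land (Nat.shiftRight i 8) 1) 0)
noncomputable def OPL0_s8_141 (i : Nat) : Nat := Bool.rec (motive := fun _ => Nat) (OPL0_s9_397 i) (OPL0_s9_141 i) (Nat.beq (Nat.land (Nat.shiftRight i 8) 1) 0)
noncomputable def OPL0_s8_142 (i : Nat) : Nat := Bool.rec (motive := fun _ => Nat) (OPL0_s9_398 i) (OPL0_s9_142 i) (Nat.beq (Nat.land (Nat.shiftRight i 8) 1) 0)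
noncomputable def OPL0_s8_143 (i : Nat) : Nat := Bool.rec (motive := fun _ => Nat) (OPL0_s9_399 i) (OPL0_s9_143 i) (Nat.beq (Nat.land (Nat.shiftRight i 8) 1) 0)
noncomputable def OPL0_s8_144 (i : Nat) : Nat := Bool.rec (motive := fun _ => Nat) (OPL0_s9_400 i) (OPL0_s9_144 i) (Nat.beq (Nat.land (Nat.shiftRight i 8) 1) 0)
noncomputable def OPL0_s8_145 (i : Nat) : Nat := Bool.rec (motive := fun _ => Nat) (OPL0_s9_401 i) (OPL0_s9_145 i) (Nat.beq (Nat.land (Nat.shiftRight i 8) 1) 0)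
noncomputable def OPL0_s8_146 (i : Nat) : Nat := Bool.rec (motive := fun _ => Nat) (OPL0_s9_402 i) (OPL0_s9_146 i) (Nat.beq (Nat.land (Nat.shiftRight i 8) 1) 0)
noncomputable def OPL0_s8_147 (i : Nat) : Nat := Bool.rec (motive := fun _ => Nat) (OPL0_s9_403 i) (OPL0_s9_147 i) (Nat.beq (Nat.land (Nat.shiftRight i 8) 1) 0)
noncomputable def OPL0_s8_148 (i : Nat) : Nat := Bool.rec (motive := fun _ => Nat) (OPL0_s9_404 i) (OPL0_s9_148 i) (Nat.beq (Nat.land (Nat.shiftRight i 8) 1) 0)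
noncomputable def OPL0_s8_149 (i : Nat) : Nat := Bool.rec (motive := fun _ => Nat) (OPL0_s9_405 i) (OPL0_s9_149 i) (Nat.beq (Nat.land (Nat.shiftRight i 8) 1) 0)
noncomputable def OPL0_s8_150 (i : Nat) : Nat := Bool.rec (motive := fun _ => Nat) (OPL0_s9_406 i) (OPL0_s9_150 i) (Nat.beq (Nat.land (Nat.shiftRight i 8) 1) 0)
noncomputable def OPL0_s8_151 (i : Nat) : Nat := Bool.rec (motive := fun _ => Nat) (OPL0_s9_407 i) (OPL0_s9_151 i) (Nat.beq (Nat.land (Nat.shiftRight i 8) 1) 0)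
noncomputable def OPL0_s8_152 (i : Nat) : Nat := Bool.rec (motive := fun _ => Nat) (OPL0_s9_408 i) (OPL0_s9_152 i) (Nat.beq (Nat.land (Nat.shiftRight i 8) 1) 0)
noncomputable def OPL0_s8_153 (i : Nat) : Nat := Bool.rec (motive := fun _ => Nat) (OPL0_s9_409 i) (OPL0_s9_153 i) (Nat.beq (Nat.land (Nat.shiftRight i 8) 1) 0)
noncomputable def OPL0_s8_154 (i : Nat) : Nat := Bool.rec (motive := fun _ => Nat) (OPL0_s9_410 i) (OPL0_s9_154 i) (Nat.beq (Nat.land (Nat.shiftRight i 8) 1) 0)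
noncomputable def OPL0_s8_155 (i : Nat) : Nat := Bool.rec (motive := fun _ => Nat) (OPL0_s9_411 i) (OPL0_s9_155 i) (Nat.beq (Nat.land (Nat.shiftRight i 8) 1) 0)
noncomputable def OPL0_s8_156 (i : Nat) : Nat := Bool.rec (motive := fun _ => Nat) (OPL0_s9_412 i) (OPL0_s9_156 i) (Nat.beq (Nat.land (Nat.shiftRight i 8) 1) 0)
noncomputable def OPL0_s8_157 (i : Nat) : Nat := Bool.rec (motive := fun _ => Nat) (OPL0_s9_413 i) (OPL0_s9_157 i) (Nat.beq (Nat.land (Nat.shiftRight i 8) 1) 0)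
noncomputable def OPL0_s8_158 (i : Nat) : Nat := Bool.rec (motive := fun _ => Nat) (OPL0_s9_414 i) (OPL0_s9_158 i) (Nat.beq (Nat.land (Nat.shiftRight i 8) 1) 0)
noncomputable def OPL0_s8_159 (i : Nat) : Nat := Bool.rec (motive := fun _ => Nat) (OPL0_s9_415 i) (OPL0_s9_159 i) (Nat.beq (Nat.land (Nat.shiftRight i 8) 1) 0)
noncomputable def OPL0_s8_160 (i : Nat) : Nat := Bool.rec (motive := fun _ => Nat) (OPL0_s9_416 i) (OPL0_s9_160 i) (Nat.beq (Nat.land (Nat.shiftRight i 8) 1) 0)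
noncomputable def OPL0_s8_161 (i : Nat) : Nat := Bool.rec (motive := fun _ => Nat) (OPL0_s9_417 i) (OPL0_s9_161 i) (Nat.beq (Nat.land (Nat.shiftRight i 8) 1) 0)
noncomputable def OPL0_s8_162 (i : Nat) : Nat := Bool.rec (motive := fun _ => Nat) (OPL0_s9_418 i) (OPL0_s9_162 i) (Nat.beq (Nat.land (Nat.shiftRight i 8) 1) 0)
noncomputable def OPL0_s8_163 (i : Nat) : Nat := Bool.rec (motive := fun _ => Nat) (OPL0_s9_419 i) (OPL0_s9_163 i) (Nat.beq (Nat.land (Nat.shiftRight i 8) 1) 0)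
noncomputable def OPL0_s8_164 (i : Nat) : Nat := Bool.rec (motive := fun _ => Nat) (OPL0_s9_420 i) (OPL0_s9_164 i) (Nat.beq (Nat.land (Nat.shiftRight i 8) 1) 0)
noncomputable def OPL0_s8_165 (i : Nat) : Nat := Bool.rec (motive := fun _ => Nat) (OPL0_s9_421 i) (OPL0_s9_165 i) (Nat.beq (Nat.land (Nat.shiftRight i 8) 1) 0)
noncomputable def OPL0_s8_166 (i : Nat) : Nat := Bool.rec (motive := fun _ => Nat) (OPL0_s9_422 i) (OPL0_s9_166 i) (Nat.beq (Nat.land (Nat.shiftRight i 8) 1) 0)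
noncomputable def OPL0_s8_167 (i : Nat) : Nat := Bool.rec (motive := fun _ => Nat) (OPL0_s9_423 i) (OPL0_s9_167 i) (Nat.beq (Nat.land (Nat.shiftRight i 8) 1) 0)
noncomputable def OPL0_s8_168 (i : Nat) : Nat := Bool.rec (motive := fun _ => Nat) (OPL0_s9_424 i) (OPL0_s9_168 i) (Nat.beq (Nat.land (Nat.shiftRight i 8) 1) 0)
noncomputable def OPL0_s8_169 (i : Nat) : Nat := Bool.rec (motive := fun _ => Nat) (OPL0_s9_425 i) (OPL0_s9_169 i) (Nat.beq (Nat.land (Nat.shiftRight i 8) 1) 0)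
noncomputable def OPL0_s8_170 (i : Nat) : Nat := Bool.rec (motive := fun _ => Nat) (OPL0_s9_426 i) (OPL0_s9_170 i) (Nat.beq (Nat.land (Nat.shiftRight i 8) 1) 0)
noncomputable def OPL0_s8_171 (i : Nat) : Nat := Bool.rec (motive := fun _ => Nat) (OPL0_s9_427 i) (OPL0_s9_171 i) (Nat.beq (Nat.land (Nat.shiftRight i 8) 1) 0)
noncomputable def OPL0_s8_172 (i : Nat) : Nat := Bool.rec (motive := fun _ => Nat) (OPL0_s9_428 i) (OPL0_s9_172 i) (Nat.beq (Nat.land (Nat.shiftRight i 8) 1) 0)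
noncomputable def OPL0_s8_173 (i : Nat) : Nat := Bool.rec (motive := fun _ => Nat) (OPL0_s9_429 i) (OPL0_s9_173 i) (Nat.beq (Nat.land (Nat.shiftRight i 8) 1) 0)
noncomputable def OPL0_s8_174 (i : Nat) : Nat := Bool.rec (motive := fun _ => Nat) (OPL0_s9_430 i) (OPL0_s9_174 i) (Nat.beq (Nat.land (Nat.shiftRight i 8) 1) 0)
noncomputable def OPL0_s8_175 (i : Nat) : Nat := Bool.rec (motive := fun _ => Nat) (OPL0_s9_431 i) (OPL0_s9_175 i) (Nat.beq (Nat.land (Nat.shiftRight i 8) 1) 0)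
noncomputable def OPL0_s8_176 (i : Nat) : Nat := Bool.rec (motive := fun _ => Nat) (OPL0_s9_432 i) (OPL0_s9_176 i) (Nat.beq (Nat.land (Nat.shiftRight i 8) 1) 0)
noncomputable def OPL0_s8_177 (i : Nat) : Nat := Bool.rec (motive := fun _ => Nat) (OPL0_s9_433 i) (OPL0_s9_177 i) (Nat.beq (Nat.land (Nat.shiftRight i 8) 1) 0)
noncomputable def OPL0_s8_178 (i : Nat) : Nat := Bool.rec (motive := fun _ => Nat) (OPL0_s9_434 i) (OPL0_s9_178 i) (Nat.beq (Nat.land (Nat.shiftRight i 8) 1) 0)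
noncomputable def OPL0_s8_179 (i : Nat) : Nat := Bool.rec (motive := fun _ => Nat) (OPL0_s9_435 i) (OPL0_s9_179 i) (Nat.beq (Nat.land (Nat.shiftRight i 8) 1) 0)
noncomputable def OPL0_s8_180 (i : Nat) : Nat := Bool.rec (motive := fun _ => Nat) (OPL0_s9_436 i) (OPL0_s9_180 i) (Nat.beq (Nat.land (Nat.shiftRight i 8) 1) 0)
noncomputable def OPL0_s8_181 (i : Nat) : Nat := Bool.rec (motive := fun _ => Nat) (OPL0_s9_437 i) (OPL0_s9_181 i) (Nat.beq (Nat.land (Nat.shiftRight i 8) 1) 0)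
noncomputable def OPL0_s8_182 (i : Nat) : Nat := Bool.rec (motive := fun _ => Nat) (OPL0_s9_438 i) (OPL0_s9_182 i) (Nat.beq (Nat.land (Nat.shiftRight i 8) 1) 0)
noncomputable def OPL0_s8_183 (i : Nat) : Nat := Bool.rec (motive := fun _ => Nat) (OPL0_s9_439 i) (OPL0_s9_183 i) (Nat.beq (Nat.land (Nat.shiftRight i 8) 1) 0)
noncomputable def OPL0_s8_184 (i : Nat) : Nat := Bool.rec (motive := fun _ => Nat) (OPL0_s9_440 i) (OPL0_s9_184 i) (Nat.beq (Nat.land (Nat.shiftRight i 8) 1) 0)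
noncomputable def OPL0_s8_185 (i : Nat) : Nat := Bool.rec (motive := fun _ => Nat) (OPL0_s9_441 i) (OPL0_s9_185 i) (Nat.beq (Nat.land (Nat.shiftRight i 8) 1) 0)
noncomputable def OPL0_s8_186 (i : Nat) : Nat := Bool.rec (motive := fun _ => Nat) (OPL0_s9_442 i) (OPL0_s9_186 i) (Nat.beq (Nat.land (Nat.shiftRight i 8) 1) 0)
noncomputable def OPL0_s8_187 (i : Nat) : Nat := Bool.rec (motive := fun _ => Nat) (OPL0_s9_443 i) (OPL0_s9_187 i) (Nat.beq (Nat.land (Nat.shiftRight i 8) 1) 0)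
noncomputable def OPL0_s8_188 (i : Nat) : Nat := Bool.rec (motive := fun _ => Nat) (OPL0_s9_444 i) (OPL0_s9_188 i) (Nat.beq (Nat.land (Nat.shiftRight i 8) 1) 0)
noncomputable def OPL0_s8_189 (i : Nat) : Nat := Bool.rec (motive := fun _ => Nat) (OPL0_s9_445 i) (OPL0_s9_189 i) (Nat.beq (Nat.land (Nat.shiftRight i 8) 1) 0)
noncomputable def OPL0_s8_190 (i : Nat) : Nat := Bool.rec (motive := fun _ => Nat) (OPL0_s9_446 i) (OPL0_s9_190 i) (Nat.beq (Nat.land (Nat.shiftRight i 8) 1) 0)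
noncomputable def OPL0_s8_191 (i : Nat) : Nat := Bool.rec (motive := fun _ => Nat) (OPL0_s9_447 i) (OPL0_s9_191 i) (Nat.beq (Nat.land (Nat.shiftRight i 8) 1) 0)
noncomputable def OPL0_s8_192 (i : Nat) : Nat := Bool.rec (motive := fun _ => Nat) (OPL0_s9_448 i) (OPL0_s9_192 i) (Nat.beq (Nat.land (Nat.shiftRight i 8) 1) 0)
noncomputable def OPL0_s8_193 (i : Nat) : Nat := Bool.rec (motive := fun _ => Nat) (OPL0_s9_449 i) (OPL0_s9_193 i) (Nat.beq (Nat.land (Nat.shiftRight i 8) 1) 0)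
noncomputable def OPL0_s8_194 (i : Nat) : Nat := Bool.rec (motive := fun _ => Nat) (OPL0_s9_450 i) (OPL0_s9_194 i) (Nat.beq (Nat.land (Nat.shiftRight i 8) 1) 0)
noncomputable def OPL0_s8_195 (i : Nat) : Nat := Bool.rec (motive := fun _ => Nat) (OPL0_s9_451 i) (OPL0_s9_195 i) (Nat.beq (Nat.land (Nat.shiftRight i 8) 1) 0)
noncomputable def OPL0_s8_196 (i : Nat) : Nat := Bool.rec (motive := fun _ => Nat) (OPL0_s9_452 i) (OPL0_s9_196 i) (Nat.beq (Nat.land (Nat.shiftRight i 8) 1) 0)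
noncomputable def OPL0_s8_197 (i : Nat) : Nat := Bool.rec (motive := fun _ => Nat) (OPL0_s9_453 i) (OPL0_s9_197 i) (Nat.beq (Nat.land (Nat.shiftRight i 8) 1) 0)
noncomputable def OPL0_s8_198 (i : Nat) : Nat := Bool.rec (motive := fun _ => Nat) (OPL0_s9_454 i) (OPL0_s9_198 i) (Nat.beq (Nat.land (Nat.shiftRight i 8) 1) 0)
noncomputable def OPL0_s8_199 (i : Nat) : Nat := Bool.rec (motive := fun _ => Nat) (OPL0_s9_455 i) (OPL0_s9_199 i) (Nat.beq (Nat.land (Nat.shiftRight i 8) 1) 0)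
noncomputable def OPL0_s8_200 (i : Nat) : Nat := Bool.rec (motive := fun _ => Nat) (OPL0_s9_456 i) (OPL0_s9_200 i) (Nat.beq (Nat.land (Nat.shiftRight i 8) 1) 0)
noncomputable def OPL0_s8_201 (i : Nat) : Nat := Bool.rec (motive := fun _ => Nat) (OPL0_s9_457 i) (OPL0_s9_201 i) (Nat.beq (Nat.land (Nat.shiftRight i 8) 1) 0)
noncomputable def OPL0_s8_202 (i : Nat) : Nat := Bool.rec (motive := fun _ => Nat) (OPL0_s9_458 i) (OPL0_s9_202 i) (Nat.beq (Nat.land (Nat.shiftRight i 8) 1) 0)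
noncomputable def OPL0_s8_203 (i : Nat) : Nat := Bool.rec (motive := fun _ => Nat) (OPL0_s9_459 i) (OPL0_s9_203 i) (Nat.beq (Nat.land (Nat.shiftRight i 8) 1) 0)
noncomputable def OPL0_s8_204 (i : Nat) : Nat := Bool.rec (motive := fun _ => Nat) (OPL0_s9_460 i) (OPL0_s9_204 i) (Nat.beq (Nat.land (Nat.shiftRight i 8) 1) 0)
noncomputable def OPL0_s8_205 (i : Nat) : Nat := Bool.rec (motive := fun _ => Nat) (OPL0_s9_461 i) (OPL0_s9_205 i) (Nat.beq (Nat.land (Nat.shiftRight i 8) 1) 0)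
noncomputable def OPL0_s8_206 (i : Nat) : Nat := Bool.rec (motive := fun _ => Nat) (OPL0_s9_462 i) (OPL0_s9_206 i) (Nat.beq (Nat.land (Nat.shiftRight i 8) 1) 0)
noncomputable def OPL0_s8_207 (i : Nat) : Nat := Bool.rec (motive := fun _ => Nat) (OPL0_s9_463 i) (OPL0_s9_207 i) (Nat.beq (Nat.land (Nat.shiftRight i 8) 1) 0)
noncomputable def OPL0_s8_208 (i : Nat) : Nat := Bool.rec (motive := fun _ => Nat) (OPL0_s9_464 i) (OPL0_s9_208 i) (Nat.beq (Nat.land (Nat.shiftRight i 8) 1) 0)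
noncomputable def OPL0_s8_209 (i : Nat) : Nat := Bool.rec (motive := fun _ => Nat) (OPL0_s9_465 i) (OPL0_s9_209 i) (Nat.beq (Nat.land (Nat.shiftRight i 8) 1) 0)
noncomputable def OPL0_s8_210 (i : Nat) : Nat := Bool.rec (motive := fun _ => Nat) (OPL0_s9_466 i) (OPL0_s9_210 i) (Nat.beq (Nat.land (Nat.shiftRight i 8) 1) 0)
noncomputable def OPL0_s8_211 (i : Nat) : Nat := Bool.rec (motive := fun _ => Nat) (OPL0_s9_467 i) (OPL0_s9_211 i) (Nat.beq (Nat.land (Nat.shiftRight i 8) 1) 0)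
noncomputable def OPL0_s8_212 (i : Nat) : Nat := Bool.rec (motive := fun _ => Nat) (OPL0_s9_468 i) (OPL0_s9_212 i) (Nat.beq (Nat.land (Nat.shiftRight i 8) 1) 0)
noncomputable def OPL0_s8_213 (i : Nat) : Nat := Bool.rec (motive := fun _ => Nat) (OPL0_s9_469 i) (OPL0_s9_213 i) (Nat.beq (Nat.land (Nat.shiftRight i 8) 1) 0)
noncomputable def OPL0_s8_214 (i : Nat) : Nat := Bool.rec (motive := fun _ => Nat) (OPL0_s9_470 i) (OPL0_s9_214 i) (Nat.beq (Nat.land (Nat.shiftRight i 8) 1) 0)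
noncomputable def OPL0_s8_215 (i : Nat) : Nat := Bool.rec (motive := fun _ => Nat) (OPL0_s9_471 i) (OPL0_s9_215 i) (Nat.beq (Nat.land (Nat.shiftRight i 8) 1) 0)
noncomputable def OPL0_s8_216 (i : Nat) : Nat := Bool.rec (motive := fun _ => Nat) (OPL0_s9_472 i) (OPL0_s9_216 i) (Nat.beq (Nat.land (Nat.shiftRight i 8) 1) 0)
noncomputable def OPL0_s8_217 (i : Nat) : Nat := Bool.rec (motive := fun _ => Nat) (OPL0_s9_473 i) (OPL0_s9_217 i) (Nat.beq (Nat.land (Nat.shiftRight i 8) 1) 0)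
noncomputable def OPL0_s8_218 (i : Nat) : Nat := Bool.rec (motive := fun _ => Nat) (OPL0_s9_474 i) (OPL0_s9_218 i) (Nat.beq (Nat.land (Nat.shiftRight i 8) 1) 0)
noncomputable def OPL0_s8_219 (i : Nat) : Nat := Bool.rec (motive := fun _ => Nat) (OPL0_s9_475 i) (OPL0_s9_219 i) (Nat.beq (Nat.land (Nat.shiftRight i 8) 1) 0)
noncomputable def OPL0_s8_220 (i : Nat) : Nat := Bool.rec (motive := fun _ => Nat) (OPL0_s9_476 i) (OPL0_s9_220 i) (Nat.beq (Nat.land (Nat.shiftRight i 8) 1) 0)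
noncomputable def OPL0_s8_221 (i : Nat) : Nat := Bool.rec (motive := fun _ => Nat) (OPL0_s9_477 i) (OPL0_s9_221 i) (Nat.beq (Nat.land (Nat.shiftRight i 8) 1) 0)
noncomputable def OPL0_s8_222 (i : Nat) : Nat := Bool.rec (motive := fun _ => Nat) (OPL0_s9_478 i) (OPL0_s9_222 i) (Nat.beq (Nat.land (Nat.shiftRight i 8) 1) 0)
noncomputable def OPL0_s8_223 (i : Nat) : Nat := Bool.rec (motive := fun _ => Nat) (OPL0_s9_479 i) (OPL0_s9_223 i) (Nat.beq (Nat.land (Nat.shiftRight i 8) 1) 0)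
noncomputable def OPL0_s8_224 (i : Nat) : Nat := Bool.rec (motive := fun _ => Nat) (OPL0_s9_480 i) (OPL0_s9_224 i) (Nat.beq (Nat.land (Nat.shiftRight i 8) 1) 0)
noncomputable def OPL0_s8_225 (i : Nat) : Nat := Bool.rec (motive := fun _ => Nat) (OPL0_s9_481 i) (OPL0_s9_225 i) (Nat.beq (Nat.land (Nat.shiftRight i 8) 1) 0)
noncomputable def OPL0_s8_226 (i : Nat) : Nat := Bool.rec (motive := fun _ => Nat) (OPL0_s9_482 i) (OPL0_s9_226 i) (Nat.beq (Nat.land (Nat.shiftRight i 8) 1) 0)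
noncomputable def OPL0_s8_227 (i : Nat) : Nat := Bool.rec (motive := fun _ => Nat) (OPL0_s9_483 i) (OPL0_s9_227 i) (Nat.beq (Nat.land (Nat.shiftRight i 8) 1) 0)
noncomputable def OPL0_s8_228 (i : Nat) : Nat := Bool.rec (motive := fun _ => Nat) (OPL0_s9_484 i) (OPL0_s9_228 i) (Nat.beq (Nat.land (Nat.shiftRight i 8) 1) 0)
noncomputable def OPL0_s8_229 (i : Nat) : Nat := Bool.rec (motive := fun _ => Nat) (OPL0_s9_485 i) (OPL0_s9_229 i) (Nat.beq (Nat.land (Nat.shiftRight i 8) 1) 0)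
noncomputable def OPL0_s8_230 (i : Nat) : Nat := Bool.rec (motive := fun _ => Nat) (OPL0_s9_486 i) (OPL0_s9_230 i) (Nat.beq (Nat.land (Nat.shiftRight i 8) 1) 0)
noncomputable def OPL0_s8_231 (i : Nat) : Nat := Bool.rec (motive := fun _ => Nat) (OPL0_s9_487 i) (OPL0_s9_231 i) (Nat.beq (Nat.land (Nat.shiftRight i 8) 1) 0)
noncomputable def OPL0_s8_232 (i : Nat) : Nat := Bool.rec (motive := fun _ => Nat) (OPL0_s9_488 i) (OPL0_s9_232 i) (Nat.beq (Nat.land (Nat.shiftRight i 8) 1) 0)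
noncomputable def OPL0_s8_233 (i : Nat) : Nat := Bool.rec (motive := fun _ => Nat) (OPL0_s9_489 i) (OPL0_s9_233 i) (Nat.beq (Nat.land (Nat.shiftRight i 8) 1) 0)
noncomputable def OPL0_s8_234 (i : Nat) : Nat := Bool.rec (motive := fun _ => Nat) (OPL0_s9_490 i) (OPL0_s9_234 i) (Nat.beq (Nat.land (Nat.shiftRight i 8) 1) 0)
noncomputable def OPL0_s8_235 (i : Nat) : Nat := Bool.rec (motive := fun _ => Nat) (OPL0_s9_491 i) (OPL0_s9_235 i) (Nat.beq (Nat.land (Nat.shiftRight i 8) 1) 0)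
noncomputable def OPL0_s8_236 (i : Nat) : Nat := Bool.rec (motive := fun _ => Nat) (OPL0_s9_492 i) (OPL0_s9_236 i) (Nat.beq (Nat.land (Nat.shiftRight i 8) 1) 0)
noncomputable def OPL0_s8_237 (i : Nat) : Nat := Bool.rec (motive := fun _ => Nat) (OPL0_s9_493 i) (OPL0_s9_237 i) (Nat.beq (Nat.land (Nat.shiftRight i 8) 1) 0)
noncomputable def OPL0_s8_238 (i : Nat) : Nat := Bool.rec (motive := fun _ => Nat) (OPL0_s9_494 i) (OPL0_s9_238 i) (Nat.beq (Nat.land (Nat.shiftRight i 8) 1) 0)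
noncomputable def OPL0_s8_239 (i : Nat) : Nat := Bool.rec (motive := fun _ => Nat) (OPL0_s9_495 i) (OPL0_s9_239 i) (Nat.beq (Nat.land (Nat.shiftRight i 8) 1) 0)
noncomputable def OPL0_s8_240 (i : Nat) : Nat := Bool.rec (motive := fun _ => Nat) (OPL0_s9_496 i) (OPL0_s9_240 i) (Nat.beq (Nat.land (Nat.shiftRight i 8) 1) 0)
noncomputable def OPL0_s8_241 (i : Nat) : Nat := Bool.rec (motive := fun _ => Nat) (OPL0_s9_497 i) (OPL0_s9_241 i) (Nat.beq (Nat.land (Nat.shiftRight i 8) 1) 0)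
noncomputable def OPL0_s8_242 (i : Nat) : Nat := Bool.rec (motive := fun _ => Nat) (OPL0_s9_498 i) (OPL0_s9_242 i) (Nat.beq (Nat.land (Nat.shiftRight i 8) 1) 0)
noncomputable def OPL0_s8_243 (i : Nat) : Nat := Bool.rec (motive := fun _ => Nat) (OPL0_s9_499 i) (OPL0_s9_243 i) (Nat.beq (Nat.land (Nat.shiftRight i 8) 1) 0)
noncomputable def OPL0_s8_244 (i : Nat) : Nat := Bool.rec (motive := fun _ => Nat) (OPL0_s9_500 i) (OPL0_s9_244 i) (Nat.beq (Nat.land (Nat.shiftRight i 8) 1) 0)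
noncomputable def OPL0_s8_245 (i : Nat) : Nat := Bool.rec (motive := fun _ => Nat) (OPL0_s9_501 i) (OPL0_s9_245 i) (Nat.beq (Nat.land (Nat.shiftRight i 8) 1) 0)
noncomputable def OPL0_s8_246 (i : Nat) : Nat := Bool.rec (motive := fun _ => Nat) (OPL0_s9_502 i) (OPL0_s9_246 i) (Nat.beq (Nat.land (Nat.shiftRight i 8) 1) 0)
noncomputable def OPL0_s8_247 (i : Nat) : Nat := Bool.rec (motive := fun _ => Nat) (OPL0_s9_503 i) (OPL0_s9_247 i) (Nat.beq (Nat.land (Nat.shiftRight i 8) 1) 0)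
noncomputable def OPL0_s8_248 (i : Nat) : Nat := Bool.rec (motive := fun _ => Nat) (OPL0_s9_504 i) (OPL0_s9_248 i) (Nat.beq (Nat.land (Nat.shiftRight i 8) 1) 0)
noncomputable def OPL0_s8_249 (i : Nat) : Nat := Bool.rec (motive := fun _ => Nat) (OPL0_s9_505 i) (OPL0_s9_249 i) (Nat.beq (Nat.land (Nat.shiftRight i 8) 1) 0)
noncomputable def OPL0_s8_250 (i : Nat) : Nat := Bool.rec (motive := fun _ => Nat) (OPL0_s9_506 i) (OPL0_s9_250 i) (Nat.beq (Nat.land (Nat.shiftRight i 8) 1) 0)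
noncomputable def OPL0_s8_251 (i : Nat) : Nat := Bool.rec (motive := fun _ => Nat) (OPL0_s9_507 i) (OPL0_s9_251 i) (Nat.beq (Nat.land (Nat.shiftRight i 8) 1) 0)
noncomputable def OPL0_s8_252 (i : Nat) : Nat := Bool.rec (motive := fun _ => Nat) (OPL0_s9_508 i) (OPL0_s9_252 i) (Nat.beq (Nat.land (Nat.shiftRight i 8) 1) 0)
noncomputable def OPL0_s8_253 (i : Nat) : Nat := Bool.rec (motive := fun _ => Nat) (OPL0_s9_509 i) (OPL0_s9_253 i) (Nat.beq (Nat.land (Nat.shiftRight i 8) 1) 0)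
noncomputable def OPL0_s8_254 (i : Nat) : Nat := Bool.rec (motive := fun _ => Nat) (OPL0_s9_510 i) (OPL0_s9_254 i) (Nat.beq (Nat.land (Nat.shiftRight i 8) 1) 0)
noncomputable def OPL0_s8_255 (i : Nat) : Nat := Bool.rec (motive := fun _ => Nat) (OPL0_s9_511 i) (OPL0_s9_255 i) (Nat.beq (Nat.land (Nat.shiftRight i 8) 1) 0)
noncomputable def OPL0_s7_0 (i : Nat) : Nat := Bool.rec (motive := fun _ => Nat) (OPL0_s8_128 i) (OPL0_s8_0 i) (Nat.beq (Nat.land (Nat.shiftRight i 7) 1) 0)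
noncomputable def OPL0_s7_1 (i : Nat) : Nat := Bool.rec (motive := fun _ => Nat) (OPL0_s8_129 i) (OPL0_s8_1 i) (Nat.beq (Nat.land (Nat.shiftRight i 7) 1) 0)
noncomputable def OPL0_s7_2 (i : Nat) : Nat := Bool.rec (motive := fun _ => Nat) (OPL0_s8_130 i) (OPL0_s8_2 i) (Nat.beq (Nat.land (Nat.shiftRight i 7) 1) 0)
noncomputable def OPL0_s7_3 (i : Nat) : Nat := Bool.rec (motive := fun _ => Nat) (OPL0_s8_131 i) (OPL0_s8_3 i) (Nat.beq (Nat.land (Nat.shiftRight i 7) 1) 0)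
noncomputable def OPL0_s7_4 (i : Nat) : Nat := Bool.rec (motive := fun _ => Nat) (OPL0_s8_132 i) (OPL0_s8_4 i) (Nat.beq (Nat.land (Nat.shiftRight i 7) 1) 0)
noncomputable def OPL0_s7_5 (i : Nat) : Nat := Bool.rec (motive := fun _ => Nat) (OPL0_s8_133 i) (OPL0_s8_5 i) (Nat.beq (Nat.land (Nat.shiftRight i 7) 1) 0)
noncomputable def OPL0_s7_6 (i : Nat) : Nat := Bool.rec (motive := fun _ => Nat) (OPL0_s8_134 i) (OPL0_s8_6 i) (Nat.beq (Nat.land (Nat.shiftRight i 7) 1) 0)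
noncomputable def OPL0_s7_7 (i : Nat) : Nat := Bool.rec (motive := fun _ => Nat) (OPL0_s8_135 i) (OPL0_s8_7 i) (Nat.beq (Nat.land (Nat.shiftRight i 7) 1) 0)
noncomputable def OPL0_s7_8 (i : Nat) : Nat := Bool.rec (motive := fun _ => Nat) (OPL0_s8_136 i) (OPL0_s8_8 i) (Nat.beq (Nat.land (Nat.shiftRight i 7) 1) 0)
noncomputable def OPL0_s7_9 (i : Nat) : Nat := Bool.rec (motive := fun _ => Nat) (OPL0_s8_137 i) (OPL0_s8_9 i) (Nat.beq (Nat.land (Nat.shiftRight i 7) 1) 0)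
noncomputable def OPL0_s7_10 (i : Nat) : Nat := Bool.rec (motive := fun _ => Nat) (OPL0_s8_138 i) (OPL0_s8_10 i) (Nat.beq (Nat.land (Nat.shiftRight i 7) 1) 0)
noncomputable def OPL0_s7_11 (i : Nat) : Nat := Bool.rec (motive := fun _ => Nat) (OPL0_s8_139 i) (OPL0_s8_11 i) (Nat.beq (Nat.land (Nat.shiftRight i 7) 1) 0)
noncomputable def OPL0_s7_12 (i : Nat) : Nat := Bool.rec (motive := fun _ => Nat) (OPL0_s8_140 i) (OPL0_s8_12 i) (Nat.beq (Nat.land (Nat.shiftRight i 7) 1) 0)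
noncomputable def OPL0_s7_13 (i : Nat) : Nat := Bool.rec (motive := fun _ => Nat) (OPL0_s8_141 i) (OPL0_s8_13 i) (Nat.beq (Nat.land (Nat.shiftRight i 7) 1) 0)
noncomputable def OPL0_s7_14 (i : Nat) : Nat := Bool.rec (motive := fun _ => Nat) (OPL0_s8_142 i) (OPL0_s8_14 i) (Nat.beq (Nat.land (Nat.shiftRight i 7) 1) 0)
noncomputable def OPL0_s7_15 (i : Nat) : Nat := Bool.rec (motive := fun _ => Nat) (OPL0_s8_143 i) (OPL0_s8_15 i) (Nat.beq (Nat.land (Nat.shiftRight i 7) 1) 0)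
noncomputable def OPL0_s7_16 (i : Nat) : Nat := Bool.rec (motive := fun _ => Nat) (OPL0_s8_144 i) (OPL0_s8_16 i) (Nat.beq (Nat.land (Nat.shiftRight i 7) 1) 0)
noncomputable def OPL0_s7_17 (i : Nat) : Nat := Bool.rec (motive := fun _ => Nat) (OPL0_s8_145 i) (OPL0_s8_17 i) (Nat.beq (Nat.land (Nat.shiftRight i 7) 1) 0)
noncomputable def OPL0_s7_18 (i : Nat) : Nat := Bool.rec (motive := fun _ => Nat) (OPL0_s8_146 i) (OPL0_s8_18 i) (Nat.beq (Nat.land (Nat.shiftRight i 7) 1) 0)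
noncomputable def OPL0_s7_19 (i : Nat) : Nat := Bool.rec (motive := fun _ => Nat) (OPL0_s8_147 i) (OPL0_s8_19 i) (Nat.beq (Nat.land (Nat.shiftRight i 7) 1) 0)
noncomputable def OPL0_s7_20 (i : Nat) : Nat := Bool.rec (motive := fun _ => Nat) (OPL0_s8_148 i) (OPL0_s8_20 i) (Nat.beq (Nat.land (Nat.shiftRight i 7) 1) 0)
noncomputable def OPL0_s7_21 (i : Nat) : Nat := Bool.rec (motive := fun _ => Nat) (OPL0_s8_149 i) (OPL0_s8_21 i) (Nat.beq (Nat.land (Nat.shiftRight i 7) 1) 0)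
noncomputable def OPL0_s7_22 (i : Nat) : Nat := Bool.rec (motive := fun _ => Nat) (OPL0_s8_150 i) (OPL0_s8_22 i) (Nat.beq (Nat.land (Nat.shiftRight i 7) 1) 0)
noncomputable def OPL0_s7_23 (i : Nat) : Nat := Bool.rec (motive := fun _ => Nat) (OPL0_s8_151 i) (OPL0_s8_23 i) (Nat.beq (Nat.land (Nat.shiftRight i 7) 1) 0)
noncomputable def OPL0_s7_24 (i : Nat) : Nat := Bool.rec (motive := fun _ => Nat) (OPL0_s8_152 i) (OPL0_s8_24 i) (Nat.beq (Nat.land (Nat.shiftRight i 7) 1) 0)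
noncomputable def OPL0_s7_25 (i : Nat) : Nat := Bool.rec (motive := fun _ => Nat) (OPL0_s8_153 i) (OPL0_s8_25 i) (Nat.beq (Nat.land (Nat.shiftRight i 7) 1) 0)
noncomputable def OPL0_s7_26 (i : Nat) : Nat := Bool.rec (motive := fun _ => Nat) (OPL0_s8_154 i) (OPL0_s8_26 i) (Nat.beq (Nat.land (Nat.shiftRight i 7) 1) 0)
noncomputable def OPL0_s7_27 (i : Nat) : Nat := Bool.rec (motive := fun _ => Nat) (OPL0_s8_155 i) (OPL0_s8_27 i) (Nat.beq (Nat.land (Nat.shiftRight i 7) 1) 0)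
noncomputable def OPL0_s7_28 (i : Nat) : Nat := Bool.rec (motive := fun _ => Nat) (OPL0_s8_156 i) (OPL0_s8_28 i) (Nat.beq (Nat.land (Nat.shiftRight i 7) 1) 0)
noncomputable def OPL0_s7_29 (i : Nat) : Nat := Bool.rec (motive := fun _ => Nat) (OPL0_s8_157 i) (OPL0_s8_29 i) (Nat.beq (Nat.land (Nat.shiftRight i 7) 1) 0)
noncomputable def OPL0_s7_30 (i : Nat) : Nat := Bool.rec (motive := fun _ => Nat) (OPL0_s8_158 i) (OPL0_s8_30 i) (Nat.beq (Nat.land (Nat.shiftRight i 7) 1) 0)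
noncomputable def OPL0_s7_31 (i : Nat) : Nat := Bool.rec (motive := fun _ => Nat) (OPL0_s8_159 i) (OPL0_s8_31 i) (Nat.beq (Nat.land (Nat.shiftRight i 7) 1) 0)
noncomputable def OPL0_s7_32 (i : Nat) : Nat := Bool.rec (motive := fun _ => Nat) (OPL0_s8_160 i) (OPL0_s8_32 i) (Nat.beq (Nat.land (Nat.shiftRight i 7) 1) 0)
noncomputable def OPL0_s7_33 (i : Nat) : Nat := Bool.rec (motive := fun _ => Nat) (OPL0_s8_161 i) (OPL0_s8_33 i) (Nat.beq (Nat.land (Nat.shiftRight i 7) 1) 0)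
noncomputable def OPL0_s7_34 (i : Nat) : Nat := Bool.rec (motive := fun _ => Nat) (OPL0_s8_162 i) (OPL0_s8_34 i) (Nat.beq (Nat.land (Nat.shiftRight i 7) 1) 0)
noncomputable def OPL0_s7_35 (i : Nat) : Nat := Bool.rec (motive := fun _ => Nat) (OPL0_s8_163 i) (OPL0_s8_35 i) (Nat.beq (Nat.land (Nat.shiftRight i 7) 1) 0)
noncomputable def OPL0_s7_36 (i : Nat) : Nat := Bool.rec (motive := fun _ => Nat) (OPL0_s8_164 i) (OPL0_s8_36 i) (Nat.beq (Nat.land (Nat.shiftRight i 7) 1) 0)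
noncomputable def OPL0_s7_37 (i : Nat) : Nat := Bool.rec (motive := fun _ => Nat) (OPL0_s8_165 i) (OPL0_s8_37 i) (Nat.beq (Nat.land (Nat.shiftRight i 7) 1) 0)
noncomputable def OPL0_s7_38 (i : Nat) : Nat := Bool.rec (motive := fun _ => Nat) (OPL0_s8_166 i) (OPL0_s8_38 i) (Nat.beq (Nat.land (Nat.shiftRight i 7) 1) 0)
noncomputable def OPL0_s7_39 (i : Nat) : Nat := Bool.rec (motive := fun _ => Nat) (OPL0_s8_167 i) (OPL0_s8_39 i) (Nat.beq (Nat.land (Nat.shiftRight i 7) 1) 0)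
noncomputable def OPL0_s7_40 (i : Nat) : Nat := Bool.rec (motive := fun _ => Nat) (OPL0_s8_168 i) (OPL0_s8_40 i) (Nat.beq (Nat.land (Nat.shiftRight i 7) 1) 0)
noncomputable def OPL0_s7_41 (i : Nat) : Nat := Bool.rec (motive := fun _ => Nat) (OPL0_s8_169 i) (OPL0_s8_41 i) (Nat.beq (Nat.land (Nat.shiftRight i 7) 1) 0)
noncomputable def OPL0_s7_42 (i : Nat) : Nat := Bool.rec (motive := fun _ => Nat) (OPL0_s8_170 i) (OPL0_s8_42 i) (Nat.beq (Nat.land (Nat.shiftRight i 7) 1) 0)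
noncomputable def OPL0_s7_43 (i : Nat) : Nat := Bool.rec (motive := fun _ => Nat) (OPL0_s8_171 i) (OPL0_s8_43 i) (Nat.beq (Nat.land (Nat.shiftRight i 7) 1) 0)
noncomputable def OPL0_s7_44 (i : Nat) : Nat := Bool.rec (motive := fun _ => Nat) (OPL0_s8_172 i) (OPL0_s8_44 i) (Nat.beq (Nat.land (Nat.shiftRight i 7) 1) 0)
noncomputable def OPL0_s7_45 (i : Nat) : Nat := Bool.rec (motive := fun _ => Nat) (OPL0_s8_173 i) (OPL0_s8_45 i) (Nat.beq (Nat.land (Nat.shiftRight i 7) 1) 0)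
noncomputable def OPL0_s7_46 (i : Nat) : Nat := Bool.rec (motive := fun _ => Nat) (OPL0_s8_174 i) (OPL0_s8_46 i) (Nat.beq (Nat.land (Nat.shiftRight i 7) 1) 0)
noncomputable def OPL0_s7_47 (i : Nat) : Nat := Bool.rec (motive := fun _ => Nat) (OPL0_s8_175 i) (OPL0_s8_47 i) (Nat.beq (Nat.land (Nat.shiftRight i 7) 1) 0)
noncomputable def OPL0_s7_48 (i : Nat) : Nat := Bool.rec (motive := fun _ => Nat) (OPL0_s8_176 i) (OPL0_s8_48 i) (Nat.beq (Nat.land (Nat.shiftRight i 7) 1) 0)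
noncomputable def OPL0_s7_49 (i : Nat) : Nat := Bool.rec (motive := fun _ => Nat) (OPL0_s8_177 i) (OPL0_s8_49 i) (Nat.beq (Nat.land (Nat.shiftRight i 7) 1) 0)
noncomputable def OPL0_s7_50 (i : Nat) : Nat := Bool.rec (motive := fun _ => Nat) (OPL0_s8_178 i) (OPL0_s8_50 i) (Nat.beq (Nat.land (Nat.shiftRight i 7) 1) 0)
noncomputable def OPL0_s7_51 (i : Nat) : Nat := Bool.rec (motive := fun _ => Nat) (OPL0_s8_179 i) (OPL0_s8_51 i) (Nat.beq (Nat.land (Nat.shiftRight i 7) 1) 0)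
noncomputable def OPL0_s7_52 (i : Nat) : Nat := Bool.rec (motive := fun _ => Nat) (OPL0_s8_180 i) (OPL0_s8_52 i) (Nat.beq (Nat.land (Nat.shiftRight i 7) 1) 0)
noncomputable def OPL0_s7_53 (i : Nat) : Nat := Bool.rec (motive := fun _ => Nat) (OPL0_s8_181 i) (OPL0_s8_53 i) (Nat.beq (Nat.land (Nat.shiftRight i 7) 1) 0)
noncomputable def OPL0_s7_54 (i : Nat) : Nat := Bool.rec (motive := fun _ => Nat) (OPL0_s8_182 i) (OPL0_s8_54 i) (Nat.beq (Nat.land (Nat.shiftRight i 7) 1) 0)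
noncomputable def OPL0_s7_55 (i : Nat) : Nat := Bool.rec (motive := fun _ => Nat) (OPL0_s8_183 i) (OPL0_s8_55 i) (Nat.beq (Nat.land (Nat.shiftRight i 7) 1) 0)
noncomputable def OPL0_s7_56 (i : Nat) : Nat := Bool.rec (motive := fun _ => Nat) (OPL0_s8_184 i) (OPL0_s8_56 i) (Nat.beq (Nat.land (Nat.shiftRight i 7) 1) 0)
noncomputable def OPL0_s7_57 (i : Nat) : Nat := Bool.rec (motive := fun _ => Nat) (OPL0_s8_185 i) (OPL0_s8_57 i) (Nat.beq (Nat.land (Nat.shiftRight i 7) 1) 0)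
noncomputable def OPL0_s7_58 (i : Nat) : Nat := Bool.rec (motive := fun _ => Nat) (OPL0_s8_186 i) (OPL0_s8_58 i) (Nat.beq (Nat.land (Nat.shiftRight i 7) 1) 0)
noncomputable def OPL0_s7_59 (i : Nat) : Nat := Bool.rec (motive := fun _ => Nat) (OPL0_s8_187 i) (OPL0_s8_59 i) (Nat.beq (Nat.land (Nat.shiftRight i 7) 1) 0)
noncomputable def OPL0_s7_60 (i : Nat) : Nat := Bool.rec (motive := fun _ => Nat) (OPL0_s8_188 i) (OPL0_s8_60 i) (Nat.beq (Nat.land (Nat.shiftRight i 7) 1) 0)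
noncomputable def OPL0_s7_61 (i : Nat) : Nat := Bool.rec (motive := fun _ => Nat) (OPL0_s8_189 i) (OPL0_s8_61 i) (Nat.beq (Nat.land (Nat.shiftRight i 7) 1) 0)
noncomputable def OPL0_s7_62 (i : Nat) : Nat := Bool.rec (motive := fun _ => Nat) (OPL0_s8_190 i) (OPL0_s8_62 i) (Nat.beq (Nat.land (Nat.shiftRight i 7) 1) 0)
noncomputable def OPL0_s7_63 (i : Nat) : Nat := Bool.rec (motive := fun _ => Nat) (OPL0_s8_191 i) (OPL0_s8_63 i) (Nat.beq (Nat.land (Nat.shiftRight i 7) 1) 0)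
noncomputable def OPL0_s7_64 (i : Nat) : Nat := Bool.rec (motive := fun _ => Nat) (OPL0_s8_192 i) (OPL0_s8_64 i) (Nat.beq (Nat.land (Nat.shiftRight i 7) 1) 0)
noncomputable def OPL0_s7_65 (i : Nat) : Nat := Bool.rec (motive := fun _ => Nat) (OPL0_s8_193 i) (OPL0_s8_65 i) (Nat.beq (Nat.land (Nat.shiftRight i 7) 1) 0)
noncomputable def OPL0_s7_66 (i : Nat) : Nat := Bool.rec (motive := fun _ => Nat) (OPL0_s8_194 i) (OPL0_s8_66 i) (Nat.beq (Nat.land (Nat.shiftRight i 7) 1) 0)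
noncomputable def OPL0_s7_67 (i : Nat) : Nat := Bool.rec (motive := fun _ => Nat) (OPL0_s8_195 i) (OPL0_s8_67 i) (Nat.beq (Nat.land (Nat.shiftRight i 7) 1) 0)
noncomputable def OPL0_s7_68 (i : Nat) : Nat := Bool.rec (motive := fun _ => Nat) (OPL0_s8_196 i) (OPL0_s8_68 i) (Nat.beq (Nat.land (Nat.shiftRight i 7) 1) 0)
noncomputable def OPL0_s7_69 (i : Nat) : Nat := Bool.rec (motive := fun _ => Nat) (OPL0_s8_197 i) (OPL0_s8_69 i) (Nat.beq (Nat.land (Nat.shiftRight i 7) 1) 0)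
noncomputable def OPL0_s7_70 (i : Nat) : Nat := Bool.rec (motive := fun _ => Nat) (OPL0_s8_198 i) (OPL0_s8_70 i) (Nat.beq (Nat.land (Nat.shiftRight i 7) 1) 0)
noncomputable def OPL0_s7_71 (i : Nat) : Nat := Bool.rec (motive := fun _ => Nat) (OPL0_s8_199 i) (OPL0_s8_71 i) (Nat.beq (Nat.land (Nat.shiftRight i 7) 1) 0)
noncomputable def OPL0_s7_72 (i : Nat) : Nat := Bool.rec (motive := fun _ => Nat) (OPL0_s8_200 i) (OPL0_s8_72 i) (Nat.beq (Nat.land (Nat.shiftRight i 7) 1) 0)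
noncomputable def OPL0_s7_73 (i : Nat) : Nat := Bool.rec (motive := fun _ => Nat) (OPL0_s8_201 i) (OPL0_s8_73 i) (Nat.beq (Nat.land (Nat.shiftRight i 7) 1) 0)
noncomputable def OPL0_s7_74 (i : Nat) : Nat := Bool.rec (motive := fun _ => Nat) (OPL0_s8_202 i) (OPL0_s8_74 i) (Nat.beq (Nat.land (Nat.shiftRight i 7) 1) 0)
noncomputable def OPL0_s7_75 (i : Nat) : Nat := Bool.rec (motive := fun _ => Nat) (OPL0_s8_203 i) (OPL0_s8_75 i) (Nat.beq (Nat.land (Nat.shiftRight i 7) 1) 0)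
noncomputable def OPL0_s7_76 (i : Nat) : Nat := Bool.rec (motive := fun _ => Nat) (OPL0_s8_204 i) (OPL0_s8_76 i) (Nat.beq (Nat.land (Nat.shiftRight i 7) 1) 0)
noncomputable def OPL0_s7_77 (i : Nat) : Nat := Bool.rec (motive := fun _ => Nat) (OPL0_s8_205 i) (OPL0_s8_77 i) (Nat.beq (Nat.land (Nat.shiftRight i 7) 1) 0)
noncomputable def OPL0_s7_78 (i : Nat) : Nat := Bool.rec (motive := fun _ => Nat) (OPL0_s8_206 i) (OPL0_s8_78 i) (Nat.beq (Nat.land (Nat.shiftRight i 7) 1) 0)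
noncomputable def OPL0_s7_79 (i : Nat) : Nat := Bool.rec (motive := fun _ => Nat) (OPL0_s8_207 i) (OPL0_s8_79 i) (Nat.beq (Nat.land (Nat.shiftRight i 7) 1) 0)
noncomputable def OPL0_s7_80 (i : Nat) : Nat := Bool.rec (motive := fun _ => Nat) (OPL0_s8_208 i) (OPL0_s8_80 i) (Nat.beq (Nat.land (Nat.shiftRight i 7) 1) 0)
noncomputable def OPL0_s7_81 (i : Nat) : Nat := Bool.rec (motive := fun _ => Nat) (OPL0_s8_209 i) (OPL0_s8_81 i) (Nat.beq (Nat.land (Nat.shiftRight i 7) 1) 0)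
noncomputable def OPL0_s7_82 (i : Nat) : Nat := Bool.rec (motive := fun _ => Nat) (OPL0_s8_210 i) (OPL0_s8_82 i) (Nat.beq (Nat.land (Nat.shiftRight i 7) 1) 0)
noncomputable def OPL0_s7_83 (i : Nat) : Nat := Bool.rec (motive := fun _ => Nat) (OPL0_s8_211 i) (OPL0_s8_83 i) (Nat.beq (Nat.land (Nat.shiftRight i 7) 1) 0)
noncomputable def OPL0_s7_84 (i : Nat) : Nat := Bool.rec (motive := fun _ => Nat) (OPL0_s8_212 i) (OPL0_s8_84 i) (Nat.beq (Nat.land (Nat.shiftRight i 7) 1) 0)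
noncomputable def OPL0_s7_85 (i : Nat) : Nat := Bool.rec (motive := fun _ => Nat) (OPL0_s8_213 i) (OPL0_s8_85 i) (Nat.beq (Nat.land (Nat.shiftRight i 7) 1) 0)
noncomputable def OPL0_s7_86 (i : Nat) : Nat := Bool.rec (motive := fun _ => Nat) (OPL0_s8_214 i) (OPL0_s8_86 i) (Nat.beq (Nat.land (Nat.shiftRight i 7) 1) 0)
noncomputable def OPL0_s7_87 (i : Nat) : Nat := Bool.rec (motive := fun _ => Nat) (OPL0_s8_215 i) (OPL0_s8_87 i) (Nat.beq (Nat.land (Nat.shiftRight i 7) 1) 0)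
noncomputable def OPL0_s7_88 (i : Nat) : Nat := Bool.rec (motive := fun _ => Nat) (OPL0_s8_216 i) (OPL0_s8_88 i) (Nat.beq (Nat.land (Nat.shiftRight i 7) 1) 0)
noncomputable def OPL0_s7_89 (i : Nat) : Nat := Bool.rec (motive := fun _ => Nat) (OPL0_s8_217 i) (OPL0_s8_89 i) (Nat.beq (Nat.land (Nat.shiftRight i 7) 1) 0)
noncomputable def OPL0_s7_90 (i : Nat) : Nat := Bool.rec (motive := fun _ => Nat) (OPL0_s8_218 i) (OPL0_s8_90 i) (Nat.beq (Nat.land (Nat.shiftRight i 7) 1) 0)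
noncomputable def OPL0_s7_91 (i : Nat) : Nat := Bool.rec (motive := fun _ => Nat) (OPL0_s8_219 i) (OPL0_s8_91 i) (Nat.beq (Nat.land (Nat.shiftRight i 7) 1) 0)
noncomputable def OPL0_s7_92 (i : Nat) : Nat := Bool.rec (motive := fun _ => Nat) (OPL0_s8_220 i) (OPL0_s8_92 i) (Nat.beq (Nat.land (Nat.shiftRight i 7) 1) 0)
noncomputable def OPL0_s7_93 (i : Nat) : Nat := Bool.rec (motive := fun _ => Nat) (OPL0_s8_221 i) (OPL0_s8_93 i) (Nat.beq (Nat.land (Nat.shiftRight i 7) 1) 0)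
noncomputable def OPL0_s7_94 (i : Nat) : Nat := Bool.rec (motive := fun _ => Nat) (OPL0_s8_222 i) (OPL0_s8_94 i) (Nat.beq (Nat.land (Nat.shiftRight i 7) 1) 0)
noncomputable def OPL0_s7_95 (i : Nat) : Nat := Bool.rec (motive := fun _ => Nat) (OPL0_s8_223 i) (OPL0_s8_95 i) (Nat.beq (Nat.land (Nat.shiftRight i 7) 1) 0)
noncomputable def OPL0_s7_96 (i : Nat) : Nat := Bool.rec (motive := fun _ => Nat) (OPL0_s8_224 i) (OPL0_s8_96 i) (Nat.beq (Nat.land (Nat.shiftRight i 7) 1) 0)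
noncomputable def OPL0_s7_97 (i : Nat) : Nat := Bool.rec (motive := fun _ => Nat) (OPL0_s8_225 i) (OPL0_s8_97 i) (Nat.beq (Nat.land (Nat.shiftRight i 7) 1) 0)
noncomputable def OPL0_s7_98 (i : Nat) : Nat := Bool.rec (motive := fun _ => Nat) (OPL0_s8_226 i) (OPL0_s8_98 i) (Nat.beq (Nat.land (Nat.shiftRight i 7) 1) 0)
noncomputable def OPL0_s7_99 (i : Nat) : Nat := Bool.rec (motive := fun _ => Nat) (OPL0_s8_227 i) (OPL0_s8_99 i) (Nat.beq (Nat.land (Nat.shiftRight i 7) 1) 0)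
noncomputable def OPL0_s7_100 (i : Nat) : Nat := Bool.rec (motive := fun _ => Nat) (OPL0_s8_228 i) (OPL0_s8_100 i) (Nat.beq (Nat.land (Nat.shiftRight i 7) 1) 0)
noncomputable def OPL0_s7_101 (i : Nat) : Nat := Bool.rec (motive := fun _ => Nat) (OPL0_s8_229 i) (OPL0_s8_101 i) (Nat.beq (Nat.land (Nat.shiftRight i 7) 1) 0)
noncomputable def OPL0_s7_102 (i : Nat) : Nat := Bool.rec (motive := fun _ => Nat) (OPL0_s8_230 i) (OPL0_s8_102 i) (Nat.beq (Nat.land (Nat.shiftRight i 7) 1) 0)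
noncomputable def OPL0_s7_103 (i : Nat) : Nat := Bool.rec (motive := fun _ => Nat) (OPL0_s8_231 i) (OPL0_s8_103 i) (Nat.beq (Nat.land (Nat.shiftRight i 7) 1) 0)
noncomputable def OPL0_s7_104 (i : Nat) : Nat := Bool.rec (motive := fun _ => Nat) (OPL0_s8_232 i) (OPL0_s8_104 i) (Nat.beq (Nat.land (Nat.shiftRight i 7) 1) 0)
noncomputable def OPL0_s7_105 (i : Nat) : Nat := Bool.rec (motive := fun _ => Nat) (OPL0_s8_233 i) (OPL0_s8_105 i) (Nat.beq (Nat.land (Nat.shiftRight i 7) 1) 0)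
noncomputable def OPL0_s7_106 (i : Nat) : Nat := Bool.rec (motive := fun _ => Nat) (OPL0_s8_234 i) (OPL0_s8_106 i) (Nat.beq (Nat.land (Nat.shiftRight i 7) 1) 0)
noncomputable def OPL0_s7_107 (i : Nat) : Nat := Bool.rec (motive := fun _ => Nat) (OPL0_s8_235 i) (OPL0_s8_107 i) (Nat.beq (Nat.land (Nat.shiftRight i 7) 1) 0)
noncomputable def OPL0_s7_108 (i : Nat) : Nat := Bool.rec (motive := fun _ => Nat) (OPL0_s8_236 i) (OPL0_s8_108 i) (Nat.beq (Nat.land (Nat.shiftRight i 7) 1) 0)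
noncomputable def OPL0_s7_109 (i : Nat) : Nat := Bool.rec (motive := fun _ => Nat) (OPL0_s8_237 i) (OPL0_s8_109 i) (Nat.beq (Nat.land (Nat.shiftRight i 7) 1) 0)
noncomputable def OPL0_s7_110 (i : Nat) : Nat := Bool.rec (motive := fun _ => Nat) (OPL0_s8_238 i) (OPL0_s8_110 i) (Nat.beq (Nat.land (Nat.shiftRight i 7) 1) 0)
noncomputable def OPL0_s7_111 (i : Nat) : Nat := Bool.rec (motive := fun _ => Nat) (OPL0_s8_239 i) (OPL0_s8_111 i) (Nat.beq (Nat.land (Nat.shiftRight i 7) 1) 0)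
noncomputable def OPL0_s7_112 (i : Nat) : Nat := Bool.rec (motive := fun _ => Nat) (OPL0_s8_240 i) (OPL0_s8_112 i) (Nat.beq (Nat.land (Nat.shiftRight i 7) 1) 0)
noncomputable def OPL0_s7_113 (i : Nat) : Nat := Bool.rec (motive := fun _ => Nat) (OPL0_s8_241 i) (OPL0_s8_113 i) (Nat.beq (Nat.land (Nat.shiftRight i 7) 1) 0)
noncomputable def OPL0_s7_114 (i : Nat) : Nat := Bool.rec (motive := fun _ => Nat) (OPL0_s8_242 i) (OPL0_s8_114 i) (Nat.beq (Nat.land (Nat.shiftRight i 7) 1) 0)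
noncomputable def OPL0_s7_115 (i : Nat) : Nat := Bool.rec (motive := fun _ => Nat) (OPL0_s8_243 i) (OPL0_s8_115 i) (Nat.beq (Nat.land (Nat.shiftRight i 7) 1) 0)
noncomputable def OPL0_s7_116 (i : Nat) : Nat := Bool.rec (motive := fun _ => Nat) (OPL0_s8_244 i) (OPL0_s8_116 i) (Nat.beq (Nat.land (Nat.shiftRight i 7) 1) 0)
noncomputable def OPL0_s7_117 (i : Nat) : Nat := Bool.rec (motive := fun _ => Nat) (OPL0_s8_245 i) (OPL0_s8_117 i) (Nat.beq (Nat.land (Nat.shiftRight i 7) 1) 0)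
noncomputable def OPL0_s7_118 (i : Nat) : Nat := Bool.rec (motive := fun _ => Nat) (OPL0_s8_246 i) (OPL0_s8_118 i) (Nat.beq (Nat.land (Nat.shiftRight i 7) 1) 0)
noncomputable def OPL0_s7_119 (i : Nat) : Nat := Bool.rec (motive := fun _ => Nat) (OPL0_s8_247 i) (OPL0_s8_119 i) (Nat.beq (Nat.land (Nat.shiftRight i 7) 1) 0)
noncomputable def OPL0_s7_120 (i : Nat) : Nat := Bool.rec (motive := fun _ => Nat) (OPL0_s8_248 i) (OPL0_s8_120 i) (Nat.beq (Nat.land (Nat.shiftRight i 7) 1) 0)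
noncomputable def OPL0_s7_121 (i : Nat) : Nat := Bool.rec (motive := fun _ => Nat) (OPL0_s8_249 i) (OPL0_s8_121 i) (Nat.beq (Nat.land (Nat.shiftRight i 7) 1) 0)
noncomputable def OPL0_s7_122 (i : Nat) : Nat := Bool.rec (motive := fun _ => Nat) (OPL0_s8_250 i) (OPL0_s8_122 i) (Nat.beq (Nat.land (Nat.shiftRight i 7) 1) 0)
noncomputable def OPL0_s7_123 (i : Nat) : Nat := Bool.rec (motive := fun _ => Nat) (OPL0_s8_251 i) (OPL0_s8_123 i) (Nat.beq (Nat.land (Nat.shiftRight i 7) 1) 0)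
noncomputable def OPL0_s7_124 (i : Nat) : Nat := Bool.rec (motive := fun _ => Nat) (OPL0_s8_252 i) (OPL0_s8_124 i) (Nat.beq (Nat.land (Nat.shiftRight i 7) 1) 0)
noncomputable def OPL0_s7_125 (i : Nat) : Nat := Bool.rec (motive := fun _ => Nat) (OPL0_s8_253 i) (OPL0_s8_125 i) (Nat.beq (Nat.land (Nat.shiftRight i 7) 1) 0)
noncomputable def OPL0_s7_126 (i : Nat) : Nat := Bool.rec (motive := fun _ => Nat) (OPL0_s8_254 i) (OPL0_s8_126 i) (Nat.beq (Nat.land (Nat.shiftRight i 7) 1) 0)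
noncomputable def OPL0_s7_127 (i : Nat) : Nat := Bool.rec (motive := fun _ => Nat) (OPL0_s8_255 i) (OPL0_s8_127 i) (Nat.beq (Nat.land (Nat.shiftRight i 7) 1) 0)
noncomputable def OPL0_s6_0 (i : Nat) : Nat := Bool.rec (motive := fun _ => Nat) (OPL0_s7_64 i) (OPL0_s7_0 i) (Nat.beq (Nat.land (Nat.shiftRight i 6) 1) 0)
noncomputable def OPL0_s6_1 (i : Nat) : Nat := Bool.rec (motive := fun _ => Nat) (OPL0_s7_65 i) (OPL0_s7_1 i) (Nat.beq (Nat.land (Nat.shiftRight i 6) 1) 0)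
noncomputable def OPL0_s6_2 (i : Nat) : Nat := Bool.rec (motive := fun _ => Nat) (OPL0_s7_66 i) (OPL0_s7_2 i) (Nat.beq (Nat.land (Nat.shiftRight i 6) 1) 0)
noncomputable def OPL0_s6_3 (i : Nat) : Nat := Bool.rec (motive := fun _ => Nat) (OPL0_s7_67 i) (OPL0_s7_3 i) (Nat.beq (Nat.land (Nat.shiftRight i 6) 1) 0)
noncomputable def OPL0_s6_4 (i : Nat) : Nat := Bool.rec (motive := fun _ => Nat) (OPL0_s7_68 i) (OPL0_s7_4 i) (Nat.beq (Nat.land (Nat.shiftRight i 6) 1) 0)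
noncomputable def OPL0_s6_5 (i : Nat) : Nat := Bool.rec (motive := fun _ => Nat) (OPL0_s7_69 i) (OPL0_s7_5 i) (Nat.beq (Nat.land (Nat.shiftRight i 6) 1) 0)
noncomputable def OPL0_s6_6 (i : Nat) : Nat := Bool.rec (motive := fun _ => Nat) (OPL0_s7_70 i) (OPL0_s7_6 i) (Nat.beq (Nat.land (Nat.shiftRight i 6) 1) 0)
noncomputable def OPL0_s6_7 (i : Nat) : Nat := Bool.rec (motive := fun _ => Nat) (OPL0_s7_71 i) (OPL0_s7_7 i) (Nat.beq (Nat.land (Nat.shiftRight i 6) 1) 0)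
noncomputable def OPL0_s6_8 (i : Nat) : Nat := Bool.rec (motive := fun _ => Nat) (OPL0_s7_72 i) (OPL0_s7_8 i) (Nat.beq (Nat.land (Nat.shiftRight i 6) 1) 0)
noncomputable def OPL0_s6_9 (i : Nat) : Nat := Bool.rec (motive := fun _ => Nat) (OPL0_s7_73 i) (OPL0_s7_9 i) (Nat.beq (Nat.land (Nat.shiftRight i 6) 1) 0)
noncomputable def OPL0_s6_10 (i : Nat) : Nat := Bool.rec (motive := fun _ => Nat) (OPL0_s7_74 i) (OPL0_s7_10 i) (Nat.beq (Nat.land (Nat.shiftRight i 6) 1) 0)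
noncomputable def OPL0_s6_11 (i : Nat) : Nat := Bool.rec (motive := fun _ => Nat) (OPL0_s7_75 i) (OPL0_s7_11 i) (Nat.beq (Nat.land (Nat.shiftRight i 6) 1) 0)
noncomputable def OPL0_s6_12 (i : Nat) : Nat := Bool.rec (motive := fun _ => Nat) (OPL0_s7_76 i) (OPL0_s7_12 i) (Nat.beq (Nat.land (Nat.shiftRight i 6) 1) 0)
noncomputable def OPL0_s6_13 (i : Nat) : Nat := Bool.rec (motive := fun _ => Nat) (OPL0_s7_77 i) (OPL0_s7_13 i) (Nat.beq (Nat.land (Nat.shiftRight i 6) 1) 0)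
noncomputable def OPL0_s6_14 (i : Nat) : Nat := Bool.rec (motive := fun _ => Nat) (OPL0_s7_78 i) (OPL0_s7_14 i) (Nat.beq (Nat.land (Nat.shiftRight i 6) 1) 0)
noncomputable def OPL0_s6_15 (i : Nat) : Nat := Bool.rec (motive := fun _ => Nat) (OPL0_s7_79 i) (OPL0_s7_15 i) (Nat.beq (Nat.land (Nat.shiftRight i 6) 1) 0)
noncomputable def OPL0_s6_16 (i : Nat) : Nat := Bool.rec (motive := fun _ => Nat) (OPL0_s7_80 i) (OPL0_s7_16 i) (Nat.beq (Nat.land (Nat.shiftRight i 6) 1) 0)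
noncomputable def OPL0_s6_17 (i : Nat) : Nat := Bool.rec (motive := fun _ => Nat) (OPL0_s7_81 i) (OPL0_s7_17 i) (Nat.beq (Nat.land (Nat.shiftRight i 6) 1) 0)
noncomputable def OPL0_s6_18 (i : Nat) : Nat := Bool.rec (motive := fun _ => Nat) (OPL0_s7_82 i) (OPL0_s7_18 i) (Nat.beq (Nat.land (Nat.shiftRight i 6) 1) 0)
noncomputable def OPL0_s6_19 (i : Nat) : Nat := Bool.rec (motive := fun _ => Nat) (OPL0_s7_83 i) (OPL0_s7_19 i) (Nat.beq (Nat.land (Nat.shiftRight i 6) 1) 0)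
noncomputable def OPL0_s6_20 (i : Nat) : Nat := Bool.rec (motive := fun _ => Nat) (OPL0_s7_84 i) (OPL0_s7_20 i) (Nat.beq (Nat.land (Nat.shiftRight i 6) 1) 0)
noncomputable def OPL0_s6_21 (i : Nat) : Nat := Bool.rec (motive := fun _ => Nat) (OPL0_s7_85 i) (OPL0_s7_21 i) (Nat.beq (Nat.land (Nat.shiftRight i 6) 1) 0)
noncomputable def OPL0_s6_22 (i : Nat) : Nat := Bool.rec (motive := fun _ => Nat) (OPL0_s7_86 i) (OPL0_s7_22 i) (Nat.beq (Nat.land (Nat.shiftRight i 6) 1) 0)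
noncomputable def OPL0_s6_23 (i : Nat) : Nat := Bool.rec (motive := fun _ => Nat) (OPL0_s7_87 i) (OPL0_s7_23 i) (Nat.beq (Nat.land (Nat.shiftRight i 6) 1) 0)
noncomputable def OPL0_s6_24 (i : Nat) : Nat := Bool.rec (motive := fun _ => Nat) (OPL0_s7_88 i) (OPL0_s7_24 i) (Nat.beq (Nat.land (Nat.shiftRight i 6) 1) 0)
noncomputable def OPL0_s6_25 (i : Nat) : Nat := Bool.rec (motive := fun _ => Nat) (OPL0_s7_89 i) (OPL0_s7_25 i) (Nat.beq (Nat.land (Nat.shiftRight i 6) 1) 0)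
noncomputable def OPL0_s6_26 (i : Nat) : Nat := Bool.rec (motive := fun _ => Nat) (OPL0_s7_90 i) (OPL0_s7_26 i) (Nat.beq (Nat.land (Nat.shiftRight i 6) 1) 0)
noncomputable def OPL0_s6_27 (i : Nat) : Nat := Bool.rec (motive := fun _ => Nat) (OPL0_s7_91 i) (OPL0_s7_27 i) (Nat.beq (Nat.land (Nat.shiftRight i 6) 1) 0)
noncomputable def OPL0_s6_28 (i : Nat) : Nat := Bool.rec (motive := fun _ => Nat) (OPL0_s7_92 i) (OPL0_s7_28 i) (Nat.beq (Nat.land (Nat.shiftRight i 6) 1) 0)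
noncomputable def OPL0_s6_29 (i : Nat) : Nat := Bool.rec (motive := fun _ => Nat) (OPL0_s7_93 i) (OPL0_s7_29 i) (Nat.beq (Nat.land (Nat.shiftRight i 6) 1) 0)
noncomputable def OPL0_s6_30 (i : Nat) : Nat := Bool.rec (motive := fun _ => Nat) (OPL0_s7_94 i) (OPL0_s7_30 i) (Nat.beq (Nat.land (Nat.shiftRight i 6) 1) 0)
noncomputable def OPL0_s6_31 (i : Nat) : Nat := Bool.rec (motive := fun _ => Nat) (OPL0_s7_95 i) (OPL0_s7_31 i) (Nat.beq (Nat.land (Nat.shiftRight i 6) 1) 0)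
noncomputable def OPL0_s6_32 (i : Nat) : Nat := Bool.rec (motive := fun _ => Nat) (OPL0_s7_96 i) (OPL0_s7_32 i) (Nat.beq (Nat.land (Nat.shiftRight i 6) 1) 0)
noncomputable def OPL0_s6_33 (i : Nat) : Nat := Bool.rec (motive := fun _ => Nat) (OPL0_s7_97 i) (OPL0_s7_33 i) (Nat.beq (Nat.land (Nat.shiftRight i 6) 1) 0)
noncomputable def OPL0_s6_34 (i : Nat) : Nat := Bool.rec (motive := fun _ => Nat) (OPL0_s7_98 i) (OPL0_s7_34 i) (Nat.beq (Nat.land (Nat.shiftRight i 6) 1) 0)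
noncomputable def OPL0_s6_35 (i : Nat) : Nat := Bool.rec (motive := fun _ => Nat) (OPL0_s7_99 i) (OPL0_s7_35 i) (Nat.beq (Nat.land (Nat.shiftRight i 6) 1) 0)
noncomputable def OPL0_s6_36 (i : Nat) : Nat := Bool.rec (motive := fun _ => Nat) (OPL0_s7_100 i) (OPL0_s7_36 i) (Nat.beq (Nat.land (Nat.shiftRight i 6) 1) 0)
noncomputable def OPL0_s6_37 (i : Nat) : Nat := Bool.rec (motive := fun _ => Nat) (OPL0_s7_101 i) (OPL0_s7_37 i) (Nat.beq (Nat.land (Nat.shiftRight i 6) 1) 0)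
noncomputable def OPL0_s6_38 (i : Nat) : Nat := Bool.rec (motive := fun _ => Nat) (OPL0_s7_102 i) (OPL0_s7_38 i) (Nat.beq (Nat.land (Nat.shiftRight i 6) 1) 0)
noncomputable def OPL0_s6_39 (i : Nat) : Nat := Bool.rec (motive := fun _ => Nat) (OPL0_s7_103 i) (OPL0_s7_39 i) (Nat.beq (Nat.land (Nat.shiftRight i 6) 1) 0)
noncomputable def OPL0_s6_40 (i : Nat) : Nat := Bool.rec (motive := fun _ => Nat) (OPL0_s7_104 i) (OPL0_s7_40 i) (Nat.beq (Nat.land (Nat.shiftRight i 6) 1) 0)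
noncomputable def OPL0_s6_41 (i : Nat) : Nat := Bool.rec (motive := fun _ => Nat) (OPL0_s7_105 i) (OPL0_s7_41 i) (Nat.beq (Nat.land (Nat.shiftRight i 6) 1) 0)
noncomputable def OPL0_s6_42 (i : Nat) : Nat := Bool.rec (motive := fun _ => Nat) (OPL0_s7_106 i) (OPL0_s7_42 i) (Nat.beq (Nat.land (Nat.shiftRight i 6) 1) 0)
noncomputable def OPL0_s6_43 (i : Nat) : Nat := Bool.rec (motive := fun _ => Nat) (OPL0_s7_107 i) (OPL0_s7_43 i) (Nat.beq (Nat.land (Nat.shiftRight i 6) 1) 0)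
noncomputable def OPL0_s6_44 (i : Nat) : Nat := Bool.rec (motive := fun _ => Nat) (OPL0_s7_108 i) (OPL0_s7_44 i) (Nat.beq (Nat.land (Nat.shiftRight i 6) 1) 0)
noncomputable def OPL0_s6_45 (i : Nat) : Nat := Bool.rec (motive := fun _ => Nat) (OPL0_s7_109 i) (OPL0_s7_45 i) (Nat.beq (Nat.land (Nat.shiftRight i 6) 1) 0)
noncomputable def OPL0_s6_46 (i : Nat) : Nat := Bool.rec (motive := fun _ => Nat) (OPL0_s7_110 i) (OPL0_s7_46 i) (Nat.beq (Nat.land (Nat.shiftRight i 6) 1) 0)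
noncomputable def OPL0_s6_47 (i : Nat) : Nat := Bool.rec (motive := fun _ => Nat) (OPL0_s7_111 i) (OPL0_s7_47 i) (Nat.beq (Nat.land (Nat.shiftRight i 6) 1) 0)
noncomputable def OPL0_s6_48 (i : Nat) : Nat := Bool.rec (motive := fun _ => Nat) (OPL0_s7_112 i) (OPL0_s7_48 i) (Nat.beq (Nat.land (Nat.shiftRight i 6) 1) 0)
noncomputable def OPL0_s6_49 (i : Nat) : Nat := Bool.rec (motive := fun _ => Nat) (OPL0_s7_113 i) (OPL0_s7_49 i) (Nat.beq (Nat.land (Nat.shiftRight i 6) 1) 0)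
noncomputable def OPL0_s6_50 (i : Nat) : Nat := Bool.rec (motive := fun _ => Nat) (OPL0_s7_114 i) (OPL0_s7_50 i) (Nat.beq (Nat.land (Nat.shiftRight i 6) 1) 0)
noncomputable def OPL0_s6_51 (i : Nat) : Nat := Bool.rec (motive := fun _ => Nat) (OPL0_s7_115 i) (OPL0_s7_51 i) (Nat.beq (Nat.land (Nat.shiftRight i 6) 1) 0)
noncomputable def OPL0_s6_52 (i : Nat) : Nat := Bool.rec (motive := fun _ => Nat) (OPL0_s7_116 i) (OPL0_s7_52 i) (Nat.beq (Nat.land (Nat.shiftRight i 6) 1) 0)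
noncomputable def OPL0_s6_53 (i : Nat) : Nat := Bool.rec (motive := fun _ => Nat) (OPL0_s7_117 i) (OPL0_s7_53 i) (Nat.beq (Nat.land (Nat.shiftRight i 6) 1) 0)
noncomputable def OPL0_s6_54 (i : Nat) : Nat := Bool.rec (motive := fun _ => Nat) (OPL0_s7_118 i) (OPL0_s7_54 i) (Nat.beq (Nat.land (Nat.shiftRight i 6) 1) 0)
noncomputable def OPL0_s6_55 (i : Nat) : Nat := Bool.rec (motive := fun _ => Nat) (OPL0_s7_119 i) (OPL0_s7_55 i) (Nat.beq (Nat.land (Nat.shiftRight i 6) 1) 0)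
noncomputable def OPL0_s6_56 (i : Nat) : Nat := Bool.rec (motive := fun _ => Nat) (OPL0_s7_120 i) (OPL0_s7_56 i) (Nat.beq (Nat.land (Nat.shiftRight i 6) 1) 0)
noncomputable def OPL0_s6_57 (i : Nat) : Nat := Bool.rec (motive := fun _ => Nat) (OPL0_s7_121 i) (OPL0_s7_57 i) (Nat.beq (Nat.land (Nat.shiftRight i 6) 1) 0)
noncomputable def OPL0_s6_58 (i : Nat) : Nat := Bool.rec (motive := fun _ => Nat) (OPL0_s7_122 i) (OPL0_s7_58 i) (Nat.beq (Nat.land (Nat.shiftRight i 6) 1) 0)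
noncomputable def OPL0_s6_59 (i : Nat) : Nat := Bool.rec (motive := fun _ => Nat) (OPL0_s7_123 i) (OPL0_s7_59 i) (Nat.beq (Nat.land (Nat.shiftRight i 6) 1) 0)
noncomputable def OPL0_s6_60 (i : Nat) : Nat := Bool.rec (motive := fun _ => Nat) (OPL0_s7_124 i) (OPL0_s7_60 i) (Nat.beq (Nat.land (Nat.shiftRight i 6) 1) 0)
noncomputable def OPL0_s6_61 (i : Nat) : Nat := Bool.rec (motive := fun _ => Nat) (OPL0_s7_125 i) (OPL0_s7_61 i) (Nat.beq (Nat.land (Nat.shiftRight i 6) 1) 0)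
noncomputable def OPL0_s6_62 (i : Nat) : Nat := Bool.rec (motive := fun _ => Nat) (OPL0_s7_126 i) (OPL0_s7_62 i) (Nat.beq (Nat.land (Nat.shiftRight i 6) 1) 0)
noncomputable def OPL0_s6_63 (i : Nat) : Nat := Bool.rec (motive := fun _ => Nat) (OPL0_s7_127 i) (OPL0_s7_63 i) (Nat.beq (Nat.land (Nat.shiftRight i 6) 1) 0)
noncomputable def OPL0_s5_0 (i : Nat) : Nat := Bool.rec (motive := fun _ => Nat) (OPL0_s6_32 i) (OPL0_s6_0 i) (Nat.beq (Nat.land (Nat.shiftRight i 5) 1) 0)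
noncomputable def OPL0_s5_1 (i : Nat) : Nat := Bool.rec (motive := fun _ => Nat) (OPL0_s6_33 i) (OPL0_s6_1 i) (Nat.beq (Nat.land (Nat.shiftRight i 5) 1) 0)
noncomputable def OPL0_s5_2 (i : Nat) : Nat := Bool.rec (motive := fun _ => Nat) (OPL0_s6_34 i) (OPL0_s6_2 i) (Nat.beq (Nat.land (Nat.shiftRight i 5) 1) 0)
noncomputable def OPL0_s5_3 (i : Nat) : Nat := Bool.rec (motive := fun _ => Nat) (OPL0_s6_35 i) (OPL0_s6_3 i) (Nat.beq (Nat.land (Nat.shiftRight i 5) 1) 0)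
noncomputable def OPL0_s5_4 (i : Nat) : Nat := Bool.rec (motive := fun _ => Nat) (OPL0_s6_36 i) (OPL0_s6_4 i) (Nat.beq (Nat.land (Nat.shiftRight i 5) 1) 0)
noncomputable def OPL0_s5_5 (i : Nat) : Nat := Bool.rec (motive := fun _ => Nat) (OPL0_s6_37 i) (OPL0_s6_5 i) (Nat.beq (Nat.land (Nat.shiftRight i 5) 1) 0)
noncomputable def OPL0_s5_6 (i : Nat) : Nat := Bool.rec (motive := fun _ => Nat) (OPL0_s6_38 i) (OPL0_s6_6 i) (Nat.beq (Nat.land (Nat.shiftRight i 5) 1) 0)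
noncomputable def OPL0_s5_7 (i : Nat) : Nat := Bool.rec (motive := fun _ => Nat) (OPL0_s6_39 i) (OPL0_s6_7 i) (Nat.beq (Nat.land (Nat.shiftRight i 5) 1) 0)
noncomputable def OPL0_s5_8 (i : Nat) : Nat := Bool.rec (motive := fun _ => Nat) (OPL0_s6_40 i) (OPL0_s6_8 i) (Nat.beq (Nat.land (Nat.shiftRight i 5) 1) 0)
noncomputable def OPL0_s5_9 (i : Nat) : Nat := Bool.rec (motive := fun _ => Nat) (OPL0_s6_41 i) (OPL0_s6_9 i) (Nat.beq (Nat.land (Nat.shiftRight i 5) 1) 0)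
noncomputable def OPL0_s5_10 (i : Nat) : Nat := Bool.rec (motive := fun _ => Nat) (OPL0_s6_42 i) (OPL0_s6_10 i) (Nat.beq (Nat.land (Nat.shiftRight i 5) 1) 0)
noncomputable def OPL0_s5_11 (i : Nat) : Nat := Bool.rec (motive := fun _ => Nat) (OPL0_s6_43 i) (OPL0_s6_11 i) (Nat.beq (Nat.land (Nat.shiftRight i 5) 1) 0)
noncomputable def OPL0_s5_12 (i : Nat) : Nat := Bool.rec (motive := fun _ => Nat) (OPL0_s6_44 i) (OPL0_s6_12 i) (Nat.beq (Nat.land (Nat.shiftRight i 5) 1) 0)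
noncomputable def OPL0_s5_13 (i : Nat) : Nat := Bool.rec (motive := fun _ => Nat) (OPL0_s6_45 i) (OPL0_s6_13 i) (Nat.beq (Nat.land (Nat.shiftRight i 5) 1) 0)
noncomputable def OPL0_s5_14 (i : Nat) : Nat := Bool.rec (motive := fun _ => Nat) (OPL0_s6_46 i) (OPL0_s6_14 i) (Nat.beq (Nat.land (Nat.shiftRight i 5) 1) 0)
noncomputable def OPL0_s5_15 (i : Nat) : Nat := Bool.rec (motive := fun _ => Nat) (OPL0_s6_47 i) (OPL0_s6_15 i) (Nat.beq (Nat.land (Nat.shiftRight i 5) 1) 0)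
noncomputable def OPL0_s5_16 (i : Nat) : Nat := Bool.rec (motive := fun _ => Nat) (OPL0_s6_48 i) (OPL0_s6_16 i) (Nat.beq (Nat.land (Nat.shiftRight i 5) 1) 0)
noncomputable def OPL0_s5_17 (i : Nat) : Nat := Bool.rec (motive := fun _ => Nat) (OPL0_s6_49 i) (OPL0_s6_17 i) (Nat.beq (Nat.land (Nat.shiftRight i 5) 1) 0)
noncomputable def OPL0_s5_18 (i : Nat) : Nat := Bool.rec (motive := fun _ => Nat) (OPL0_s6_50 i) (OPL0_s6_18 i) (Nat.beq (Nat.land (Nat.shiftRight i 5) 1) 0)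
noncomputable def OPL0_s5_19 (i : Nat) : Nat := Bool.rec (motive := fun _ => Nat) (OPL0_s6_51 i) (OPL0_s6_19 i) (Nat.beq (Nat.land (Nat.shiftRight i 5) 1) 0)
noncomputable def OPL0_s5_20 (i : Nat) : Nat := Bool.rec (motive := fun _ => Nat) (OPL0_s6_52 i) (OPL0_s6_20 i) (Nat.beq (Nat.land (Nat.shiftRight i 5) 1) 0)
noncomputable def OPL0_s5_21 (i : Nat) : Nat := Bool.rec (motive := fun _ => Nat) (OPL0_s6_53 i) (OPL0_s6_21 i) (Nat.beq (Nat.land (Nat.shiftRight i 5) 1) 0)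
noncomputable def OPL0_s5_22 (i : Nat) : Nat := Bool.rec (motive := fun _ => Nat) (OPL0_s6_54 i) (OPL0_s6_22 i) (Nat.beq (Nat.land (Nat.shiftRight i 5) 1) 0)
noncomputable def OPL0_s5_23 (i : Nat) : Nat := Bool.rec (motive := fun _ => Nat) (OPL0_s6_55 i) (OPL0_s6_23 i) (Nat.beq (Nat.land (Nat.shiftRight i 5) 1) 0)
noncomputable def OPL0_s5_24 (i : Nat) : Nat := Bool.rec (motive := fun _ => Nat) (OPL0_s6_56 i) (OPL0_s6_24 i) (Nat.beq (Nat.land (Nat.shiftRight i 5) 1) 0)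
noncomputable def OPL0_s5_25 (i : Nat) : Nat := Bool.rec (motive := fun _ => Nat) (OPL0_s6_57 i) (OPL0_s6_25 i) (Nat.beq (Nat.land (Nat.shiftRight i 5) 1) 0)
noncomputable def OPL0_s5_26 (i : Nat) : Nat := Bool.rec (motive := fun _ => Nat) (OPL0_s6_58 i) (OPL0_s6_26 i) (Nat.beq (Nat.land (Nat.shiftRight i 5) 1) 0)
noncomputable def OPL0_s5_27 (i : Nat) : Nat := Bool.rec (motive := fun _ => Nat) (OPL0_s6_59 i) (OPL0_s6_27 i) (Nat.beq (Nat.land (Nat.shiftRight i 5) 1) 0)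
noncomputable def OPL0_s5_28 (i : Nat) : Nat := Bool.rec (motive := fun _ => Nat) (OPL0_s6_60 i) (OPL0_s6_28 i) (Nat.beq (Nat.land (Nat.shiftRight i 5) 1) 0)
noncomputable def OPL0_s5_29 (i : Nat) : Nat := Bool.rec (motive := fun _ => Nat) (OPL0_s6_61 i) (OPL0_s6_29 i) (Nat.beq (Nat.land (Nat.shiftRight i 5) 1) 0)
noncomputable def OPL0_s5_30 (i : Nat) : Nat := Bool.rec (motive := fun _ => Nat) (OPL0_s6_62 i) (OPL0_s6_30 i) (Nat.beq (Nat.land (Nat.shiftRight i 5) 1) 0)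
noncomputable def OPL0_s5_31 (i : Nat) : Nat := Bool.rec (motive := fun _ => Nat) (OPL0_s6_63 i) (OPL0_s6_31 i) (Nat.beq (Nat.land (Nat.shiftRight i 5) 1) 0)
noncomputable def OPL0_s4_0 (i : Nat) : Nat := Bool.rec (motive := fun _ => Nat) (OPL0_s5_16 i) (OPL0_s5_0 i) (Nat.beq (Nat.land (Nat.shiftRight i 4) 1) 0)
noncomputable def OPL0_s4_1 (i : Nat) : Nat := Bool.rec (motive := fun _ => Nat) (OPL0_s5_17 i) (OPL0_s5_1 i) (Nat.beq (Nat.land (Nat.shiftRight i 4) 1) 0)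
noncomputable def OPL0_s4_2 (i : Nat) : Nat := Bool.rec (motive := fun _ => Nat) (OPL0_s5_18 i) (OPL0_s5_2 i) (Nat.beq (Nat.land (Nat.shiftRight i 4) 1) 0)
noncomputable def OPL0_s4_3 (i : Nat) : Nat := Bool.rec (motive := fun _ => Nat) (OPL0_s5_19 i) (OPL0_s5_3 i) (Nat.beq (Nat.land (Nat.shiftRight i 4) 1) 0)
noncomputable def OPL0_s4_4 (i : Nat) : Nat := Bool.rec (motive := fun _ => Nat) (OPL0_s5_20 i) (OPL0_s5_4 i) (Nat.beq (Nat.land (Nat.shiftRight i 4) 1) 0)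
noncomputable def OPL0_s4_5 (i : Nat) : Nat := Bool.rec (motive := fun _ => Nat) (OPL0_s5_21 i) (OPL0_s5_5 i) (Nat.beq (Nat.land (Nat.shiftRight i 4) 1) 0)
noncomputable def OPL0_s4_6 (i : Nat) : Nat := Bool.rec (motive := fun _ => Nat) (OPL0_s5_22 i) (OPL0_s5_6 i) (Nat.beq (Nat.land (Nat.shiftRight i 4) 1) 0)
noncomputable def OPL0_s4_7 (i : Nat) : Nat := Bool.rec (motive := fun _ => Nat) (OPL0_s5_23 i) (OPL0_s5_7 i) (Nat.beq (Nat.land (Nat.shiftRight i 4) 1) 0)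
noncomputable def OPL0_s4_8 (i : Nat) : Nat := Bool.rec (motive := fun _ => Nat) (OPL0_s5_24 i) (OPL0_s5_8 i) (Nat.beq (Nat.land (Nat.shiftRight i 4) 1) 0)
noncomputable def OPL0_s4_9 (i : Nat) : Nat := Bool.rec (motive := fun _ => Nat) (OPL0_s5_25 i) (OPL0_s5_9 i) (Nat.beq (Nat.land (Nat.shiftRight i 4) 1) 0)
noncomputable def OPL0_s4_10 (i : Nat) : Nat := Bool.rec (motive := fun _ => Nat) (OPL0_s5_26 i) (OPL0_s5_10 i) (Nat.beq (Nat.land (Nat.shiftRight i 4) 1) 0)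
noncomputable def OPL0_s4_11 (i : Nat) : Nat := Bool.rec (motive := fun _ => Nat) (OPL0_s5_27 i) (OPL0_s5_11 i) (Nat.beq (Nat.land (Nat.shiftRight i 4) 1) 0)
noncomputable def OPL0_s4_12 (i : Nat) : Nat := Bool.rec (motive := fun _ => Nat) (OPL0_s5_28 i) (OPL0_s5_12 i) (Nat.beq (Nat.land (Nat.shiftRight i 4) 1) 0)
noncomputable def OPL0_s4_13 (i : Nat) : Nat := Bool.rec (motive := fun _ => Nat) (OPL0_s5_29 i) (OPL0_s5_13 i) (Nat.beq (Nat.land (Nat.shiftRight i 4) 1) 0)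
noncomputable def OPL0_s4_14 (i : Nat) : Nat := Bool.rec (motive := fun _ => Nat) (OPL0_s5_30 i) (OPL0_s5_14 i) (Nat.beq (Nat.land (Nat.shiftRight i 4) 1) 0)
noncomputable def OPL0_s4_15 (i : Nat) : Nat := Bool.rec (motive := fun _ => Nat) (OPL0_s5_31 i) (OPL0_s5_15 i) (Nat.beq (Nat.land (Nat.shiftRight i 4) 1) 0)
noncomputable def OPL0_s3_0 (i : Nat) : Nat := Bool.rec (motive := fun _ => Nat) (OPL0_s4_8 i) (OPL0_s4_0 i) (Nat.beq (Nat.land (Nat.shiftRight i 3) 1) 0)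
noncomputable def OPL0_s3_1 (i : Nat) : Nat := Bool.rec (motive := fun _ => Nat) (OPL0_s4_9 i) (OPL0_s4_1 i) (Nat.beq (Nat.land (Nat.shiftRight i 3) 1) 0)
noncomputable def OPL0_s3_2 (i : Nat) : Nat := Bool.rec (motive := fun _ => Nat) (OPL0_s4_10 i) (OPL0_s4_2 i) (Nat.beq (Nat.land (Nat.shiftRight i 3) 1) 0)
noncomputable def OPL0_s3_3 (i : Nat) : Nat := Bool.rec (motive := fun _ => Nat) (OPL0_s4_11 i) (OPL0_s4_3 i) (Nat.beq (Nat.land (Nat.shiftRight i 3) 1) 0)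
noncomputable def OPL0_s3_4 (i : Nat) : Nat := Bool.rec (motive := fun _ => Nat) (OPL0_s4_12 i) (OPL0_s4_4 i) (Nat.beq (Nat.land (Nat.shiftRight i 3) 1) 0)
noncomputable def OPL0_s3_5 (i : Nat) : Nat := Bool.rec (motive := fun _ => Nat) (OPL0_s4_13 i) (OPL0_s4_5 i) (Nat.beq (Nat.land (Nat.shiftRight i 3) 1) 0)
noncomputable def OPL0_s3_6 (i : Nat) : Nat := Bool.rec (motive := fun _ => Nat) (OPL0_s4_14 i) (OPL0_s4_6 i) (Nat.beq (Nat.land (Nat.shiftRight i 3) 1) 0)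
noncomputable def OPL0_s3_7 (i : Nat) : Nat := Bool.rec (motive := fun _ => Nat) (OPL0_s4_15 i) (OPL0_s4_7 i) (Nat.beq (Nat.land (Nat.shiftRight i 3) 1) 0)
noncomputable def OPL0_s2_0 (i : Nat) : Nat := Bool.rec (motive := fun _ => Nat) (OPL0_s3_4 i) (OPL0_s3_0 i) (Nat.beq (Nat.land (Nat.shiftRight i 2) 1) 0)
noncomputable def OPL0_s2_1 (i : Nat) : Nat := Bool.rec (motive := fun _ => Nat) (OPL0_s3_5 i) (OPL0_s3_1 i) (Nat.beq (Nat.land (Nat.shiftRight i 2) 1) 0)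
noncomputable def OPL0_s2_2 (i : Nat) : Nat := Bool.rec (motive := fun _ => Nat) (OPL0_s3_6 i) (OPL0_s3_2 i) (Nat.beq (Nat.land (Nat.shiftRight i 2) 1) 0)
noncomputable def OPL0_s2_3 (i : Nat) : Nat := Bool.rec (motive := fun _ => Nat) (OPL0_s3_7 i) (OPL0_s3_3 i) (Nat.beq (Nat.land (Nat.shiftRight i 2) 1) 0)
noncomputable def OPL0_s1_0 (i : Nat) : Nat := Bool.rec (motive := fun _ => Nat) (OPL0_s2_2 i) (OPL0_s2_0 i) (Nat.beq (Nat.land (Nat.shiftRight i 1) 1) 0)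
noncomputable def OPL0_s1_1 (i : Nat) : Nat := Bool.rec (motive := fun _ => Nat) (OPL0_s2_3 i) (OPL0_s2_1 i) (Nat.beq (Nat.land (Nat.shiftRight i 1) 1) 0)
noncomputable def OPL0_s0_0 (i : Nat) : Nat := Bool.rec (motive := fun _ => Nat) (OPL0_s1_1 i) (OPL0_s1_0 i) (Nat.beq (Nat.land (Nat.shiftRight i 0) 1) 0)
noncomputable def OPL0 (p : Nat) : Nat :=
  Nat.land (Nat.shiftRight (OPL0_s0_0 (Nat.shiftRight p 10)) (Nat.mul (Nat.land p 1023) 25)) 33554431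

noncomputable def OO0 : Frs := ⟨111, 10215, OPL0, 32, 64, 4, 593790, [75, 2711, 446, 3590]⟩

noncomputable def Os : List Frs := [OO0]

def wdsL : List (List Nat) := [
  [],
  [6, 7, 6, 7, 5, 4, 4, 5, 5, 5, 5, 2, 3, 2, 2, 3, 1, 0, 0, 1, 0, 0, 0, 0, 0, 1, 0, 0, 0, 1, 0, 0, 1],
  [7, 6, 5, 4, 5, 5, 5, 5, 5, 5, 5, 4, 2, 2, 3, 2, 2, 2, 2, 2, 3, 0, 1, 0, 0, 1, 0, 0, 1, 0, 0, 0, 0, 0, 1, 0, 0, 1]]
def wds (j : Nat) : List Nat := wdsL.getD j []

def Bs : List Nat := [0, 6, 4, 1]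

def rs : List (List Bool × Nat × Nat) := [([true, false], 3, 1596),
  ([true, false], 3, 266),
  ([true, true, true, true, true, true, false], 7, 938),
  ([true, true, false, true, true, true, true, false, true, true, true, false], 8, 1197)]

def goods : List (Nat × Nat) := [(164688, 0), (562347, 1), (461154, 2), (360645, 3), (570920, 4), (527807, 5), (287129, 6), (426287, 7), (223886, 8), (308384, 9), (539578, 10), (124241, 11), (45061, 12), (88015, 13), (488315, 14), (417371, 15), (153671, 16), (332755, 17), (89289, 18), (456957, 19), (491693, 20), (396517, 21), (412223, 22), (85843, 23), (145095, 24), (143013, 25), (95459, 26), (270892, 27), (427053, 28)]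

def goodIdx : List Nat := goods.map Prod.fst

def R2 : List (Nat × List (List Bool × Nat × Nat)) := [(2, [([true, false], 3, 1092), ([true, true, true, true, true, true, false], 7, 1512), ([true, true, false, true, true, true, true, false, true, true, true, false], 8, 815), ([true, false], 3, 3330)])]


end Cfsg.Agent.Lib.PermComp.OutP.Ru
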