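import Cfsg.Agent.Lib.PermComp.OutP.Ru.ChkT0
import Cfsg.Agent.Lib.PermComp.OutP.Ru.ChkT1
import Cfsg.Agent.Lib.PermComp.OutP.Ru.ChkT2
import Cfsg.Agent.Lib.PermComp.OutP.Ru.ChkS0
import Cfsg.Agent.Lib.PermComp.OutP.Ru.ChkS1
import Cfsg.Agent.Lib.PermComp.OutP.Ru.ChkS2
import Cfsg.Agent.Lib.PermComp.OutP.Ru.ChkS3
import Cfsg.Agent.Lib.PermComp.OutP.Ru.ChkS4
import Cfsg.Agent.Lib.PermComp.OutP.Ru.ChkS5
import Cfsg.Agent.Lib.PermComp.OutP.Ru.ChkS6
import Cfsg.Agent.Lib.PermComp.OutP.Ru.ChkS7
import Cfsg.Agent.Lib.PermComp.OutP.Ru.ChkS8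
import Cfsg.Agent.Lib.PermComp.OutP.Ru.ChkS9
import Cfsg.Agent.Lib.PermComp.OutP.Ru.ChkS10
import Cfsg.Agent.Lib.PermComp.OutP.Ru.ChkS11
import Cfsg.Agent.Lib.PermComp.OutP.Ru.ChkS12
import Cfsg.Agent.Lib.PermComp.OutP.Ru.ChkS13
import Cfsg.Agent.Lib.PermComp.OutP.Ru.ChkS14
import Cfsg.Agent.Lib.PermComp.OutP.Ru.ChkR0
import Cfsg.Agent.Lib.PermComp.OutP.Ru.ChkR1
import Cfsg.Agent.Lib.PermComp.OutP.Ru.ChkR2
import Cfsg.Agent.Lib.PermComp.OutP.Ru.ChkR3
import Cfsg.Agent.Lib.PermComp.OutP.Ru.ChkR4
import Cfsg.Agent.Lib.PermComp.OutP.Ru.ChkR5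
import Cfsg.Agent.Lib.PermComp.OutP.Ru.ChkR6
import Cfsg.Agent.Lib.PermComp.OutP.Ru.ChkR7
import Cfsg.Agent.Lib.PermComp.OutP.Ru.ChkK0
import Cfsg.Agent.Lib.PermComp.OutP.Ru.ChkL
import Cfsg.Agent.Lib.PermComp.OutP.Ru.ChkO0
import Cfsg.Agent.Lib.PermComp.OutP.Ru.ChkO1
import Cfsg.Agent.Lib.PermComp.OutP.Ru.ChkO2
import Cfsg.Agent.Lib.PermComp.OutP.Ru.ChkO3
import Cfsg.Agent.Lib.PermComp.OutP.Ru.ChkP

set_option autoImplicit false
set_option maxRecDepth 100000
set_option maxHeartbeats 0
set_option Elab.async false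

namespace Cfsg.Agent.Lib.PermComp.OutP.Ru

open Cfsg Cfsg.Agent.Lib.PermComp.OutP
open Cfsg.Agent.Lib.PermComp.Core (force)
open Cfsg.Agent.Lib.PermComp.Kron (rangeAll rangeAll_spec)

theorem hn : 0 < n := by decide

theorem hlt : ∀ g < 112, 2 ≤ g → ∀ a ∈ prog g, a < g := by
  intro g hg _ a ha
  have h := range_of (p := fun g => Core.allL (fun a => Nat.blt a g) (prog g)) (lo := 0) (len := 112) (hi := 112) hlt_ck rfl g (Nat.zero_le _) hg
  exact blt_lt ((Core.allL_eq_true _ _).1 h a ha)

theorem hp : ∀ g < 112, 2 ≤ g → ∀ q < 4060, F g q = wApp F (prog g) q := by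
  intro g hg h2 q hq
  have h : progR F g (prog g) 0 4060 = true := by
    interval_cases g
    · exact hp_2
    · exact hp_3
    · exact hp_4
    · exact hp_5
    · exact hp_6
    · exact hp_7
    · exact hp_8
    · exact hp_9
    · exact hp_10
    · exact hp_11
    · exact hp_12
    · exact hp_13
    · exact hp_14
    · exact hp_15
    · exact hp_16
    · exact hp_17
    · exact hp_18
    · exact hp_19
    · exact hp_20
    · exact hp_21
    · exact hp_22
    · exact hp_23
    · exact hp_24
    · exact hp_25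
    · exact hp_26
    · exact hp_27
    · exact hp_28
    · exact hp_29
    · exact hp_30
    · exact hp_31
    · exact hp_32
    · exact hp_33
    · exact hp_34
    · exact hp_35
    · exact hp_36
    · exact hp_37
    · exact hp_38
    · exact hp_39
    · exact hp_40
    · exact hp_41
    · exact hp_42
    · exact hp_43
    · exact hp_44
    · exact hp_45
    · exact hp_46
    · exact hp_47
    · exact hp_48
    · exact hp_49
    · exact hp_50
    · exact hp_51
    · exact hp_52
    · exact hp_53
    · exact hp_54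
    · exact hp_55
    · exact hp_56
    · exact hp_57
    · exact hp_58
    · exact hp_59
    · exact hp_60
    · exact hp_61
    · exact hp_62
    · exact hp_63
    · exact hp_64
    · exact hp_65
    · exact hp_66
    · exact hp_67
    · exact hp_68
    · exact hp_69
    · exact hp_70
    · exact hp_71
    · exact hp_72
    · exact hp_73
    · exact hp_74
    · exact hp_75
    · exact hp_76
    · exact hp_77
    · exact hp_78
    · exact hp_79
    · exact hp_80
    · exact hp_81
    · exact hp_82
    · exact hp_83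
    · exact hp_84
    · exact hp_85
    · exact hp_86
    · exact hp_87
    · exact hp_88
    · exact hp_89
    · exact hp_90
    · exact hp_91
    · exact hp_92
    · exact hp_93
    · exact hp_94
    · exact hp_95
    · exact hp_96
    · exact hp_97
    · exact hp_98
    · exact hp_99
    · exact hp_100
    · exact hp_101
    · exact hp_102
    · exact hp_103
    · exact hp_104
    · exact hp_105
    · exact hp_106
    · exact hp_107
    · exact hp_108
    · exact hp_109
    · exact hp_110
    · exact hp_111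
  exact Nat.eq_of_beq_eq_true (rangeAll_spec h q (Nat.zero_le _) (by omega))

theorem hds : LevsC n 112 F [] ds := ⟨fun s hs => range_of (p := levOK n F dL0) (lo := 0) (len := 4060) (hi := 4060) dL0_lv rfl s (Nat.zero_le _) hs, by decide +kernel, by decide +kernel, dL0_fx, by decide +kernel, ⟨fun s hs => range_of (p := levOK n F dL1) (lo := 0) (len := 2304) (hi := 2304) dL1_lv rfl s (Nat.zero_le _) hs, by decide +kernel, by decide +kernel, dL1_fx, by decide +kernel, ⟨fun s hs => range_of (p := levOK n F dL2) (lo := 0) (len := 975) (hi := 975) dL2_lv rfl s (Nat.zero_le _) hs, by decide +kernel, by decide +kernel, dL2_fx, by decide +kernel, ⟨fun s hs => range_of (p := levOK n F dL3) (lo := 0) (len := 16) (hi := 16) dL3_lv rfl s (Nat.zero_le _) hs, by decide +kernel, by decide +kernel, dL3_fx, by decide +kernel, trivial⟩⟩⟩⟩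

theorem hcs : LevsC n 112 F [] cs := ⟨fun s hs => range_of (p := levOK n F cL0) (lo := 0) (len := 2048) (hi := 2048) cL0_lv rfl s (Nat.zero_le _) hs, by decide +kernel, by decide +kernel, cL0_fx, by decide +kernel, ⟨fun s hs => range_of (p := levOK n F cL1) (lo := 0) (len := 120) (hi := 120) cL1_lv rfl s (Nat.zero_le _) hs, by decide +kernel, by decide +kernel, cL1_fx, by decide +kernel, trivial⟩⟩

theorem hdsm : ∀ d ∈ ds, d.off + d.cnt ≤ 112 := by
  have h : Core.allL (fun d => Nat.ble (d.off + d.cnt) 112) ds = true := by decide +kernel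
  exact fun d hd => Nat.le_of_ble_eq_true ((Core.allL_eq_true _ _).1 h d hd)

theorem hcomm : ∀ d ∈ cs, d.off + d.cnt ≤ 112 ∧ ∀ g, d.off ≤ g → g < d.off + d.cnt → ∀ q < 4060, F g (F 1 q) = F 1 (F g q) := by
  intro d hd
  simp only [cs, List.mem_cons, List.not_mem_nil, or_false] at hd
  rcases hd with rfl | rfl
  · refine ⟨by decide +kernel, fun g h1 h2 q hq => ?_⟩
    have h := rangeAll_spec cL0_cm g h1 (by simpa [cL0] using h2)
    exact Nat.eq_of_beq_eq_true (rangeAll_spec h q (Nat.zero_le _) (by simpa [n] using hq))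
  · refine ⟨by decide +kernel, fun g h1 h2 q hq => ?_⟩
    have h := rangeAll_spec cL1_cm g h1 (by simpa [cL1] using h2)
    exact Nat.eq_of_beq_eq_true (rangeAll_spec h q (Nat.zero_le _) (by simpa [n] using hq))

theorem hsort : ∀ j, j + 1 < DD.L → DD.key n F j < DD.key n F (j + 1) := by
  have h : ∀ j, 0 ≤ j → j < 593774 → DD.key n F j < DD.key n F (j + 1) := by
    exact (join_range (join_range (join_range (join_range (join_range (fun j h1 h2 => sortR_spec srt_c0 j h1 (by omega)) (join_range (fun j h1 h2 => sortR_spec srt_c1 j h1 (by omega)) (fun j h1 h2 => sortR_spec srt_c2 j h1 (by omega)))) (join_range (join_range (fun j h1 h2 => sortR_spec srt_c3 j h1 (by omega)) (fun j h1 h2 => sortR_spec srt_c4 j h1 (by omega))) (join_range (fun j h1 h2 => sortR_spec srt_c5 j h1 (by omega)) (fun j h1 h2 => sortR_spec srt_c6 j h1 (by omega))))) (join_range (join_range (join_range (fun j h1 h2 => sortR_spec srt_c7 j h1 (by omega)) (fun j h1 h2 => sortR_spec srt_c8 j h1 (by omega))) (join_range (fun j h1 h2 => sortR_spec srt_c9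 j h1 (by omega)) (fun j h1 h2 => sortR_spec srt_c10 j h1 (by omega)))) (join_range (join_range (fun j h1 h2 => sortR_spec srt_c11 j h1 (by omega)) (fun j h1 h2 => sortR_spec srt_c12 j h1 (by omega))) (join_range (fun j h1 h2 => sortR_spec srt_c13 j h1 (by omega)) (fun j h1 h2 => sortR_spec srt_c14 j h1 (by omega)))))) (join_range (join_range (join_range (fun j h1 h2 => sortR_spec srt_c15 j h1 (by omega)) (join_range (fun j h1 h2 => sortR_spec srt_c16 j h1 (by omega)) (fun j h1 h2 => sortR_spec srt_c17 j h1 (by omega)))) (join_range (join_range (fun j h1 h2 => sortR_spec srt_c18 j h1 (by omega)) (fun j h1 h2 => sortR_spec srt_c19 j h1 (by omega))) (join_range (fun j h1 h2 => sortR_spec srt_c20 j h1 (by omega)) (fun j h1 h2 => sortR_spec srt_c21 j h1 (by omega))))) (join_range (join_range (join_range (fun j h1 h2 => sortR_spec srt_c22 j h1 (by omega)) (fun j h1 h2 => sortR_spec srt_c23 j h1 (by omega))) (join_range (fun j h1 h2 => sortR_spec srt_c24 j h1 (by omega)) (fun j h1 h2 => sortR_spec srt_c25 j h1 (by omega))))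 (join_range (join_range (fun j h1 h2 => sortR_spec srt_c26 j h1 (by omega)) (fun j h1 h2 => sortR_spec srt_c27 j h1 (by omega))) (join_range (fun j h1 h2 => sortR_spec srt_c28 j h1 (by omega)) (fun j h1 h2 => sortR_spec srt_c29 j h1 (by omega))))))) (join_range (join_range (join_range (join_range (fun j h1 h2 => sortR_spec srt_c30 j h1 (by omega)) (join_range (fun j h1 h2 => sortR_spec srt_c31 j h1 (by omega)) (fun j h1 h2 => sortR_spec srt_c32 j h1 (by omega)))) (join_range (join_range (fun j h1 h2 => sortR_spec srt_c33 j h1 (by omega)) (fun j h1 h2 => sortR_spec srt_c34 j h1 (by omega))) (join_range (fun j h1 h2 => sortR_spec srt_c35 j h1 (by omega)) (fun j h1 h2 => sortR_spec srt_c36 j h1 (by omega))))) (join_range (join_range (join_range (fun j h1 h2 => sortR_spec srt_c37 j h1 (by omega)) (fun j h1 h2 => sortR_spec srt_c38 j h1 (by omega))) (join_range (fun j h1 h2 => sortR_spec srt_c39 j h1 (by omega)) (fun j h1 h2 => sortR_spec srt_c40 j h1 (by omega)))) (join_range (join_range (fun j h1 h2 => sortR_spec srt_c41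 j h1 (by omega)) (fun j h1 h2 => sortR_spec srt_c42 j h1 (by omega))) (join_range (fun j h1 h2 => sortR_spec srt_c43 j h1 (by omega)) (fun j h1 h2 => sortR_spec srt_c44 j h1 (by omega)))))) (join_range (join_range (join_range (fun j h1 h2 => sortR_spec srt_c45 j h1 (by omega)) (join_range (fun j h1 h2 => sortR_spec srt_c46 j h1 (by omega)) (fun j h1 h2 => sortR_spec srt_c47 j h1 (by omega)))) (join_range (join_range (fun j h1 h2 => sortR_spec srt_c48 j h1 (by omega)) (fun j h1 h2 => sortR_spec srt_c49 j h1 (by omega))) (join_range (fun j h1 h2 => sortR_spec srt_c50 j h1 (by omega)) (fun j h1 h2 => sortR_spec srt_c51 j h1 (by omega))))) (join_range (join_range (join_range (fun j h1 h2 => sortR_spec srt_c52 j h1 (by omega)) (fun j h1 h2 => sortR_spec srt_c53 j h1 (by omega))) (join_range (fun j h1 h2 => sortR_spec srt_c54 j h1 (by omega)) (fun j h1 h2 => sortR_spec srt_c55 j h1 (by omega)))) (join_range (join_range (fun j h1 h2 => sortR_spec srt_c56 j h1 (by omega)) (fun j h1 h2 => sortR_spec srt_c57 j h1 (by omega)))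 (join_range (fun j h1 h2 => sortR_spec srt_c58 j h1 (by omega)) (fun j h1 h2 => sortR_spec srt_c59 j h1 (by omega))))))))
  intro j hj
  have hL : DD.L = 593775 := rfl
  exact h j (Nat.zero_le _) (by omega)

theorem hD : DD.OK n 112 F where
  ht0 := by decide +kernel
  hcnt := by decide +kernel
  hoff := by decide +kernel
  hQ := by
    have h : Core.allL (fun q => Nat.blt q n) DD.Q = true := by decide +kernel
    exact fun q hq => blt_lt ((Core.allL_eq_true _ _).1 h q hq)
  hinvol := by
    intro g h1 h2 p hp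
    have h := rangeAll_spec zinv_ck g h1 (by simpa [DD] using h2)
    exact Nat.eq_of_beq_eq_true (rangeAll_spec h p (Nat.zero_le _) (by simpa [n] using hp))
  hsort := hsort

theorem hO0 : OO0.OK n 112 F where
  ht0 := by decide +kernel
  hcnt := by decide +kernel
  hoff := by decide +kernel
  hQ := by
    have h : Core.allL (fun q => Nat.blt q n) OO0.Q = true := by decide +kernel
    exact fun q hq => blt_lt ((Core.allL_eq_true _ _).1 h q hq)
  hinvol := by
    intro g h1 h2 p hp
    have h := rangeAll_spec zinv_ck g h1 (by simpa [OO0] using h2)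
    exact Nat.eq_of_beq_eq_true (rangeAll_spec h p (Nat.zero_le _) (by simpa [n] using hp))
  hsort := by
    have h : ∀ j, 0 ≤ j → j < 593789 → OO0.key n F j < OO0.key n F (j + 1) := by
      exact (join_range (join_range (join_range (join_range (join_range (fun j h1 h2 => sortR_spec srtO0_c0 j h1 (by omega)) (join_range (fun j h1 h2 => sortR_spec srtO0_c1 j h1 (by omega)) (fun j h1 h2 => sortR_spec srtO0_c2 j h1 (by omega)))) (join_range (join_range (fun j h1 h2 => sortR_spec srtO0_c3 j h1 (by omega)) (fun j h1 h2 => sortR_spec srtO0_c4 j h1 (by omega))) (join_range (fun j h1 h2 => sortR_spec srtO0_c5 j h1 (by omega)) (fun j h1 h2 => sortR_spec srtO0_c6 j h1 (by omega))))) (join_range (join_range (join_range (fun j h1 h2 => sortR_spec srtO0_c7 j h1 (by omega)) (fun j h1 h2 => sortR_spec srtO0_c8 j h1 (by omega))) (join_range (fun j h1 h2 => sortR_spec srtO0_c9 j h1 (by omega)) (fun j h1 h2 => sortR_spec srtO0_c10 j h1 (by omega)))) (join_range (join_range (fun j h1 h2 => sortR_spec srtO0_c11 j h1 (by omega)) (fun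 j h1 h2 => sortR_spec srtO0_c12 j h1 (by omega))) (join_range (fun j h1 h2 => sortR_spec srtO0_c13 j h1 (by omega)) (fun j h1 h2 => sortR_spec srtO0_c14 j h1 (by omega)))))) (join_range (join_range (join_range (fun j h1 h2 => sortR_spec srtO0_c15 j h1 (by omega)) (join_range (fun j h1 h2 => sortR_spec srtO0_c16 j h1 (by omega)) (fun j h1 h2 => sortR_spec srtO0_c17 j h1 (by omega)))) (join_range (join_range (fun j h1 h2 => sortR_spec srtO0_c18 j h1 (by omega)) (fun j h1 h2 => sortR_spec srtO0_c19 j h1 (by omega))) (join_range (fun j h1 h2 => sortR_spec srtO0_c20 j h1 (by omega)) (fun j h1 h2 => sortR_spec srtO0_c21 j h1 (by omega))))) (join_range (join_range (join_range (fun j h1 h2 => sortR_spec srtO0_c22 j h1 (by omega)) (fun j h1 h2 => sortR_spec srtO0_c23 j h1 (by omega))) (join_range (fun j h1 h2 => sortR_spec srtO0_c24 j h1 (by omega)) (fun j h1 h2 => sortR_spec srtO0_c25 j h1 (by omega)))) (join_range (join_range (fun j h1 h2 => sortR_spec srtO0_c26 j h1 (by omega)) (fun j h1 h2 => sortR_spec srtO0_c27 j h1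 (by omega))) (join_range (fun j h1 h2 => sortR_spec srtO0_c28 j h1 (by omega)) (fun j h1 h2 => sortR_spec srtO0_c29 j h1 (by omega))))))) (join_range (join_range (join_range (join_range (fun j h1 h2 => sortR_spec srtO0_c30 j h1 (by omega)) (join_range (fun j h1 h2 => sortR_spec srtO0_c31 j h1 (by omega)) (fun j h1 h2 => sortR_spec srtO0_c32 j h1 (by omega)))) (join_range (join_range (fun j h1 h2 => sortR_spec srtO0_c33 j h1 (by omega)) (fun j h1 h2 => sortR_spec srtO0_c34 j h1 (by omega))) (join_range (fun j h1 h2 => sortR_spec srtO0_c35 j h1 (by omega)) (fun j h1 h2 => sortR_spec srtO0_c36 j h1 (by omega))))) (join_range (join_range (join_range (fun j h1 h2 => sortR_spec srtO0_c37 j h1 (by omega)) (fun j h1 h2 => sortR_spec srtO0_c38 j h1 (by omega))) (join_range (fun j h1 h2 => sortR_spec srtO0_c39 j h1 (by omega)) (fun j h1 h2 => sortR_spec srtO0_c40 j h1 (by omega)))) (join_range (join_range (fun j h1 h2 => sortR_spec srtO0_c41 j h1 (by omega)) (fun j h1 h2 => sortR_spec srtO0_c42 j h1 (by omega))) (join_range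 (fun j h1 h2 => sortR_spec srtO0_c43 j h1 (by omega)) (fun j h1 h2 => sortR_spec srtO0_c44 j h1 (by omega)))))) (join_range (join_range (join_range (fun j h1 h2 => sortR_spec srtO0_c45 j h1 (by omega)) (join_range (fun j h1 h2 => sortR_spec srtO0_c46 j h1 (by omega)) (fun j h1 h2 => sortR_spec srtO0_c47 j h1 (by omega)))) (join_range (join_range (fun j h1 h2 => sortR_spec srtO0_c48 j h1 (by omega)) (fun j h1 h2 => sortR_spec srtO0_c49 j h1 (by omega))) (join_range (fun j h1 h2 => sortR_spec srtO0_c50 j h1 (by omega)) (fun j h1 h2 => sortR_spec srtO0_c51 j h1 (by omega))))) (join_range (join_range (join_range (fun j h1 h2 => sortR_spec srtO0_c52 j h1 (by omega)) (fun j h1 h2 => sortR_spec srtO0_c53 j h1 (by omega))) (join_range (fun j h1 h2 => sortR_spec srtO0_c54 j h1 (by omega)) (fun j h1 h2 => sortR_spec srtO0_c55 j h1 (by omega)))) (join_range (join_range (fun j h1 h2 => sortR_spec srtO0_c56 j h1 (by omega)) (fun j h1 h2 => sortR_spec srtO0_c57 j h1 (by omega))) (join_range (fun j h1 h2 => sortR_spec srtO0_c58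 j h1 (by omega)) (fun j h1 h2 => sortR_spec srtO0_c59 j h1 (by omega))))))))
    intro j hj
    have hL : OO0.L = 593790 := rfl
    exact h j (Nat.zero_le _) (by omega)

theorem hOs : ∀ O ∈ Os, O.OK n 112 F ∧ DD.L < O.L := by
  intro O hO
  simp only [Os, List.mem_cons, List.not_mem_nil, or_false] at hO
  rcases hO with rfl
  · exact ⟨hO0, by decide +kernel⟩

theorem hS : SS.OK n 112 DD.L F (DD.v F) (rootO Os) wds Os.length Bs where
  hoff := by decide +kernel
  hBs := by
    have h : Core.allL (fun q => Nat.blt q n) Bs = true := by decide +kernel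
    exact fun q hq => blt_lt ((Core.allL_eq_true _ _).1 h q hq)
  hrel := by
    intro k hk
    have hk' : k < 14 := hk
    clear hk
    interval_cases k
    · exact prel_0
    · exact prel_1
    · exact prel_2
    · exact prel_3
    · exact prel_4
    · exact prel_5
    · exact prel_6
    · exact prel_7
    · exact prel_8
    · exact prel_9
    · exact prel_10
    · exact prel_11
    · exact prel_12
    · exact prel_13
  hW := by
    intro k hk
    have hk' : k < 14 := hk
    clear hk
    interval_cases k
    · exact pW_0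
    · exact pW_1
    · exact pW_2
    · exact pW_3
    · exact pW_4
    · exact pW_5
    · exact pW_6
    · exact pW_7
    · exact pW_8
    · exact pW_9
    · exact pW_10
    · exact pW_11
    · exact pW_12
    · exact pW_13
  hC := by
    intro l hl q hq
    have hl' : l < 3 := hl
    clear hl
    interval_cases l
    · exact rangeAll_spec pC_0 q (Nat.zero_le _) (by simpa [n] using hq)
    · exact rangeAll_spec pC_1 q (Nat.zero_le _) (by simpa [n] using hq)
    · exact rangeAll_spec pC_2 q (Nat.zero_le _) (by simpa [n] using hq)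
  hkind := by
    intro i hi
    have h0 : (2 : Nat) ^ SS.a = 16384 := by decide +kernel
    have hi' : i < 16384 := by rw [← h0]; exact hi
    exact (join_range (range_of (p := (pkOK2 F n 593775 (DD.v F) (rootO Os) wds 1 SS Bs)) (lo := 0) (len := 8192) (hi := 8192) pk_c0 rfl) (range_of (p := (pkOK2 F n 593775 (DD.v F) (rootO Os) wds 1 SS Bs)) (lo := 8192) (len := 8192) (hi := 16384) pk_c1 rfl)) i (Nat.zero_le _) hi'
  hwds := by
    intro j a_1 ha
    have h : Core.allL (fun w => Core.allL (fun a => Nat.blt a 112) w) wdsL = true := by decide +kernel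
    unfold wds at ha
    by_cases hj : j < wdsL.length
    · rw [List.getD_eq_getElem _ _ hj] at ha
      exact blt_lt ((Core.allL_eq_true _ _).1 ((Core.allL_eq_true _ _).1 h _ (List.getElem_mem hj)) a_1 ha)
    · rw [List.getD_eq_default _ _ (not_lt.1 hj)] at ha
      simp at ha

theorem hC : Common2 n 112 145926144000 245760 14 8906625 29 F prog ds cs DD SS Bs Os wds rs goods where
  hn := hn
  hm1 := by decide
  hlt := hlt
  hp := hp
  hds := hds
  hdsm := hdsm
  hprod := by decide +kernel
  hBs := by decide +kernel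
  hDt := rfl
  hD := hD
  hcs := hcs
  hcomm := hcomm
  hc := by decide +kernel
  hLc := by decide +kernel
  hS := hS
  hP := by decide +kernel
  hN2 := by decide +kernel
  hmm := by norm_num
  hOs := hOs
  hb2 := fun q hq => Nat.eq_of_beq_eq_true (rangeAll_spec b2_ck q (Nat.zero_le _) (by simpa [n] using hq))
  hb1 := ⟨0, by decide, b1_ck⟩
  hAp := fun q hq => Nat.eq_of_beq_eq_true (rangeAll_spec Ap_ck q (Nat.zero_le _) (by simpa [n] using hq))
  hA1 := ⟨0, by decide, A1_ck⟩
  hq := by
    have h : Core.allL (fun r => Nat.blt r.2.2 n) rs = true := by decide +kernel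
    exact fun r hr => blt_lt ((Core.allL_eq_true _ _).1 h r hr)
  hchk := by
    intro i hi
    exact (join_range (join_range (join_range (join_range (join_range (range_of (p := (rchk F 0 DD rs goodIdx)) (lo := 0) (len := 10000) (hi := 10000) rc_c0 rfl) (join_range (range_of (p := (rchk F 0 DD rs goodIdx)) (lo := 10000) (len := 10000) (hi := 20000) rc_c1 rfl) (range_of (p := (rchk F 0 DD rs goodIdx)) (lo := 20000) (len := 10000) (hi := 30000) rc_c2 rfl))) (join_range (join_range (range_of (p := (rchk F 0 DD rs goodIdx)) (lo := 30000) (len := 10000) (hi := 40000) rc_c3 rfl) (range_of (p := (rchk F 0 DD rs goodIdx)) (lo := 40000) (len := 10000) (hi := 50000) rc_c4 rfl)) (join_range (range_of (p := (rchk F 0 DD rs goodIdx)) (lo := 50000) (len := 10000) (hi := 60000) rc_c5 rfl) (range_of (p := (rchk F 0 DD rs goodIdx)) (lo := 60000) (len := 10000) (hi := 70000) rc_c6 rfl)))) (join_range (join_range (join_range (range_of (p := (rchk F 0 DD rs goodIdx)) (lo := 70000) (len := 10000) (hi := 80000) rc_c7 rfl) (range_of (p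 := (rchk F 0 DD rs goodIdx)) (lo := 80000) (len := 10000) (hi := 90000) rc_c8 rfl)) (join_range (range_of (p := (rchk F 0 DD rs goodIdx)) (lo := 90000) (len := 10000) (hi := 100000) rc_c9 rfl) (range_of (p := (rchk F 0 DD rs goodIdx)) (lo := 100000) (len := 10000) (hi := 110000) rc_c10 rfl))) (join_range (join_range (range_of (p := (rchk F 0 DD rs goodIdx)) (lo := 110000) (len := 10000) (hi := 120000) rc_c11 rfl) (range_of (p := (rchk F 0 DD rs goodIdx)) (lo := 120000) (len := 10000) (hi := 130000) rc_c12 rfl)) (join_range (range_of (p := (rchk F 0 DD rs goodIdx)) (lo := 130000) (len := 10000) (hi := 140000) rc_c13 rfl) (range_of (p := (rchk F 0 DD rs goodIdx)) (lo := 140000) (len := 10000) (hi := 150000) rc_c14 rfl))))) (join_range (join_range (join_range (range_of (p := (rchk F 0 DD rs goodIdx)) (lo := 150000) (len := 10000) (hi := 160000) rc_c15 rfl) (join_range (range_of (p := (rchk F 0 DD rs goodIdx)) (lo := 160000) (len := 10000) (hi := 170000) rc_c16 rfl) (range_of (p := (rchk F 0 DD rs goodIdx)) (lo := 170000)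 (len := 10000) (hi := 180000) rc_c17 rfl))) (join_range (join_range (range_of (p := (rchk F 0 DD rs goodIdx)) (lo := 180000) (len := 10000) (hi := 190000) rc_c18 rfl) (range_of (p := (rchk F 0 DD rs goodIdx)) (lo := 190000) (len := 10000) (hi := 200000) rc_c19 rfl)) (join_range (range_of (p := (rchk F 0 DD rs goodIdx)) (lo := 200000) (len := 10000) (hi := 210000) rc_c20 rfl) (range_of (p := (rchk F 0 DD rs goodIdx)) (lo := 210000) (len := 10000) (hi := 220000) rc_c21 rfl)))) (join_range (join_range (join_range (range_of (p := (rchk F 0 DD rs goodIdx)) (lo := 220000) (len := 10000) (hi := 230000) rc_c22 rfl) (range_of (p := (rchk F 0 DD rs goodIdx)) (lo := 230000) (len := 10000) (hi := 240000) rc_c23 rfl)) (join_range (range_of (p := (rchk F 0 DD rs goodIdx)) (lo := 240000) (len := 10000) (hi := 250000) rc_c24 rfl) (range_of (p := (rchk F 0 DD rs goodIdx)) (lo := 250000) (len := 10000) (hi := 260000) rc_c25 rfl))) (join_range (join_range (range_of (p := (rchk F 0 DD rs goodIdx)) (lo := 260000) (len := 10000) (hi :=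 270000) rc_c26 rfl) (range_of (p := (rchk F 0 DD rs goodIdx)) (lo := 270000) (len := 10000) (hi := 280000) rc_c27 rfl)) (join_range (range_of (p := (rchk F 0 DD rs goodIdx)) (lo := 280000) (len := 10000) (hi := 290000) rc_c28 rfl) (range_of (p := (rchk F 0 DD rs goodIdx)) (lo := 290000) (len := 10000) (hi := 300000) rc_c29 rfl)))))) (join_range (join_range (join_range (join_range (range_of (p := (rchk F 0 DD rs goodIdx)) (lo := 300000) (len := 10000) (hi := 310000) rc_c30 rfl) (join_range (range_of (p := (rchk F 0 DD rs goodIdx)) (lo := 310000) (len := 10000) (hi := 320000) rc_c31 rfl) (range_of (p := (rchk F 0 DD rs goodIdx)) (lo := 320000) (len := 10000) (hi := 330000) rc_c32 rfl))) (join_range (join_range (range_of (p := (rchk F 0 DD rs goodIdx)) (lo := 330000) (len := 10000) (hi := 340000) rc_c33 rfl) (range_of (p := (rchk F 0 DD rs goodIdx)) (lo := 340000) (len := 10000) (hi := 350000) rc_c34 rfl)) (join_range (range_of (p := (rchk F 0 DD rs goodIdx)) (lo := 350000) (len := 10000) (hi := 360000) rc_c35 rfl)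 (range_of (p := (rchk F 0 DD rs goodIdx)) (lo := 360000) (len := 10000) (hi := 370000) rc_c36 rfl)))) (join_range (join_range (join_range (range_of (p := (rchk F 0 DD rs goodIdx)) (lo := 370000) (len := 10000) (hi := 380000) rc_c37 rfl) (range_of (p := (rchk F 0 DD rs goodIdx)) (lo := 380000) (len := 10000) (hi := 390000) rc_c38 rfl)) (join_range (range_of (p := (rchk F 0 DD rs goodIdx)) (lo := 390000) (len := 10000) (hi := 400000) rc_c39 rfl) (range_of (p := (rchk F 0 DD rs goodIdx)) (lo := 400000) (len := 10000) (hi := 410000) rc_c40 rfl))) (join_range (join_range (range_of (p := (rchk F 0 DD rs goodIdx)) (lo := 410000) (len := 10000) (hi := 420000) rc_c41 rfl) (range_of (p := (rchk F 0 DD rs goodIdx)) (lo := 420000) (len := 10000) (hi := 430000) rc_c42 rfl)) (join_range (range_of (p := (rchk F 0 DD rs goodIdx)) (lo := 430000) (len := 10000) (hi := 440000) rc_c43 rfl) (range_of (p := (rchk F 0 DD rs goodIdx)) (lo := 440000) (len := 10000) (hi := 450000) rc_c44 rfl))))) (join_range (join_range (join_range (range_of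 (p := (rchk F 0 DD rs goodIdx)) (lo := 450000) (len := 10000) (hi := 460000) rc_c45 rfl) (join_range (range_of (p := (rchk F 0 DD rs goodIdx)) (lo := 460000) (len := 10000) (hi := 470000) rc_c46 rfl) (range_of (p := (rchk F 0 DD rs goodIdx)) (lo := 470000) (len := 10000) (hi := 480000) rc_c47 rfl))) (join_range (join_range (range_of (p := (rchk F 0 DD rs goodIdx)) (lo := 480000) (len := 10000) (hi := 490000) rc_c48 rfl) (range_of (p := (rchk F 0 DD rs goodIdx)) (lo := 490000) (len := 10000) (hi := 500000) rc_c49 rfl)) (join_range (range_of (p := (rchk F 0 DD rs goodIdx)) (lo := 500000) (len := 10000) (hi := 510000) rc_c50 rfl) (range_of (p := (rchk F 0 DD rs goodIdx)) (lo := 510000) (len := 10000) (hi := 520000) rc_c51 rfl)))) (join_range (join_range (join_range (range_of (p := (rchk F 0 DD rs goodIdx)) (lo := 520000) (len := 10000) (hi := 530000) rc_c52 rfl) (range_of (p := (rchk F 0 DD rs goodIdx)) (lo := 530000) (len := 10000) (hi := 540000) rc_c53 rfl)) (join_range (range_of (p := (rchk F 0 DD rs goodIdx)) (lo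 := 540000) (len := 10000) (hi := 550000) rc_c54 rfl) (range_of (p := (rchk F 0 DD rs goodIdx)) (lo := 550000) (len := 10000) (hi := 560000) rc_c55 rfl))) (join_range (join_range (range_of (p := (rchk F 0 DD rs goodIdx)) (lo := 560000) (len := 10000) (hi := 570000) rc_c56 rfl) (range_of (p := (rchk F 0 DD rs goodIdx)) (lo := 570000) (len := 10000) (hi := 580000) rc_c57 rfl)) (join_range (range_of (p := (rchk F 0 DD rs goodIdx)) (lo := 580000) (len := 10000) (hi := 590000) rc_c58 rfl) (range_of (p := (rchk F 0 DD rs goodIdx)) (lo := 590000) (len := 3775) (hi := 593775) rc_c59 rfl))))))) i (Nat.zero_le _) hi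
  hrel := by
    intro r hr q hq
    exact rangeAll_spec ((Core.allL_eq_true _ _).1 rel_ck r hr) q (Nat.zero_le _) (by simpa [n] using hq)
  hgood := by
    intro x hx
    have h := (Core.allL_eq_true _ _).1 good_ck x hx
    rw [Core.ifB_eq_true] at h
    exact ⟨Nat.le_of_ble_eq_true h.1, h.2⟩

theorem hcr : ∀ q < n, F 110 (F 0 q) = powA (F 0) 4 (F 110 q) := fun q hq =>
  Nat.eq_of_beq_eq_true (rangeAll_spec cr_ck q (Nat.zero_le _) (by simpa [n] using hq))

instance fp : Fact (Nat.Prime 29) := ⟨by norm_num⟩

theorem hR2 : ∀ x ∈ R2, (∀ r ∈ x.2, (r.1, r.2.1) ∈ rs.map (fun r => (r.1, r.2.1)) ∧ r.2.2 < n) ∧ ∀ i < DD.L, relAny (powA (F 0) x.1) (DD.v F i) x.2 = true := by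
  intro x hx
  simp only [R2, List.mem_cons, List.not_mem_nil, or_false] at hx
  rcases hx with rfl
  · refine ⟨by decide +kernel, fun i hi => (join_range (join_range (join_range (join_range (join_range (range_of (p := (fun i => relAny (powA (F 0) 2) (DD.v F i) (R2.getD 0 (0, [])).2)) (lo := 0) (len := 10000) (hi := 10000) r2_c0_0 rfl) (join_range (range_of (p := (fun i => relAny (powA (F 0) 2) (DD.v F i) (R2.getD 0 (0, [])).2)) (lo := 10000) (len := 10000) (hi := 20000) r2_c0_1 rfl) (range_of (p := (fun i => relAny (powA (F 0) 2) (DD.v F i) (R2.getD 0 (0, [])).2)) (lo := 20000) (len := 10000) (hi := 30000) r2_c0_2 rfl))) (join_range (join_range (range_of (p := (fun i => relAny (powA (F 0) 2) (DD.v F i) (R2.getD 0 (0, [])).2)) (lo := 30000) (len := 10000) (hi := 40000) r2_c0_3 rfl) (range_of (p := (fun i => relAny (powA (F 0) 2) (DD.v F i) (R2.getD 0 (0, [])).2)) (lo := 40000) (len := 10000) (hi := 50000) r2_c0_4 rfl)) (join_range (range_of (p := (fun i => relAny (powA (F 0) 2) (DD.v F i) (R2.getD 0 (0, [])).2))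 (lo := 50000) (len := 10000) (hi := 60000) r2_c0_5 rfl) (range_of (p := (fun i => relAny (powA (F 0) 2) (DD.v F i) (R2.getD 0 (0, [])).2)) (lo := 60000) (len := 10000) (hi := 70000) r2_c0_6 rfl)))) (join_range (join_range (join_range (range_of (p := (fun i => relAny (powA (F 0) 2) (DD.v F i) (R2.getD 0 (0, [])).2)) (lo := 70000) (len := 10000) (hi := 80000) r2_c0_7 rfl) (range_of (p := (fun i => relAny (powA (F 0) 2) (DD.v F i) (R2.getD 0 (0, [])).2)) (lo := 80000) (len := 10000) (hi := 90000) r2_c0_8 rfl)) (join_range (range_of (p := (fun i => relAny (powA (F 0) 2) (DD.v F i) (R2.getD 0 (0, [])).2)) (lo := 90000) (len := 10000) (hi := 100000) r2_c0_9 rfl) (range_of (p := (fun i => relAny (powA (F 0) 2) (DD.v F i) (R2.getD 0 (0, [])).2)) (lo := 100000) (len := 10000) (hi := 110000) r2_c0_10 rfl))) (join_range (join_range (range_of (p := (fun i => relAny (powA (F 0) 2) (DD.v F i) (R2.getD 0 (0, [])).2)) (lo := 110000) (len := 10000) (hi := 120000) r2_c0_11 rfl) (range_of (p := (fun i => relAny (powA (F 0) 2) (DD.v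 F i) (R2.getD 0 (0, [])).2)) (lo := 120000) (len := 10000) (hi := 130000) r2_c0_12 rfl)) (join_range (range_of (p := (fun i => relAny (powA (F 0) 2) (DD.v F i) (R2.getD 0 (0, [])).2)) (lo := 130000) (len := 10000) (hi := 140000) r2_c0_13 rfl) (range_of (p := (fun i => relAny (powA (F 0) 2) (DD.v F i) (R2.getD 0 (0, [])).2)) (lo := 140000) (len := 10000) (hi := 150000) r2_c0_14 rfl))))) (join_range (join_range (join_range (range_of (p := (fun i => relAny (powA (F 0) 2) (DD.v F i) (R2.getD 0 (0, [])).2)) (lo := 150000) (len := 10000) (hi := 160000) r2_c0_15 rfl) (join_range (range_of (p := (fun i => relAny (powA (F 0) 2) (DD.v F i) (R2.getD 0 (0, [])).2)) (lo := 160000) (len := 10000) (hi := 170000) r2_c0_16 rfl) (range_of (p := (fun i => relAny (powA (F 0) 2) (DD.v F i) (R2.getD 0 (0, [])).2)) (lo := 170000) (len := 10000) (hi := 180000) r2_c0_17 rfl))) (join_range (join_range (range_of (p := (fun i => relAny (powA (F 0) 2) (DD.v F i) (R2.getD 0 (0, [])).2)) (lo := 180000) (len := 10000) (hi := 190000) r2_c0_18 rfl)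 (range_of (p := (fun i => relAny (powA (F 0) 2) (DD.v F i) (R2.getD 0 (0, [])).2)) (lo := 190000) (len := 10000) (hi := 200000) r2_c0_19 rfl)) (join_range (range_of (p := (fun i => relAny (powA (F 0) 2) (DD.v F i) (R2.getD 0 (0, [])).2)) (lo := 200000) (len := 10000) (hi := 210000) r2_c0_20 rfl) (range_of (p := (fun i => relAny (powA (F 0) 2) (DD.v F i) (R2.getD 0 (0, [])).2)) (lo := 210000) (len := 10000) (hi := 220000) r2_c0_21 rfl)))) (join_range (join_range (join_range (range_of (p := (fun i => relAny (powA (F 0) 2) (DD.v F i) (R2.getD 0 (0, [])).2)) (lo := 220000) (len := 10000) (hi := 230000) r2_c0_22 rfl) (range_of (p := (fun i => relAny (powA (F 0) 2) (DD.v F i) (R2.getD 0 (0, [])).2)) (lo := 230000) (len := 10000) (hi := 240000) r2_c0_23 rfl)) (join_range (range_of (p := (fun i => relAny (powA (F 0) 2) (DD.v F i) (R2.getD 0 (0, [])).2)) (lo := 240000) (len := 10000) (hi := 250000) r2_c0_24 rfl) (range_of (p := (fun i => relAny (powA (F 0) 2) (DD.v F i) (R2.getD 0 (0, [])).2)) (lo := 250000) (len := 10000)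 (hi := 260000) r2_c0_25 rfl))) (join_range (join_range (range_of (p := (fun i => relAny (powA (F 0) 2) (DD.v F i) (R2.getD 0 (0, [])).2)) (lo := 260000) (len := 10000) (hi := 270000) r2_c0_26 rfl) (range_of (p := (fun i => relAny (powA (F 0) 2) (DD.v F i) (R2.getD 0 (0, [])).2)) (lo := 270000) (len := 10000) (hi := 280000) r2_c0_27 rfl)) (join_range (range_of (p := (fun i => relAny (powA (F 0) 2) (DD.v F i) (R2.getD 0 (0, [])).2)) (lo := 280000) (len := 10000) (hi := 290000) r2_c0_28 rfl) (range_of (p := (fun i => relAny (powA (F 0) 2) (DD.v F i) (R2.getD 0 (0, [])).2)) (lo := 290000) (len := 10000) (hi := 300000) r2_c0_29 rfl)))))) (join_range (join_range (join_range (join_range (range_of (p := (fun i => relAny (powA (F 0) 2) (DD.v F i) (R2.getD 0 (0, [])).2)) (lo := 300000) (len := 10000) (hi := 310000) r2_c0_30 rfl) (join_range (range_of (p := (fun i => relAny (powA (F 0) 2) (DD.v F i) (R2.getD 0 (0, [])).2)) (lo := 310000) (len := 10000) (hi := 320000) r2_c0_31 rfl) (range_of (p := (fun i => relAny (powA (F 0)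 2) (DD.v F i) (R2.getD 0 (0, [])).2)) (lo := 320000) (len := 10000) (hi := 330000) r2_c0_32 rfl))) (join_range (join_range (range_of (p := (fun i => relAny (powA (F 0) 2) (DD.v F i) (R2.getD 0 (0, [])).2)) (lo := 330000) (len := 10000) (hi := 340000) r2_c0_33 rfl) (range_of (p := (fun i => relAny (powA (F 0) 2) (DD.v F i) (R2.getD 0 (0, [])).2)) (lo := 340000) (len := 10000) (hi := 350000) r2_c0_34 rfl)) (join_range (range_of (p := (fun i => relAny (powA (F 0) 2) (DD.v F i) (R2.getD 0 (0, [])).2)) (lo := 350000) (len := 10000) (hi := 360000) r2_c0_35 rfl) (range_of (p := (fun i => relAny (powA (F 0) 2) (DD.v F i) (R2.getD 0 (0, [])).2)) (lo := 360000) (len := 10000) (hi := 370000) r2_c0_36 rfl)))) (join_range (join_range (join_range (range_of (p := (fun i => relAny (powA (F 0) 2) (DD.v F i) (R2.getD 0 (0, [])).2)) (lo := 370000) (len := 10000) (hi := 380000) r2_c0_37 rfl) (range_of (p := (fun i => relAny (powA (F 0) 2) (DD.v F i) (R2.getD 0 (0, [])).2)) (lo := 380000) (len := 10000) (hi := 390000) r2_c0_38 rfl))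 (join_range (range_of (p := (fun i => relAny (powA (F 0) 2) (DD.v F i) (R2.getD 0 (0, [])).2)) (lo := 390000) (len := 10000) (hi := 400000) r2_c0_39 rfl) (range_of (p := (fun i => relAny (powA (F 0) 2) (DD.v F i) (R2.getD 0 (0, [])).2)) (lo := 400000) (len := 10000) (hi := 410000) r2_c0_40 rfl))) (join_range (join_range (range_of (p := (fun i => relAny (powA (F 0) 2) (DD.v F i) (R2.getD 0 (0, [])).2)) (lo := 410000) (len := 10000) (hi := 420000) r2_c0_41 rfl) (range_of (p := (fun i => relAny (powA (F 0) 2) (DD.v F i) (R2.getD 0 (0, [])).2)) (lo := 420000) (len := 10000) (hi := 430000) r2_c0_42 rfl)) (join_range (range_of (p := (fun i => relAny (powA (F 0) 2) (DD.v F i) (R2.getD 0 (0, [])).2)) (lo := 430000) (len := 10000) (hi := 440000) r2_c0_43 rfl) (range_of (p := (fun i => relAny (powA (F 0) 2) (DD.v F i) (R2.getD 0 (0, [])).2)) (lo := 440000) (len := 10000) (hi := 450000) r2_c0_44 rfl))))) (join_range (join_range (join_range (range_of (p := (fun i => relAny (powA (F 0) 2) (DD.v F i) (R2.getD 0 (0, [])).2)) (lo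 := 450000) (len := 10000) (hi := 460000) r2_c0_45 rfl) (join_range (range_of (p := (fun i => relAny (powA (F 0) 2) (DD.v F i) (R2.getD 0 (0, [])).2)) (lo := 460000) (len := 10000) (hi := 470000) r2_c0_46 rfl) (range_of (p := (fun i => relAny (powA (F 0) 2) (DD.v F i) (R2.getD 0 (0, [])).2)) (lo := 470000) (len := 10000) (hi := 480000) r2_c0_47 rfl))) (join_range (join_range (range_of (p := (fun i => relAny (powA (F 0) 2) (DD.v F i) (R2.getD 0 (0, [])).2)) (lo := 480000) (len := 10000) (hi := 490000) r2_c0_48 rfl) (range_of (p := (fun i => relAny (powA (F 0) 2) (DD.v F i) (R2.getD 0 (0, [])).2)) (lo := 490000) (len := 10000) (hi := 500000) r2_c0_49 rfl)) (join_range (range_of (p := (fun i => relAny (powA (F 0) 2) (DD.v F i) (R2.getD 0 (0, [])).2)) (lo := 500000) (len := 10000) (hi := 510000) r2_c0_50 rfl) (range_of (p := (fun i => relAny (powA (F 0) 2) (DD.v F i) (R2.getD 0 (0, [])).2)) (lo := 510000) (len := 10000) (hi := 520000) r2_c0_51 rfl)))) (join_range (join_range (join_range (range_of (p := (fun i => relAny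 (powA (F 0) 2) (DD.v F i) (R2.getD 0 (0, [])).2)) (lo := 520000) (len := 10000) (hi := 530000) r2_c0_52 rfl) (range_of (p := (fun i => relAny (powA (F 0) 2) (DD.v F i) (R2.getD 0 (0, [])).2)) (lo := 530000) (len := 10000) (hi := 540000) r2_c0_53 rfl)) (join_range (range_of (p := (fun i => relAny (powA (F 0) 2) (DD.v F i) (R2.getD 0 (0, [])).2)) (lo := 540000) (len := 10000) (hi := 550000) r2_c0_54 rfl) (range_of (p := (fun i => relAny (powA (F 0) 2) (DD.v F i) (R2.getD 0 (0, [])).2)) (lo := 550000) (len := 10000) (hi := 560000) r2_c0_55 rfl))) (join_range (join_range (range_of (p := (fun i => relAny (powA (F 0) 2) (DD.v F i) (R2.getD 0 (0, [])).2)) (lo := 560000) (len := 10000) (hi := 570000) r2_c0_56 rfl) (range_of (p := (fun i => relAny (powA (F 0) 2) (DD.v F i) (R2.getD 0 (0, [])).2)) (lo := 570000) (len := 10000) (hi := 580000) r2_c0_57 rfl)) (join_range (range_of (p := (fun i => relAny (powA (F 0) 2) (DD.v F i) (R2.getD 0 (0, [])).2)) (lo := 580000) (len := 10000) (hi := 590000) r2_c0_58 rfl) (range_of (p :=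 (fun i => relAny (powA (F 0) 2) (DD.v F i) (R2.getD 0 (0, [])).2)) (lo := 590000) (len := 3775) (hi := 593775) r2_c0_59 rfl))))))) i (Nat.zero_le _) hi⟩

/-- The main theorem. -/
theorem main {H : Subgroup (Equiv.Perm (Fin 4060))} (hcard : Nat.card H = 145926144000) {A b : Equiv.Perm (Fin 4060)} (hA : A ∈ H) (hb : b ∈ H) (rA : Rp (F 0) A) (rb : Rp (F 1) b) : Nat.card (Out H) = 1 := by
  refine master_one2 hC hcard hA hb rA rb (gc := 110) (r := 4) (mp := 5031936000) (by decide) hcr (by decide +kernel) (by norm_num) R2 (by decide +kernel) hR2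

/-- The two generators are in a group containing the given generators. -/
theorem has_gens {H : Subgroup (Equiv.Perm (Fin 4060))} (hX : ∀ g, 112 ≤ g → g < 116 → Has F H g) : Has F H 0 ∧ Has F H 1 := by
  have h2 : ∀ g, 112 ≤ g → g < 125 → Has F H g := by
    refine has_range hX prog2 ?_ ?_
    · intro g h1 h2
      have hb : Core.allL (fun g => Core.allL (fun a => Core.ifB (Nat.ble 112 a) (Nat.blt a g)) (prog2 g)) (List.range' 116 9) = true := by decide +kernel
      intro a ha
      have h3 := (Core.allL_eq_true _ _).1 ((Core.allL_eq_true _ _).1 hb g (List.mem_range'_1.2 ⟨h1, by omega⟩)) a ha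
      rw [Core.ifB_eq_true] at h3
      exact ⟨Nat.le_of_ble_eq_true h3.1, blt_lt h3.2⟩
    · intro g h1 h2 q hq
      have h : progR F g (prog2 g) 0 4060 = true := by
        interval_cases g
        · exact hp2_116
        · exact hp2_117
        · exact hp2_118
        · exact hp2_119
        · exact hp2_120
        · exact hp2_121
        · exact hp2_122
        · exact hp2_123
        · exact hp2_124
      exact Nat.eq_of_beq_eq_true (rangeAll_spec h q (Nat.zero_le _) (by omega))
  refine ⟨has_of_word (w := [117]) ?_ ?_, has_of_word (w := [124]) ?_ ?_⟩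
  · intro a ha
    simp only [List.mem_singleton] at ha
    subst ha
    exact h2 _ (by norm_num) (by norm_num)
  · have h : rangeAll (fun q => Nat.beq (F 0 q) (wApp F [117] q)) 0 4060 = true := by decide +kernel
    exact fun q hq => Nat.eq_of_beq_eq_true (rangeAll_spec h q (Nat.zero_le _) (by omega))
  · intro a ha
    simp only [List.mem_singleton] at ha
    subst ha
    exact h2 _ (by norm_num) (by norm_num)
  · have h : rangeAll (fun q => Nat.beq (F 1 q) (wApp F [124] q)) 0 4060 = true := by decide +kernel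
    exact fun q hq => Nat.eq_of_beq_eq_true (rangeAll_spec h q (Nat.zero_le _) (by omega))

/-- The final theorem. -/
theorem card_out {H : Subgroup (Equiv.Perm (Fin 4060))} (hcard : Nat.card H = 145926144000) (hX : ∀ g, 112 ≤ g → g < 116 → Has F H g) : Nat.card (Out H) = 1 := by
  obtain ⟨⟨A, hA, rA⟩, ⟨b, hb, rb⟩⟩ := has_gens hX
  exact main hcard hA hb rA rb

/-- The lower bound of the order. -/
theorem card_ge {H : Subgroup (Equiv.Perm (Fin 4060))} (hX : ∀ g, 112 ≤ g → g < 116 → Has F H g) : 145926144000 ≤ Nat.card H := by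
  obtain ⟨h0, h1⟩ := has_gens hX
  have h := card_ge_of_data hn prog hlt hp ds hds hdsm h0 h1
  have e : 145926144000 = (ds.map LevD.m).prod := by decide +kernel
  rw [e]
  exact h

end Cfsg.Agent.Lib.PermComp.OutP.Ru
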